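import Cfsg.Agent.Lib.Plane.Basic
import Mathlib.LinearAlgebra.Projectivization.Basic
import Mathlib.LinearAlgebra.FiniteDimensional.Lemmas
import Mathlib.LinearAlgebra.Dual.Lemmas
import Mathlib.LinearAlgebra.Pi
import Mathlib.LinearAlgebra.Matrix.DotProduct
import Mathlib.Tactic.FieldSimp
import Mathlib.Tactic.LinearCombination

/-!
A plane coordinatised by a field is the projective plane over it.
-/

set_option autoImplicit false

namespace CfsgLib.Plane

open Configuration

/-- Coordinates with values in a field. -/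
structure Coords (F : Type*) [Field F] (P L : Type*) [Membership P L] where
  aff : F → F → P
  dir : F → P
  top : P
  lnv : F → F → L
  lv : F → L
  linf : L
  aff_lnv : ∀ x y m k, aff x y ∈ lnv m k ↔ y = m * x + k
  aff_lv : ∀ x y c, aff x y ∈ lv c ↔ x = c
  aff_linf : ∀ x y, aff x y ∉ linf
  dir_lnv : ∀ i m k, dir i ∈ lnv m k ↔ i = m
  dir_lv : ∀ i c, dir i ∉ lv c
  dir_linf : ∀ i, dir i ∈ linf
  top_lnv : ∀ m k, top ∉ lnv m k
  top_lv : ∀ c, top ∈ lv c
  top_linf : top ∈ linf
  surj : ∀ p : P, p = top ∨ (∃ i, dir i = p) ∨ ∃ x y, aff x y = p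

namespace Coords

variable {F : Type*} [Field F] {P L : Type*} [Membership P L]

theorem aff_inj (C : Coords F P L) {x y x' y' : F} (h : C.aff x y = C.aff x' y') : x = x' ∧ y = y' := by
  have h1 : x = x' := ((C.aff_lv x' y' x).1 (h ▸ (C.aff_lv x y x).2 rfl)).symm
  have h2 := (C.aff_lnv x' y' 0 y).1 (h ▸ (C.aff_lnv x y 0 y).2 (by rw [zero_mul, zero_add]))
  rw [zero_mul, zero_add] at h2
  exact ⟨h1, h2.symm⟩

theorem dir_inj (C : Coords F P L) {i j : F} (h : C.dir i = C.dir j) : i = j :=
  ((C.dir_lnv j i 0).1 (h ▸ (C.dir_lnv i i 0).2 rfl)).symm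

theorem aff_ne_dir (C : Coords F P L) {x y i : F} : C.aff x y ≠ C.dir i := fun h =>
  C.aff_linf x y (h ▸ C.dir_linf i)

theorem aff_ne_top (C : Coords F P L) {x y : F} : C.aff x y ≠ C.top := fun h =>
  C.aff_linf x y (h ▸ C.top_linf)

theorem dir_ne_top (C : Coords F P L) {i : F} : C.dir i ≠ C.top := fun h =>
  C.dir_lv i 0 (h ▸ C.top_lv 0)

open scoped Classical in
/-- The point with given homogeneous coordinates. -/
noncomputable def pt (C : Coords F P L) (v : Fin 3 → F) : P :=
  if v 2 ≠ 0 then C.aff (v 0 / v 2) (v 1 / v 2) else if v 0 ≠ 0 then C.dir (v 1 / v 0) else C.top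

open scoped Classical in
/-- The line with given homogeneous coordinates. -/
noncomputable def ln (C : Coords F P L) (w : Fin 3 → F) : L :=
  if w 1 ≠ 0 then C.lnv (-w 0 / w 1) (-w 2 / w 1) else if w 0 ≠ 0 then C.lv (-w 2 / w 0) else C.linf

theorem pt_smul (C : Coords F P L) {v : Fin 3 → F} {a : F} (ha : a ≠ 0) : C.pt (a • v) = C.pt v := by
  by_cases h2 : v 2 = 0 <;> by_cases h0 : v 0 = 0 <;> simp [pt, mul_div_mul_left _ _ ha, ha, h0, h2]

theorem ne_zero_iff3 {v : Fin 3 → F} : v ≠ 0 ↔ v 0 ≠ 0 ∨ v 1 ≠ 0 ∨ v 2 ≠ 0 := by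
  rw [Function.ne_iff]
  simp [Fin.exists_fin_succ]

theorem mem_iff (C : Coords F P L) {v w : Fin 3 → F} (hv : v ≠ 0) (hw : w ≠ 0) :
    C.pt v ∈ C.ln w ↔ v 0 * w 0 + v 1 * w 1 + v 2 * w 2 = 0 := by
  rw [ne_zero_iff3] at hv hw
  unfold pt ln
  by_cases hv2 : v 2 = 0
  · by_cases hv0 : v 0 = 0
    · have hv1 : v 1 ≠ 0 := by tauto
      rw [if_neg (not_not.2 hv2), if_neg (not_not.2 hv0), hv0, hv2]
      split_ifs with h1 h0
      · simp [C.top_lnv, hv1, h1]
      · simp [C.top_lv, not_not.1 h1]
      · simp [C.top_linf, not_not.1 h1]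
    · rw [if_neg (not_not.2 hv2), if_pos hv0, hv2]
      split_ifs with h1 h0
      · rw [C.dir_lnv]
        constructor <;> intro h
        · field_simp at h; linear_combination h
        · field_simp; linear_combination h
      · simp [C.dir_lv, not_not.1 h1, hv0, h0]
      · simp [C.dir_linf, not_not.1 h1, not_not.1 h0]
  · rw [if_pos hv2]
    split_ifs with h1 h0
    · rw [C.aff_lnv]
      constructor <;> intro h
      · field_simp at h; linear_combination h
      · field_simp; linear_combination h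
    · rw [C.aff_lv, not_not.1 h1]
      constructor <;> intro h
      · field_simp at h; linear_combination h
      · field_simp; linear_combination h
    · have : w 2 ≠ 0 := by tauto
      simp [C.aff_linf, not_not.1 h1, not_not.1 h0, hv2, this]

theorem pt_surj (C : Coords F P L) (p : P) : ∃ v : Fin 3 → F, v ≠ 0 ∧ C.pt v = p := by
  rcases C.surj p with rfl | ⟨i, rfl⟩ | ⟨x, y, rfl⟩
  · exact ⟨![0, 1, 0], by simp, by simp [pt]⟩
  · exact ⟨![1, i, 0], by simp, by simp [pt]⟩
  · exact ⟨![x, y, 1], by simp, by simp [pt]⟩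

theorem pt_inj (C : Coords F P L) {v v' : Fin 3 → F} (hv : v ≠ 0) (hv' : v' ≠ 0) (h : C.pt v = C.pt v') :
    ∃ a : F, a • v' = v := by
  rw [ne_zero_iff3] at hv hv'
  unfold pt at h
  by_cases h2 : v 2 = 0 <;> by_cases h2' : v' 2 = 0
  · by_cases h0 : v 0 = 0 <;> by_cases h0' : v' 0 = 0
    · have h1' : v' 1 ≠ 0 := by tauto
      refine ⟨v 1 / v' 1, funext fun k => ?_⟩
      fin_cases k <;> simp [h0, h0', h2, h2', div_mul_cancel₀ _ h1']
    · rw [if_neg (not_not.2 h2), if_neg (not_not.2 h0), if_neg (not_not.2 h2'), if_pos h0'] at h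
      exact absurd h.symm C.dir_ne_top
    · rw [if_neg (not_not.2 h2), if_pos h0, if_neg (not_not.2 h2'), if_neg (not_not.2 h0')] at h
      exact absurd h C.dir_ne_top
    · rw [if_neg (not_not.2 h2), if_pos h0, if_neg (not_not.2 h2'), if_pos h0'] at h
      have e := C.dir_inj h
      refine ⟨v 0 / v' 0, funext fun k => ?_⟩
      fin_cases k <;> simp [h2, h2', div_mul_cancel₀ _ h0']
      field_simp at e ⊢
      linear_combination -e
  · rw [if_neg (not_not.2 h2), if_pos h2'] at h
    split_ifs at h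
    · exact absurd h.symm C.aff_ne_dir
    · exact absurd h.symm C.aff_ne_top
  · rw [if_pos h2, if_neg (not_not.2 h2')] at h
    split_ifs at h
    · exact absurd h C.aff_ne_dir
    · exact absurd h C.aff_ne_top
  · rw [if_pos h2, if_pos h2'] at h
    obtain ⟨e0, e1⟩ := C.aff_inj h
    refine ⟨v 2 / v' 2, funext fun k => ?_⟩
    fin_cases k <;> simp [div_mul_cancel₀ _ h2']
    · field_simp at e0 ⊢
      linear_combination -e0
    · field_simp at e1 ⊢
      linear_combination -e1

theorem exists_projEquiv (C : Coords F P L) :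
    ∃ φ : P ≃ Projectivization F (Fin 3 → F), ∀ (v : Fin 3 → F) (hv : v ≠ 0), φ (C.pt v) = Projectivization.mk F v hv := by
  let g : Projectivization F (Fin 3 → F) → P := Projectivization.lift (fun v => C.pt v.1) fun a b t h => by
    have ht : t ≠ 0 := fun e => a.2 (by rw [h, e, zero_smul])
    rw [h, C.pt_smul ht]
  have hg : ∀ (v : Fin 3 → F) (hv : v ≠ 0), g (Projectivization.mk F v hv) = C.pt v := fun v hv =>
    Projectivization.lift_mk ..
  have hinj : Function.Injective g := fun x y h => by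
    induction x using Projectivization.ind with
    | h v hv =>
      induction y using Projectivization.ind with
      | h v' hv' =>
        rw [hg, hg] at h
        exact (Projectivization.mk_eq_mk_iff' F v v' hv hv').2 (C.pt_inj hv hv' h)
  have hsurj : Function.Surjective g := fun p => by
    obtain ⟨v, hv, e⟩ := C.pt_surj p
    exact ⟨Projectivization.mk F v hv, (hg v hv).trans e⟩
  refine ⟨(Equiv.ofBijective g ⟨hinj, hsurj⟩).symm, fun v hv => ?_⟩
  rw [Equiv.symm_apply_eq]
  exact (hg v hv).symm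

/-- The functional of a coordinate vector. -/
def form (w : Fin 3 → F) : (Fin 3 → F) →ₗ[F] F :=
  w 0 • LinearMap.proj 0 + w 1 • LinearMap.proj 1 + w 2 • LinearMap.proj 2

theorem form_apply (w v : Fin 3 → F) : form w v = v 0 * w 0 + v 1 * w 1 + v 2 * w 2 := by
  simp [form, mul_comm]

variable [ProjectivePlane P L] [Finite P] [Finite L]

/-- The plane is Desarguesian. -/
theorem desarguesian (C : Coords F P L) :
    ∃ φ : P ≃ Projectivization F (Fin 3 → F),
      (∀ l : L, ∃ W : Submodule F (Fin 3 → F), Module.finrank F W = 2 ∧ ∀ p : P, p ∈ l ↔ (φ p).submodule ≤ W) ∧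
      (∀ W : Submodule F (Fin 3 → F), Module.finrank F W = 2 → ∃ l : L, ∀ p : P, p ∈ l ↔ (φ p).submodule ≤ W) := by
  obtain ⟨φ, hφ⟩ := C.exists_projEquiv
  have key : ∀ w : Fin 3 → F, w ≠ 0 → ∀ p : P, p ∈ C.ln w ↔ (φ p).submodule ≤ LinearMap.ker (form w) := by
    intro w hw p
    obtain ⟨v, hv, rfl⟩ := C.pt_surj p
    rw [hφ v hv, Projectivization.submodule_mk, Submodule.span_singleton_le_iff_mem, LinearMap.mem_ker, form_apply,
      C.mem_iff hv hw]
  have hrank : ∀ w : Fin 3 → F, w ≠ 0 → Module.finrank F (LinearMap.ker (form w)) = 2 := by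
    intro w hw
    have hf : form w ≠ 0 := by
      intro h
      rw [ne_zero_iff3] at hw
      have e0 := LinearMap.congr_fun h (Pi.single 0 1)
      have e1 := LinearMap.congr_fun h (Pi.single 1 1)
      have e2 := LinearMap.congr_fun h (Pi.single 2 1)
      simp [form_apply] at e0 e1 e2
      tauto
    have := Module.Dual.finrank_ker_add_one_of_ne_zero (f := form w) hf
    rw [Module.finrank_pi, Fintype.card_fin] at this
    omega
  refine ⟨φ, fun l => ?_, fun W hW => ?_⟩
  · obtain ⟨p, hp, -⟩ := exists_mem_ne l (C.top)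
    obtain ⟨q, hq, hqp⟩ := exists_mem_ne l p
    obtain ⟨v, hv, rfl⟩ := C.pt_surj p
    obtain ⟨v', hv', rfl⟩ := C.pt_surj q
    set w : Fin 3 → F := ![v 1 * v' 2 - v 2 * v' 1, v 2 * v' 0 - v 0 * v' 2, v 0 * v' 1 - v 1 * v' 0]
    have hw : w ≠ 0 := by
      intro h
      refine hqp ?_
      have e0 : v 1 * v' 2 - v 2 * v' 1 = 0 := congrFun h 0
      have e1 : v 2 * v' 0 - v 0 * v' 2 = 0 := congrFun h 1
      have e2 : v 0 * v' 1 - v 1 * v' 0 = 0 := congrFun h 2
      obtain ⟨a, ha⟩ : ∃ a : F, v' = a • v := by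
        rcases ne_zero_iff3.1 hv with h' | h' | h'
        · refine ⟨v' 0 / v 0, funext fun k => ?_⟩
          fin_cases k <;> simp [div_mul_cancel₀ _ h'] <;> field_simp
          · linear_combination e2
          · linear_combination -e1
        · refine ⟨v' 1 / v 1, funext fun k => ?_⟩
          fin_cases k <;> simp [div_mul_cancel₀ _ h'] <;> field_simp
          · linear_combination -e2
          · linear_combination e0
        · refine ⟨v' 2 / v 2, funext fun k => ?_⟩
          fin_cases k <;> simp [div_mul_cancel₀ _ h'] <;> field_simp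
          · linear_combination e1
          · linear_combination -e0
      have ha0 : a ≠ 0 := fun e => hv' (by rw [ha, e, zero_smul])
      rw [ha, C.pt_smul ha0]
    refine ⟨LinearMap.ker (form w), hrank w hw, fun r => ?_⟩
    rw [← key w hw]
    have : l = C.ln w := line_eq hqp.symm hp hq ((C.mem_iff hv hw).2 (by simp [w]; ring))
      ((C.mem_iff hv' hw).2 (by simp [w]; ring))
    rw [this]
  · have hlt : W < ⊤ := by
      refine lt_top_iff_ne_top.2 fun h => ?_
      rw [h, finrank_top, Module.finrank_pi, Fintype.card_fin] at hW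
      omega
    obtain ⟨f, hf, hWf⟩ := Submodule.exists_le_ker_of_lt_top W hlt
    set w : Fin 3 → F := fun k => f (Pi.single k 1)
    have hfw : f = form w := by
      refine LinearMap.pi_ext' fun k => LinearMap.ext_ring ?_
      fin_cases k <;> simp [form, w]
    have hw : w ≠ 0 := fun h => hf (by rw [hfw, h]; simp [form])
    have hWe : W = LinearMap.ker (form w) :=
      Submodule.eq_of_le_of_finrank_le (hfw ▸ hWf) (by rw [hrank w hw, hW])
    exact ⟨C.ln w, fun p => hWe ▸ key w hw p⟩

end Coords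

end CfsgLib.Plane
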