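import Cfsg.Agent.Lib.Plane.Frame
import Cfsg.Agent.Lib.Plane.Coords
import Cfsg.Agent.Lib.Plane.Semifield

/-!
A plane all of whose lines and points are translation lines and points is coordinatised by a
finite field.
-/

set_option autoImplicit false

namespace CfsgLib.Plane

open Configuration Configuration.ProjectivePlane MulAction

universe u

section

variable {G : Type u} [Group G] [Finite G] {P L : Type u} [Membership P L] [ProjectivePlane P L]
  [Finite P] [Finite L] [MulAction G P] [MulAction G L] [IsColl G P L] [FaithfulSMul G P]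

omit [Finite G] [MulAction G P] [MulAction G L] [IsColl G P L] [FaithfulSMul G P] in
theorem exists_frame : ∃ (O Y H : P) (l vy vh : L), Frame O Y H l vy vh := by
  obtain ⟨-, -, -, l, -⟩ := ProjectivePlane.exists_config (P := P) (L := L)
  obtain ⟨O, hO⟩ := exists_point_not_mem (P := P) l
  obtain ⟨Y, hY, -⟩ := exists_mem_ne l O
  obtain ⟨H, hH, hHY⟩ := exists_mem_ne l Y
  have hYO : Y ≠ O := fun e => hO (e ▸ hY)
  have hHO : H ≠ O := fun e => hO (e ▸ hH)
  exact ⟨O, Y, H, l, join Y O, join H O, hO, hY, hH, hHY.symm, join_left hYO, join_right hYO, join_left hHO, join_right hHO⟩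

namespace Frame

variable {O Y H : P} {l vy vh : L}

/-- The line of slope `σ` through `O` in affine coordinates. -/
theorem mem_shear_line (f : Frame O Y H l vy vh) {σ a b : G} (hσ : σ ∈ EC G Y vy) (ha : a ∈ EC G H l)
    (hb : b ∈ EC G Y l) : (a * b) • O ∈ σ • vh ↔ b = br σ a := by
  have hbr := f.br_mem hσ ha
  have h0 : (a * br σ a) • O ∈ σ • vh := by
    have e : (a * br σ a) = σ * a * σ⁻¹ := by rw [← (f.commute_BA hbr ha).eq]; simp only [br]; group
    rw [e, mul_smul, mul_smul, inv_smul_eq_iff.2 (hσ.1 O f.hOvy).symm]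
    exact smul_mem σ ((mem_iff_of_fixed (ha.2 vh f.hHvh)).2 f.hOvh)
  refine ⟨fun h => ?_, fun h => h ▸ h0⟩
  have hv : ∀ {c : G}, c ∈ EC G Y l → (a * c) • O ∈ a • vy := fun hc => by
    rw [mul_smul]
    exact smul_mem a ((mem_iff_of_fixed (hc.2 vy f.hYvy)).2 f.hOvy)
  have hne : σ • vh ≠ a • vy := fun e => by
    have h' : Y ∈ σ • vh := e ▸ (by
      have := smul_mem a f.hYvy
      rwa [ha.1 Y f.hYl] at this)
    rw [mem_smul_iff, inv_smul_eq_iff.2 (hσ.1 Y f.hYvy).symm] at h'
    exact f.swap.hH_vy h'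
  have he := point_eq hne h (hv hb) h0 (hv hbr)
  rw [mul_smul, mul_smul, smul_left_cancel_iff] at he
  exact elat_stab_eq_bot f.hOl (ec_le_elat f.hYl hb) (ec_le_elat f.hYl hbr) he

/-- The pairing gives a field coordinatising the plane. -/
theorem exists_coords (f : Frame O Y H l vy vh) (hall : AllTrans G P L)
    (hallD : haveI := faithful_dual (G := G) (P := P) (L := L); AllTrans G (Dual L) (Dual P)) :
    ∃ (F : Type u) (_ : Field F) (_ : Fintype F), Nonempty (Coords F P L) := by
  classical
  letI : CommGroup (EC G H l) :=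
    { (inferInstance : Group (EC G H l)) with mul_comm := fun x y => Subtype.ext (commute_ec hall f.hHl x.2 y.2).eq }
  let V := Additive (EC G H l)
  let A : V → G := fun x => ((Additive.toMul x : EC G H l) : G)
  have hA : ∀ x, A x ∈ EC G H l := fun x => (Additive.toMul x : EC G H l).2
  have A_add : ∀ x y, A (x + y) = A x * A y := fun x y => rfl
  have A_zero : A 0 = 1 := rfl
  have A_inj : Function.Injective A := fun x y e => Subtype.ext e
  have A_surj : ∀ g ∈ EC G H l, ∃ x, A x = g := fun g hg => ⟨Additive.ofMul ⟨g, hg⟩, rfl⟩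
  obtain ⟨a₀, ha₀, ha₀1⟩ := exists_ec_ne hall f.hHl
  obtain ⟨u, rfl⟩ := A_surj a₀ ha₀
  obtain ⟨ε, hε, hε1⟩ := exists_ec_ne hall f.hYvy
  let B : V → G := fun x => br ε (A x)
  have hB : ∀ x, B x ∈ EC G Y l := fun x => f.br_mem hε (hA x)
  have B_add : ∀ x y, B (x + y) = B x * B y := fun x y => f.br_mul_right hε (hA x) (hA y)
  have B_inj : Function.Injective B := fun x y e => A_inj (f.br_inj hε hε1 (hA x) (hA y) e)
  have B_surj : ∀ g ∈ EC G Y l, ∃ x, B x = g := fun g hg => by
    obtain ⟨⟨a, ha⟩, e⟩ := (f.br_bijective hall hε hε1).2 ⟨g, hg⟩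
    obtain ⟨x, rfl⟩ := A_surj a ha
    exact ⟨x, congrArg Subtype.val e⟩
  -- the shear of given slope
  have hS : ∀ x : V, ∃ σ ∈ EC G Y vy, br σ (A u) = B x := fun x => by
    obtain ⟨⟨σ, hσ⟩, e⟩ := (f.br_bijective_left hall (hA u) ha₀1).2 ⟨B x, hB x⟩
    exact ⟨σ, hσ, congrArg Subtype.val e⟩
  choose S hS hSu using hS
  have S_unique : ∀ {σ : G} {x : V}, σ ∈ EC G Y vy → br σ (A u) = B x → σ = S x := fun {σ x} hσ e => by
    have := (f.br_bijective_left hall (hA u) ha₀1).1
      (show (⟨br σ (A u), f.br_mem hσ (hA u)⟩ : EC G Y l) = ⟨br (S x) (A u), f.br_mem (hS x) (hA u)⟩ from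
        Subtype.ext (e.trans (hSu x).symm)) (a₁ := ⟨σ, hσ⟩) (a₂ := ⟨S x, hS x⟩)
    exact congrArg Subtype.val this
  have S_add : ∀ x y, S (x + y) = S x * S y := fun x y => by
    refine (S_unique (mul_mem (hS x) (hS y)) ?_).symm
    rw [f.br_mul_left (hS x) (hS y) (hA u), hSu, hSu, ← B_add, add_comm]
  have S_surj : ∀ σ ∈ EC G Y vy, ∃ x, S x = σ := fun σ hσ => by
    obtain ⟨x, hx⟩ := B_surj _ (f.br_mem hσ (hA u))
    exact ⟨x, (S_unique hσ hx.symm).symm⟩
  have S_u : S u = ε := (S_unique hε rfl).symm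
  -- the product
  have hm : ∀ x y : V, ∃ z : V, B z = br (S x) (A y) := fun x y => B_surj _ (f.br_mem (hS x) (hA y))
  choose m hm using hm
  let mul : V →+ AddMonoid.End V := AddMonoidHom.mk'
    (fun x => AddMonoidHom.mk' (m x) fun y y' => B_inj (by
      rw [B_add, hm, hm, hm, A_add, f.br_mul_right (hS x) (hA y) (hA y')]))
    fun x x' => AddMonoidHom.ext fun y => B_inj (by
      show B (m (x + x') y) = B (m x y + m x' y)
      rw [B_add, hm, hm, hm, S_add, f.br_mul_left (hS x) (hS x') (hA y)]
      exact (commute_ec hall f.hYl (f.br_mem (hS x') (hA y)) (f.br_mem (hS x) (hA y))).eq)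
  have hmul : ∀ x y, B (mul x y) = br (S x) (A y) := hm
  have hu0 : u ≠ 0 := fun e => ha₀1 (by rw [e]; exact A_zero)
  have S_ne : ∀ x, x ≠ 0 → S x ≠ 1 := fun x hx e => hx (B_inj (by
    rw [← hSu x, e, br_one_left]
    show (1 : G) = br ε (A 0)
    rw [A_zero]; simp [br]))
  have B_zero : B 0 = 1 := by show br ε (A 0) = 1; rw [A_zero]; simp [br]
  have hI : Semifield.IsInverseClosed mul u :=
    { one_mul := fun x => B_inj (by rw [hmul, S_u])
      mul_one := fun x => B_inj (by rw [hmul, hSu])
      ne := hu0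
      inj := fun a b ha hb => by
        by_contra hb0
        have h1 : br (S a) (A b) = 1 := by rw [← hmul, hb, B_zero]
        rcases f.br_eq_one (hS a) (hA b) h1 with h | h
        · exact S_ne a ha h
        · exact hb0 (A_inj (h.trans A_zero.symm))
      left := fun a c hc => by
        obtain ⟨ρ, hρ, h⟩ := f.hua hall (hS a) (hS c) (S_ne c hc)
        obtain ⟨w, rfl⟩ := S_surj ρ hρ
        refine ⟨w, fun x y e => B_inj ?_⟩
        rw [hmul, hmul]
        exact h _ (hA x) _ (hA y) (by rw [← hmul, ← hmul, e])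
      right := fun a c hc => by
        obtain ⟨w', hw', h⟩ := f.hua_right hallD (hA a) (hA c) (fun e => hc (A_inj (e.trans A_zero.symm)))
        obtain ⟨w, rfl⟩ := A_surj w' hw'
        refine ⟨w, fun x y e => B_inj ?_⟩
        rw [hmul, hmul]
        exact h _ (hS x) _ (hS y) (by rw [← hmul, ← hmul, e]) }
  obtain ⟨hcomm, hassoc⟩ := hI.main
  letI : Mul V := ⟨fun x y => mul x y⟩
  letI : One V := ⟨u⟩
  letI : CommRing V := CommRing.ofMinimalAxioms add_assoc zero_add neg_add_cancel
    hassoc hcomm hI.one_mul (fun x y z => map_add (mul x) y z)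
  haveI : Nontrivial V := ⟨0, 1, Ne.symm hu0⟩
  haveI : NoZeroDivisors V := ⟨fun {s t} hst => or_iff_not_imp_left.2 fun hs => hI.inj s t hs hst⟩
  haveI : IsDomain V := NoZeroDivisors.to_isDomain _
  haveI : Finite V := Finite.of_injective A A_inj
  letI : Field V := (Finite.isField_of_domain V).toField
  refine ⟨V, inferInstance, Fintype.ofFinite V, ⟨?_⟩⟩
  -- incidences
  have hYS : ∀ x, S x • Y = Y := fun x => (hS x).1 Y f.hYvy
  have hlS : ∀ x, S x • l = l := fun x => (hS x).2 l f.hYl
  have hlB : ∀ x, B x • l = l := fun x => axial_smul_line (hB x).1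
  have hlA : ∀ x, A x • l = l := fun x => axial_smul_line (hA x).1
  have hYvh : ∀ x, Y ∉ S x • vh := fun x h => by
    rw [mem_smul_iff, inv_smul_eq_iff.2 (hYS x).symm] at h
    exact f.swap.hH_vy h
  have hdl : ∀ i, S i • H ∈ l := fun i => (mem_iff_of_fixed (hlS i)).2 f.hHl
  exact
    { aff := fun x y => (A x * B y) • O
      dir := fun i => S i • H
      top := Y
      lnv := fun i k => B k • S i • vh
      lv := fun c => A c • vy
      linf := l
      aff_lnv := fun x y i k => by
        have e : (B k)⁻¹ * (A x * B y) = A x * ((B k)⁻¹ * B y) := by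
          rw [← mul_assoc, ← mul_assoc, (f.commute_BA (inv_mem (hB k)) (hA x)).eq]
        rw [mem_smul_iff, ← mul_smul, e, f.mem_shear_line (hS i) (hA x) (mul_mem (inv_mem (hB k)) (hB y)),
          ← hmul, inv_mul_eq_iff_eq_mul, ← B_add, add_comm]
        exact B_inj.eq_iff
      aff_lv := fun x y c => by
        have hb : B y • vy = vy := (hB y).2 vy f.hYvy
        refine ⟨fun h => ?_, fun h => ?_⟩
        · rw [mem_smul_iff, ← mul_smul, ← mul_assoc,
            ← (f.commute_BA (hB y) (mul_mem (inv_mem (hA c)) (hA x))).eq, mul_smul, mem_iff_of_fixed hb] at h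
          have hm := mul_mem (inv_mem (hA c)) (hA x)
          have h' := f.eq_O h ((mem_iff_of_fixed (hm.2 vh f.hHvh)).2 f.hOvh)
          have h1 : (A c)⁻¹ * A x = 1 :=
            elat_stab_eq_bot f.hOl (ec_le_elat f.hHl hm) (one_mem _) (h'.trans (one_smul G O).symm)
          exact (A_inj (inv_mul_eq_one.1 h1)).symm
        · rw [h, mul_smul]
          exact smul_mem (A c) ((mem_iff_of_fixed hb).2 f.hOvy)
      aff_linf := fun x y h => by
        rw [mul_smul, mem_iff_of_fixed (hlA x), mem_iff_of_fixed (hlB y)] at h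
        exact f.hOl h
      dir_lnv := fun i j k => by
        rw [mem_smul_iff, (inv_mem (hB k)).1 _ (hdl i)]
        refine ⟨fun h => ?_, fun h => h ▸ smul_mem _ f.hHvh⟩
        have hne : S j • vh ≠ l := fun e => hYvh j (e ▸ f.hYl)
        have h1 : S i • H = S j • H := point_eq hne h (hdl i) (smul_mem _ f.hHvh) (hdl j)
        by_contra hij
        refine ec_free (mul_mem (inv_mem (hS j)) (hS i)) f.hYvy (fun e => hij ?_) f.hH_vy ?_
        · have := inv_mul_eq_one.1 e
          exact B_inj (by rw [← hSu i, ← hSu j, this])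
        · rw [mul_smul, h1, inv_smul_smul]
      dir_lv := fun i c h => by
        rw [mem_smul_iff, (inv_mem (hA c)).1 _ (hdl i), mem_iff_of_fixed ((hS i).2 vy f.hYvy)] at h
        exact f.hH_vy h
      dir_linf := hdl
      top_lnv := fun i k h => by
        rw [mem_smul_iff, (inv_mem (hB k)).1 Y f.hYl] at h
        exact hYvh i h
      top_lv := fun c => by
        rw [mem_smul_iff, (inv_mem (hA c)).1 Y f.hYl]
        exact f.hYvy
      top_linf := f.hYl
      surj := fun p => by
        by_cases hp : p ∈ l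
        · by_cases hpY : p = Y
          · exact .inl hpY
          have hpv : p ∉ vy := fun h => hpY (point_eq f.vy_ne h hp f.hYvy f.hYl)
          obtain ⟨σ, hσ, e⟩ := exists_ec_map hall f.hYvy f.hH_vy hpv f.hYl f.hHl hp
          obtain ⟨i, rfl⟩ := S_surj σ hσ
          exact .inr (.inl ⟨i, e⟩)
        · have hYp : Y ≠ p := fun e => hp (e ▸ f.hYl)
          have hkl : (join Y p : L) ≠ l := fun e => hp (e ▸ join_right hYp)
          have hkh : (join Y p : L) ≠ vh := fun e => f.swap.hH_vy (e ▸ join_left hYp)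
          set q : P := meet (join Y p : L) vh
          have hqk : q ∈ (join Y p : L) := meet_left hkh
          have hqh : q ∈ vh := meet_right hkh
          have hql : q ∉ l := fun h => f.swap.hH_vy (by
            have := point_eq hkl hqk h (join_left hYp) f.hYl
            exact this ▸ hqh)
          obtain ⟨a, ha, ea⟩ := exists_ec_map hall f.hHl f.hOl hql f.hHvh f.hOvh hqh
          obtain ⟨b, hb, eb⟩ := exists_ec_map hall f.hYl hql hp (join_left hYp) hqk (join_right hYp)
          obtain ⟨x, rfl⟩ := A_surj a ha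
          obtain ⟨y, rfl⟩ := B_surj b hb
          refine .inr (.inr ⟨x, y, ?_⟩)
          rw [← (f.commute_BA (hB y) (hA x)).eq, mul_smul, ea, eb] }

end Frame

end

end CfsgLib.Plane
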