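import Cfsg.Agent.Lib.Plane.Full
import Mathlib.GroupTheory.Nilpotent

/-!
Planes with a group of collineations two-transitive on points: existence of a perspectivity
and every line is a translation line (Ostrom--Wagner).
-/

set_option autoImplicit false

namespace CfsgLib.Plane

open Configuration Configuration.ProjectivePlane MulAction

section Sylow

variable {G : Type*} [Group G] [Finite G] {p : ℕ} [Fact p.Prime]

theorem card_pow_dvd_card_sylow (S : Sylow p G) {j : ℕ} (h : p ^ j ∣ Nat.card G) : p ^ j ∣ Nat.card S := by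
  obtain ⟨K, hK⟩ := Sylow.exists_subgroup_card_pow_prime p h
  obtain ⟨T, hT⟩ := (IsPGroup.of_card hK).exists_le_sylow
  rw [← hK]
  have h1 : Nat.card T = Nat.card S := by rw [Sylow.card_eq_multiplicity, Sylow.card_eq_multiplicity]
  rw [← h1]
  exact Subgroup.card_dvd_of_le hT

/-- Transitivity of a stabiliser bounds the `p`-subgroups fixing both. -/
theorem card_mul_dvd_sylow {Ω Ξ : Type*} [MulAction G Ω] [MulAction G Ξ] (S : Sylow p G) {D : Subgroup G}
    (hD : IsPGroup p D) {x : Ξ} {ω : Ω} (hx : D ≤ stabilizer G x) (hω : D ≤ stabilizer G ω) {e : ℕ}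
    (he : p ^ e ∣ Nat.card (orbit (stabilizer G x) ω)) : Nat.card D * p ^ e ∣ Nat.card S := by
  obtain ⟨j, hj⟩ := IsPGroup.iff_card.1 hD
  rw [hj, ← pow_add]
  refine card_pow_dvd_card_sylow S ((?_ : p ^ (j + e) ∣ Nat.card (stabilizer G x)).trans (Subgroup.card_subgroup_dvd_card _))
  have h1 : Nat.card D ∣ Nat.card (stabilizer (stabilizer G x) ω) := by
    let f : D →* stabilizer (stabilizer G x) ω :=
      { toFun := fun d => ⟨⟨d, hx d.2⟩, hω d.2⟩
        map_one' := rfl
        map_mul' := fun _ _ => rfl }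
    exact Subgroup.card_dvd_of_injective f (fun a b e => Subtype.ext (congrArg (fun z => ((z.1 : stabilizer G x) : G)) e))
  have : Finite (orbit (stabilizer G x) ω) := (Set.finite_range _).to_subtype
  have h2 : Nat.card (orbit (stabilizer G x) ω) * Nat.card (stabilizer (stabilizer G x) ω) = Nat.card (stabilizer G x) := by
    have := Fintype.ofFinite (stabilizer G x)
    have := Fintype.ofFinite (orbit (stabilizer G x) ω)
    have := Fintype.ofFinite (stabilizer (stabilizer G x) ω)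
    simp only [Nat.card_eq_fintype_card]
    exact card_orbit_mul_card_stabilizer_eq_card_group _ _
  rw [← h2, pow_add, ← hj, mul_comm]
  exact mul_dvd_mul he h1

theorem card_orbit_mul_card_inf {Ω : Type*} [MulAction G Ω] (S : Subgroup G) (ω : Ω) :
    Nat.card (orbit S ω) * Nat.card (S ⊓ stabilizer G ω : Subgroup G) = Nat.card S := by
  have h : Nat.card (S ⊓ stabilizer G ω : Subgroup G) = Nat.card (stabilizer S ω) :=
    Nat.card_congr
      { toFun := fun d => ⟨⟨d.1, d.2.1⟩, d.2.2⟩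
        invFun := fun d => ⟨d.1.1, d.1.2, d.2⟩ }
  have := Fintype.ofFinite S
  have : Finite (orbit S ω) := (Set.finite_range _).to_subtype
  have := Fintype.ofFinite (orbit S ω)
  have := Fintype.ofFinite (stabilizer S ω)
  rw [h]
  simp only [Nat.card_eq_fintype_card]
  exact card_orbit_mul_card_stabilizer_eq_card_group _ _

/-- Orbits of a Sylow subgroup are large. -/
theorem pow_dvd_card_orbit {Ω Ξ : Type*} [MulAction G Ω] [MulAction G Ξ] (S : Sylow p G) {x : Ξ}
    (hx : (S : Subgroup G) ≤ stabilizer G x) (ω : Ω) {e : ℕ}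
    (he : p ^ e ∣ Nat.card (orbit (stabilizer G x) ω)) : p ^ e ∣ Nat.card (orbit (S : Subgroup G) ω) := by
  have h1 := card_mul_dvd_sylow S (S.2.to_le inf_le_left) (D := (S : Subgroup G) ⊓ stabilizer G ω)
    (le_trans inf_le_left hx) inf_le_right he
  rw [← card_orbit_mul_card_inf (S : Subgroup G) ω, mul_comm] at h1
  exact Nat.dvd_of_mul_dvd_mul_right Nat.card_pos h1

theorem dvd_card_of_orbits {H : Type*} [Group H] [Finite H] {Ω : Type*} [Finite Ω] [MulAction H Ω] {d : ℕ}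
    (h : ∀ ω : Ω, d ∣ Nat.card (orbit H ω)) : d ∣ Nat.card Ω := by
  classical
  have := Fintype.ofFinite (orbitRel.Quotient H Ω)
  have := Fintype.ofFinite Ω
  rw [Nat.card_congr (selfEquivSigmaOrbits H Ω), Nat.card_sigma]
  exact Finset.dvd_sum fun ω _ => h ω.out

theorem card_orbit_pos {H : Type*} [Group H] [Finite H] {Ω : Type*} [MulAction H Ω] (x : Ω) : 0 < Nat.card (orbit H x) := by
  have : Finite (orbit H x) := (Set.finite_range _).to_subtype
  have : Nonempty (orbit H x) := ⟨⟨x, mem_orbit_self x⟩⟩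
  exact Nat.card_pos

theorem exists_central_prime {S : Subgroup G} (hS : IsPGroup p S) (hne : S ≠ ⊥) :
    ∃ z ∈ S, orderOf z = p ∧ ∀ s ∈ S, s * z = z * s := by
  have : Nontrivial S := (Subgroup.nontrivial_iff_ne_bot S).2 hne
  have := hS.center_nontrivial
  obtain ⟨j, hj⟩ := IsPGroup.iff_card.1 (hS.to_subgroup (Subgroup.center S))
  have hj0 : j ≠ 0 := fun e => by
    have h1 := Finite.one_lt_card (α := Subgroup.center S)
    rw [hj, e, pow_zero] at h1
    exact lt_irrefl 1 h1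
  obtain ⟨z, hz⟩ := exists_prime_orderOf_dvd_card' (G := Subgroup.center S) p (hj ▸ dvd_pow_self p hj0)
  refine ⟨((z : S) : G), (z : S).2, by rw [Subgroup.orderOf_coe, Subgroup.orderOf_coe]; exact hz, fun s hs => ?_⟩
  exact congrArg Subtype.val (Subgroup.mem_center_iff.1 z.2 ⟨s, hs⟩)

end Sylow

section

variable {G : Type*} [Group G] [Finite G] {P L : Type*} [Membership P L] [ProjectivePlane P L]
  [Finite P] [Finite L] [MulAction G P] [MulAction G L] [IsColl G P L] [FaithfulSMul G P]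

variable (G P) in
/-- Two-transitivity on points. -/
def TwoTrans : Prop :=
  ∀ a b c d : P, a ≠ b → c ≠ d → ∃ g : G, g • a = c ∧ g • b = d

theorem TwoTrans.exists_stab (h2 : TwoTrans G P) {X p q : P} (hp : p ≠ X) (hq : q ≠ X) :
    ∃ g : G, g • X = X ∧ g • p = q :=
  h2 X p X q hp.symm hq.symm

include L in
theorem exists_ne_point (X : P) : ∃ Y : P, Y ≠ X := by
  obtain ⟨l, hl⟩ := exists_line_not_mem (L := L) X
  obtain ⟨Y, hY, hne⟩ := exists_mem_ne l X
  exact ⟨Y, hne⟩

include L in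
theorem TwoTrans.exists_map_point (h2 : TwoTrans G P) (p q : P) : ∃ g : G, g • p = q := by
  obtain ⟨p', hp'⟩ := exists_ne_point (L := L) p
  obtain ⟨q', hq'⟩ := exists_ne_point (L := L) q
  obtain ⟨g, hg, -⟩ := h2 p p' q q' hp'.symm hq'.symm
  exact ⟨g, hg⟩

theorem TwoTrans.exists_map_line (h2 : TwoTrans G P) (l m : L) : ∃ g : G, g • l = m := by
  obtain ⟨p, hp, -⟩ := exists_mem_ne l (Classical.choose (ProjectivePlane.exists_config (P := P) (L := L)))
  obtain ⟨p', hp', hpp⟩ := exists_mem_ne l p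
  obtain ⟨q, hq, -⟩ := exists_mem_ne m p
  obtain ⟨q', hq', hqq⟩ := exists_mem_ne m q
  obtain ⟨g, hg, hg'⟩ := h2 p p' q q' hpp.symm hqq.symm
  exact ⟨g, line_eq hqq.symm (hg ▸ smul_mem g hp) (hg' ▸ smul_mem g hp') hq hq'⟩

/-- The stabiliser of a point is transitive on the lines missing it. -/
theorem TwoTrans.exists_stab_line (h2 : TwoTrans G P) {X : P} {l m : L} (hl : X ∉ l) (hm : X ∉ m) :
    ∃ g : G, g • X = X ∧ g • l = m := by
  classical
  let K := stabilizer G X
  by_contra hne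
  push Not at hne
  obtain ⟨Y, hY⟩ := exists_ne_point (L := L) X
  have hP : Nat.card (orbitRel.Quotient K P) ≤ 2 := by
    rw [show 2 = Nat.card Bool by simp]
    refine Nat.card_le_card_of_surjective (fun b => Quotient.mk'' (if b then X else Y)) fun q => ?_
    induction q using Quotient.inductionOn' with
    | h q =>
      by_cases hq : q = X
      · refine ⟨true, ?_⟩
        show (Quotient.mk'' X : orbitRel.Quotient K P) = _
        rw [hq]
      obtain ⟨g, hgX, hg⟩ := h2.exists_stab hq hY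
      refine ⟨false, ?_⟩
      show (Quotient.mk'' Y : orbitRel.Quotient K P) = _
      exact Quotient.sound' ⟨⟨g, hgX⟩, hg⟩
  have hL : 3 ≤ Nat.card (orbitRel.Quotient K L) := by
    obtain ⟨c, hc, -⟩ := exists_line_mem_ne X l
    rw [show 3 = Nat.card (Fin 3) by simp]
    refine Nat.card_le_card_of_injective (fun i => Quotient.mk'' (![c, l, m] i)) ?_
    have hpre : ∀ a b : L, (Quotient.mk'' a : orbitRel.Quotient K L) = Quotient.mk'' b →
        ∃ g : G, g • X = X ∧ g • b = a := fun a b e => by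
      obtain ⟨g, hg⟩ := Quotient.eq''.1 e
      exact ⟨g, g.2, hg⟩
    have hmemX : ∀ a b : L, (Quotient.mk'' a : orbitRel.Quotient K L) = Quotient.mk'' b → X ∈ b → X ∈ a := fun a b e hb => by
      obtain ⟨g, hgX, hg⟩ := hpre a b e
      rw [← hg, ← hgX]; exact smul_mem g hb
    intro i j e
    fin_cases i <;> fin_cases j <;> first
      | rfl
      | (exfalso; exact hl (hmemX _ _ e hc))
      | (exfalso; exact hl (hmemX _ _ e.symm hc))
      | (exfalso; exact hm (hmemX _ _ e hc))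
      | (exfalso; exact hm (hmemX _ _ e.symm hc))
      | (exfalso; obtain ⟨g, hgX, hg⟩ := hpre _ _ e.symm; exact hne g hgX hg)
      | (exfalso; obtain ⟨g, hgX, hg⟩ := hpre _ _ e; exact hne g hgX hg)
  have := card_orbits_eq (G := K) (P := P) (L := L)
  omega

/-- A collineation group two-transitive on points is two-transitive on lines. -/
theorem TwoTrans.dual (h2 : TwoTrans G P) : TwoTrans G (Dual L) := by
  classical
  show ∀ a b c d : L, a ≠ b → c ≠ d → ∃ g : G, g • a = c ∧ g • b = d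
  intro a b c d hab hcd
  by_contra hne
  push Not at hne
  obtain ⟨X, Y, hXY⟩ : ∃ X Y : P, X ≠ Y := by
    obtain ⟨x, hx, -⟩ := exists_mem_ne a (Classical.choose (ProjectivePlane.exists_config (P := P) (L := L)))
    obtain ⟨y, hy⟩ := exists_ne_point (L := L) x
    exact ⟨x, y, hy.symm⟩
  have hP : Nat.card (orbitRel.Quotient G (P × P)) ≤ 2 := by
    rw [show 2 = Nat.card Bool by simp]
    refine Nat.card_le_card_of_surjective (fun b => Quotient.mk'' (if b then (X, X) else (X, Y))) fun q => ?_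
    induction q using Quotient.inductionOn' with
    | h q =>
      obtain ⟨q₁, q₂⟩ := q
      by_cases hq : q₁ = q₂
      · subst hq
        obtain ⟨g, hg⟩ := h2.exists_map_point (L := L) q₁ X
        refine ⟨true, ?_⟩
        show (Quotient.mk'' (X, X) : orbitRel.Quotient G (P × P)) = _
        exact Quotient.sound' ⟨g, Prod.ext hg hg⟩
      · obtain ⟨g, hg, hg'⟩ := h2 q₁ q₂ X Y hq hXY
        refine ⟨false, ?_⟩
        show (Quotient.mk'' (X, Y) : orbitRel.Quotient G (P × P)) = _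
        exact Quotient.sound' ⟨g, Prod.ext hg hg'⟩
  have hL : 3 ≤ Nat.card (orbitRel.Quotient G (L × L)) := by
    rw [show 3 = Nat.card (Fin 3) by simp]
    refine Nat.card_le_card_of_injective (fun i => Quotient.mk'' (![(a, a), (a, b), (c, d)] i)) ?_
    have hpre : ∀ u v : L × L, (Quotient.mk'' u : orbitRel.Quotient G (L × L)) = Quotient.mk'' v →
        ∃ g : G, g • v.1 = u.1 ∧ g • v.2 = u.2 := fun u v e => by
      obtain ⟨g, hg⟩ := Quotient.eq''.1 e
      exact ⟨g, congrArg Prod.fst hg, congrArg Prod.snd hg⟩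
    have hdiag : ∀ (x y z : L), (Quotient.mk'' (x, x) : orbitRel.Quotient G (L × L)) = Quotient.mk'' (y, z) → y = z :=
      fun x y z e => by
        obtain ⟨g, h1, h2⟩ := hpre _ _ e
        exact smul_left_cancel g (h1.trans h2.symm)
    intro i j e
    fin_cases i <;> fin_cases j <;> first
      | rfl
      | (exfalso; exact hab (hdiag _ _ _ e))
      | (exfalso; exact hab (hdiag _ _ _ e.symm))
      | (exfalso; exact hcd (hdiag _ _ _ e))
      | (exfalso; exact hcd (hdiag _ _ _ e.symm))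
      | (exfalso; obtain ⟨g, h1, h2⟩ := hpre _ _ e.symm; exact hne g h1 h2)
      | (exfalso; obtain ⟨g, h1, h2⟩ := hpre _ _ e; exact hne g h1 h2)
  have := card_pair_orbits_eq (G := G) (P := P) (L := L)
  omega

theorem TwoTrans.card_orbit_point (h2 : TwoTrans G P) {X Y : P} (hY : Y ≠ X) :
    Nat.card (orbit (stabilizer G X) Y) = order P L ^ 2 + order P L := by
  classical
  have e : orbit (stabilizer G X) Y = {q : P | q ≠ X} := by
    ext q
    refine ⟨?_, fun hq => ?_⟩
    · rintro ⟨g, rfl⟩ e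
      exact hY (smul_left_cancel (g : G) (e.trans g.2.symm))
    · obtain ⟨g, hgX, hg⟩ := h2.exists_stab hY hq
      exact ⟨⟨g, hgX⟩, hg⟩
  rw [e]
  have h := Nat.card_congr (Equiv.sumCompl (fun q : P => q = X))
  have h1 : Nat.card {q : P // q = X} = 1 :=
    Nat.card_eq_one_iff_unique.2 ⟨⟨fun u v => Subtype.ext (u.2.trans v.2.symm)⟩, ⟨⟨X, rfl⟩⟩⟩
  rw [Nat.card_sum, h1, nat_card_points (L := L)] at h
  have : Nat.card ({q : P | q ≠ X} : Set P) = Nat.card {q : P // ¬ q = X} := rfl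
  omega

theorem TwoTrans.card_orbit_line (h2 : TwoTrans G P) {X : P} {l : L} (hl : X ∉ l) :
    Nat.card (orbit (stabilizer G X) l) = order P L ^ 2 := by
  have e : orbit (stabilizer G X) l = {m : L | X ∉ m} := by
    ext m
    refine ⟨?_, fun hm => ?_⟩
    · rintro ⟨g, rfl⟩ h
      exact hl ((IsColl.mem_iff (g : G) X l).1 (by rwa [show (g : G) • X = X from g.2]))
    · obtain ⟨g, hgX, hg⟩ := h2.exists_stab_line hl hm
      exact ⟨⟨g, hgX⟩, hg⟩
  rw [e]
  exact nat_card_not_mem_point X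

theorem TwoTrans.card_orbit_off (h2 : TwoTrans G P) {X : P} {l : L} (hl : X ∉ l) :
    Nat.card (orbit (stabilizer G l) X) = order P L ^ 2 := by
  have := faithful_dual (G := G) (P := P) (L := L)
  rw [← Dual.order P L]
  exact TwoTrans.card_orbit_line (P := Dual L) (L := Dual P) h2.dual (X := l) (l := X) hl

theorem TwoTrans.card_orbit_other_line (h2 : TwoTrans G P) {l m : L} (hm : m ≠ l) :
    Nat.card (orbit (stabilizer G l) m) = order P L ^ 2 + order P L := by
  have := faithful_dual (G := G) (P := P) (L := L)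
  rw [← Dual.order P L]
  exact TwoTrans.card_orbit_point (P := Dual L) (L := Dual P) h2.dual hm

theorem orbit_sub {S : Subgroup G} {α : Type*} [MulAction G α] {s : Set α} (hs : ∀ g ∈ S, ∀ x ∈ s, g • x ∈ s)
    {x : α} (hx : x ∈ s) : orbit S x ⊆ s := by
  rintro y ⟨g, rfl⟩
  exact hs g g.2 x hx

theorem mem_of_orbit_eq {S : Subgroup G} {α : Type*} [Finite α] [MulAction G α] {s : Set α}
    (hs : ∀ g ∈ S, ∀ x ∈ s, g • x ∈ s) {x : α} (hx : x ∈ s) (hcard : Nat.card s ≤ Nat.card (orbit S x))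
    {y : α} (hy : y ∈ s) : ∃ g ∈ S, g • x = y := by
  have := Set.eq_of_subset_of_ncard_le (orbit_sub hs hx)
    (by rwa [← Nat.card_coe_set_eq, ← Nat.card_coe_set_eq]) (Set.toFinite _)
  obtain ⟨g, hg⟩ := this.ge hy
  exact ⟨g, g.2, hg⟩

/-- With prime power order there is a perspectivity. -/
theorem exists_persp_of_isPrimePow (h2 : TwoTrans G P) (hn : IsPrimePow (order P L)) :
    ∃ (X : P) (a : L) (g : G), g ≠ 1 ∧ g ∈ EC G X a := by
  classical
  obtain ⟨p, e, hp, he, hpe⟩ := (isPrimePow_nat_iff _).1 hn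
  have := Fact.mk hp
  by_contra hno
  push Not at hno
  have noaxial : ∀ (g : G) (a : L), g ∈ Axial G (P := P) a → g = 1 := fun g a hg => by
    by_contra hg1
    obtain ⟨X, hX⟩ := exists_centre hg
    exact hno X a g hg1 hX
  have nocentral : ∀ (g : G) (X : P), g ∈ Central G (L := L) X → g = 1 := fun g X hg => by
    by_contra hg1
    have := faithful_dual (G := G) (P := P) (L := L)
    obtain ⟨a, ha⟩ := exists_centre (P := Dual L) (L := Dual P) (g := g) hg
    exact hno X a g hg1 ⟨ha.2, ha.1⟩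
  set n := order P L with hn'
  have hn1 : 1 < n := one_lt_order P L
  have hpn : p ∣ n := hpe ▸ dvd_pow_self p he.ne'
  obtain ⟨S⟩ : Nonempty (Sylow p G) := inferInstance
  -- the flag of `S`
  obtain ⟨X, hX⟩ : ∃ X : P, ∀ s ∈ (S : Subgroup G), s • X = X := by
    obtain ⟨X, hX⟩ := S.2.nonempty_fixed_point_of_prime_not_dvd_card P (by
      rw [nat_card_points (L := L)]
      intro hd
      have : p ∣ 1 := (Nat.dvd_add_right (dvd_add (dvd_pow hpn two_ne_zero) hpn)).1 hd
      exact hp.one_lt.ne' (Nat.dvd_one.1 this))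
    exact ⟨X, fun s hs => hX ⟨s, hs⟩⟩
  obtain ⟨l, hXl, hl⟩ : ∃ l : L, X ∈ l ∧ ∀ s ∈ (S : Subgroup G), s • l = l := by
    let Ω := {m : L // X ∈ m}
    let _ : MulAction (S : Subgroup G) Ω :=
      { smul := fun s m => ⟨(s : G) • m.1, by simpa [hX s s.2] using smul_mem (s : G) m.2⟩
        one_smul := fun m => Subtype.ext (one_smul G m.1)
        mul_smul := fun a b m => Subtype.ext (mul_smul (a : G) (b : G) m.1) }
    obtain ⟨m, hm⟩ := S.2.nonempty_fixed_point_of_prime_not_dvd_card Ω (by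
      rw [nat_card_mem_point]
      intro hd
      exact hp.one_lt.ne' (Nat.dvd_one.1 ((Nat.dvd_add_right hpn).1 hd)))
    exact ⟨m.1, m.2, fun s hs => congrArg Subtype.val (hm ⟨s, hs⟩)⟩
  have hSX : (S : Subgroup G) ≤ stabilizer G X := hX
  have hSl : (S : Subgroup G) ≤ stabilizer G l := hl
  -- transitivity
  have hne0 : ∀ {d m : ℕ}, d ∣ m → 0 < m → d ≤ m := fun h h' => Nat.le_of_dvd h' h
  have transA : ∀ u v : P, u ∉ l → v ∉ l → ∃ s ∈ (S : Subgroup G), s • u = v := fun u v hu hv => by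
    have hd := pow_dvd_card_orbit (e := 2 * e) S hSl u
      (by rw [h2.card_orbit_off hu, ← hn', ← hpe, ← pow_mul, mul_comm e])
    refine mem_of_orbit_eq (s := {q | q ∉ l}) (fun g hg q hq => fun h => hq ((mem_iff_of_fixed (hl g hg)).1 h)) hu ?_ hv
    rw [show Nat.card ({q | q ∉ l} : Set P) = n ^ 2 from nat_card_not_mem_line l, ← hpe, ← pow_mul, mul_comm]
    exact hne0 hd (card_orbit_pos _)
  have transY : ∀ u v : P, u ∈ l → u ≠ X → v ∈ l → v ≠ X → ∃ s ∈ (S : Subgroup G), s • u = v := fun u v hu hu' hv hv' => by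
    have hd := pow_dvd_card_orbit (e := e) S hSX u
      (by rw [h2.card_orbit_point (L := L) hu', hpe, ← hn']; exact dvd_add (dvd_pow_self n two_ne_zero) dvd_rfl)
    refine mem_of_orbit_eq (s := {q | q ∈ l ∧ q ≠ X}) (fun g hg q hq => ⟨(mem_iff_of_fixed (hl g hg)).2 hq.1,
      fun h => hq.2 (smul_left_cancel g (h.trans (hX g hg).symm))⟩) ⟨hu, hu'⟩ ?_ ⟨hv, hv'⟩
    rw [show Nat.card ({q | q ∈ l ∧ q ≠ X} : Set P) = n from card_mem_ne_point l hXl, ← hpe]
    exact hne0 hd (card_orbit_pos _)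
  have transL : ∀ u v : L, X ∈ u → u ≠ l → X ∈ v → v ≠ l → ∃ s ∈ (S : Subgroup G), s • u = v := fun u v hu hu' hv hv' => by
    have hd := pow_dvd_card_orbit (e := e) S hSl u
      (by rw [h2.card_orbit_other_line hu', hpe, ← hn']; exact dvd_add (dvd_pow_self n two_ne_zero) dvd_rfl)
    refine mem_of_orbit_eq (s := {m | X ∈ m ∧ m ≠ l}) (fun g hg q hq => ⟨by simpa [hX g hg] using smul_mem g hq.1,
      fun h => hq.2 (smul_left_cancel g (h.trans (hl g hg).symm))⟩) ⟨hu, hu'⟩ ?_ ⟨hv, hv'⟩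
    rw [show Nat.card ({m | X ∈ m ∧ m ≠ l} : Set L) = n from card_mem_ne_line X hXl, ← hpe]
    exact hne0 hd (card_orbit_pos _)
  obtain ⟨u, hu⟩ := exists_point_not_mem (P := P) l
  have hS1 : (S : Subgroup G) ≠ ⊥ := fun h => by
    obtain ⟨w, hw, hwu⟩ : ∃ w : P, w ∉ l ∧ w ≠ u := by
      have hXu : X ≠ u := fun e => hu (e ▸ hXl)
      obtain ⟨w, hw, hwX, hwu⟩ := exists_mem_ne_ne (join X u : L) X u
      exact ⟨w, fun e => hwX (point_eq (fun e' : (join X u : L) = l => hu (e' ▸ join_right hXu)) hw e (join_left hXu) hXl), hwu⟩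
    obtain ⟨s, hs, hsw⟩ := transA u w hu hw
    rw [h, Subgroup.mem_bot] at hs
    exact hwu (by rw [← hsw, hs, one_smul])
  obtain ⟨g, hgS, hg, hcomm⟩ := exists_central_prime S.2 hS1
  have hg1 : g ≠ 1 := fun h => by rw [h, orderOf_one] at hg; exact hp.one_lt.ne hg
  -- the central element moves all points off `l`
  have hfree : ∀ q : P, q ∉ l → g • q ≠ q := by
    intro q hq hgq
    refine hg1 (noaxial g l fun y hy => ?_)
    have all : ∀ w : P, w ∉ l → g • w = w := fun w hw => by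
      obtain ⟨s, hs, rfl⟩ := transA q w hq hw
      rw [← mul_smul, ← hcomm s hs, mul_smul, hgq]
    obtain ⟨a, ha, hal⟩ := exists_line_mem_ne y l
    obtain ⟨b, hb, hbl, hba⟩ := exists_line_mem_ne_ne y l a
    have fixline : ∀ c : L, y ∈ c → c ≠ l → g • c = c := fun c hc hcl => by
      obtain ⟨x₁, h1, h1'⟩ := exists_mem_ne c y
      obtain ⟨x₂, h2', h2'', h3⟩ := exists_mem_ne_ne c y x₁
      have offl : ∀ x : P, x ∈ c → x ≠ y → x ∉ l := fun x hx hxy h => hxy (point_eq hcl hx h hc hy)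
      exact smul_line_eq g h3 h2' h1 (all _ (offl _ h2' h2'')) (all _ (offl _ h1 h1'))
    exact smul_point_eq g hba hb ha (fixline b hb hbl) (fixline a ha hal)
  have hgl : g • l = l := hl g hgS
  have hgX : g • X = X := hX g hgS
  set m : L := join u (g • u)
  have hum : u ∈ m := join_left (hfree u hu).symm
  have hgum : g • u ∈ m := join_right (hfree u hu).symm
  have hml : m ≠ l := fun e => hu (e ▸ hum)
  have hXu : X ≠ u := fun e => hu (e ▸ hXl)
  by_cases hXm : X ∈ m
  · refine hg1 (nocentral g X fun c hc => ?_)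
    by_cases hcl : c = l
    · rw [hcl, hgl]
    have hgm : g • m = m := line_eq (p := X) (q := g • u) (fun e => hu (by
        have := e ▸ hXl
        exact (mem_iff_of_fixed hgl).1 this))
      (by simpa [hgX] using smul_mem g hXm) (smul_mem g hum) hXm hgum
    obtain ⟨s, hs, rfl⟩ := transL m c hXm hml hc hcl
    rw [← mul_smul, ← hcomm s hs, mul_smul, hgm]
  set Y : P := meet m l
  have hYm : Y ∈ m := meet_left hml
  have hYl : Y ∈ l := meet_right hml
  have hYX : Y ≠ X := fun e => hXm (e ▸ hYm)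
  by_cases hgY : g • Y = Y
  · refine hg1 (noaxial g l fun y hy => ?_)
    by_cases hyX : y = X
    · rw [hyX, hgX]
    obtain ⟨s, hs, rfl⟩ := transY Y y hYl hYX hy hyX
    rw [← mul_smul, ← hcomm s hs, mul_smul, hgY]
  set D₀ : Subgroup G := (S : Subgroup G) ⊓ stabilizer G u
  have fixX : ∀ d ∈ D₀, d • X = X := fun d hd => hX d hd.1
  have fixu : ∀ d ∈ D₀, d • u = u := fun d hd => hd.2
  have fixgu : ∀ d ∈ D₀, d • g • u = g • u := fun d hd => by rw [← mul_smul, hcomm d hd.1, mul_smul, fixu d hd]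
  have fixY : ∀ d ∈ D₀, d • Y = Y := fun d hd =>
    smul_point_eq d hml hYm hYl (smul_line_eq d (hfree u hu).symm hum hgum (fixu d hd) (fixgu d hd)) (hl d hd.1)
  have fixgY : ∀ d ∈ D₀, d • g • Y = g • Y := fun d hd => by rw [← mul_smul, hcomm d hd.1, mul_smul, fixY d hd]
  have hgYl : g • Y ∈ l := (mem_iff_of_fixed hgl).2 hYl
  have hgYX : g • Y ≠ X := fun e => hYX (smul_left_cancel g (e.trans hgX.symm))
  have hgul : g • u ∉ l := fun h => hu ((mem_iff_of_fixed hgl).1 h)
  have hjl : (join X (g • Y) : L) = l := (eq_join hgYX.symm hXl hgYl).symm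
  have hjm : (join u (g • u) : L) = m := rfl
  have hgYm : g • Y ∉ m := fun h => hgY (point_eq hml h hgYl hYm hYl)
  have hq : HasQuad P L D₀ := by
    refine hasQuad_of_points (A := X) (B := g • Y) (C := u) (D := g • u) fixX fixgY fixu fixgu hgYX.symm hXu
      (hfree u hu).symm (by rw [hjl]; exact hgul) (fun h => hXm ?_) hXm hgYm (fun h => hgYX ?_)
    · have e := line_eq (hfree u hu).symm (join_right hXu) h hum hgum
      exact e ▸ join_left hXu
    · refine point_eq (fun e : (join X u : L) = l => hu (e ▸ join_right hXu)) h hgYl (join_left hXu) hXl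
  let _ := fixPlane hq
  let lf : Fix D₀ L := ⟨l, fun d hd => hl d hd.1⟩
  let Xf : Fix D₀ P := ⟨X, fixX⟩
  let Yf : Fix D₀ P := ⟨Y, fixY⟩
  set j := order (Fix D₀ P) (Fix D₀ L) with hj
  have hj1 : 1 < j := one_lt_order _ _
  set N : Subgroup G := (S : Subgroup G) ⊓ Subgroup.normalizer (D₀ : Set G)
  -- `N` is transitive on the affine part of the subplane
  have transN : ∀ v : Fix D₀ P, v.1 ∉ l → ∃ s ∈ N, s • u = v.1 := by
    intro v hv
    obtain ⟨s, hs, hsu⟩ := transA u v.1 hu hv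
    refine ⟨s, ⟨hs, ?_⟩, hsu⟩
    have hle : D₀.map (MulAut.conj s⁻¹).toMonoidHom ≤ D₀ := by
      rintro _ ⟨d, hd, rfl⟩
      show s⁻¹ * d * (s⁻¹)⁻¹ ∈ D₀
      refine ⟨(S : Subgroup G).mul_mem ((S : Subgroup G).mul_mem ((S : Subgroup G).inv_mem hs) hd.1) (by simpa using hs), ?_⟩
      show (s⁻¹ * d * (s⁻¹)⁻¹) • u = u
      rw [inv_inv, mul_smul, mul_smul, hsu, v.2 d hd, ← hsu, inv_smul_smul]
    have heq : D₀.map (MulAut.conj s⁻¹).toMonoidHom = D₀ := by
      refine Subgroup.eq_of_le_of_card_ge hle (le_of_eq ?_)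
      exact (Subgroup.card_map_of_injective (MulAut.conj s⁻¹).injective).symm
    refine Subgroup.mem_normalizer_iff''.2 ?_
    intro h
    constructor
    · intro hh
      rw [← heq]
      exact ⟨h, hh, by simp⟩
    · intro hh
      rw [← heq] at hh
      obtain ⟨d, hd, hde⟩ := hh
      have : d = h := by
        have h3 : s⁻¹ * d * s = s⁻¹ * h * s := by simpa using hde
        simpa using h3
      rwa [← this]
  have hD₀N : ∀ {d : G}, d ∈ D₀ → d ∈ N := fun hd => ⟨hd.1, Subgroup.le_normalizer hd⟩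
  have hNaff : j ^ 2 * Nat.card D₀ ≤ Nat.card N := by
    rw [← card_orbit_mul_card_inf N u]
    refine Nat.mul_le_mul ?_ (Subgroup.card_le_of_le fun d hd => ⟨hD₀N hd, fixu d hd⟩)
    rw [hj, ← nat_card_not_mem_line lf]
    have hmem : ∀ v : {v : Fix D₀ P // v ∉ lf}, v.1.1 ∈ orbit N u := fun v => by
      obtain ⟨s, hs, hsu⟩ := transN v.1 v.2
      exact ⟨⟨s, hs⟩, hsu⟩
    exact Nat.card_le_card_of_injective (fun v => (⟨v.1.1, hmem v⟩ : orbit N u))
      fun a b e => Subtype.ext (Subtype.ext (congrArg (fun z => z.1) e))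
  have hNY : Nat.card (orbit N Y) ≤ j := by
    rw [hj, ← card_mem_ne_point lf (show Xf ∈ lf from hXl)]
    have hmem : ∀ q : orbit N Y, ∀ d ∈ D₀, d • q.1 = q.1 := by
      rintro ⟨q, s, rfl⟩ d hd
      have h1 : (s : G)⁻¹ * d * (s : G) ∈ D₀ := (Subgroup.mem_normalizer_iff''.1 s.2.2 d).1 hd
      show d • (s : G) • Y = (s : G) • Y
      rw [← mul_smul, show d * (s : G) = (s : G) * ((s : G)⁻¹ * d * (s : G)) by group, mul_smul, fixY _ h1]
    have hmem2 : ∀ q : orbit N Y, q.1 ∈ l ∧ q.1 ≠ X := by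
      rintro ⟨q, s, rfl⟩
      exact ⟨(mem_iff_of_fixed (hl s s.2.1)).2 hYl, fun e => hYX (smul_left_cancel (s : G) (e.trans (hX s s.2.1).symm))⟩
    exact Nat.card_le_card_of_injective (fun q => (⟨⟨q.1, hmem q⟩, (hmem2 q).1, fun e => (hmem2 q).2 (congrArg Subtype.val e)⟩ :
      {v : Fix D₀ P // v ∈ lf ∧ v ≠ Xf})) fun a b e => Subtype.ext (congrArg (fun z => z.1.1) e)
  obtain ⟨w, hwN, hwD⟩ : ∃ w ∈ N ⊓ stabilizer G Y, w ∉ D₀ := by
    by_contra hcon
    push Not at hcon
    have h1 := Subgroup.card_le_of_le (H := N ⊓ stabilizer G Y) (K := D₀) hcon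
    have h3 := card_orbit_mul_card_inf N Y
    have : Nat.card (orbit N Y) * Nat.card (N ⊓ stabilizer G Y : Subgroup G) ≤ j * Nat.card D₀ := Nat.mul_le_mul hNY h1
    have hpos : 0 < Nat.card D₀ := Nat.card_pos
    have : j * Nat.card D₀ < j ^ 2 * Nat.card D₀ := Nat.mul_lt_mul_of_pos_right (by nlinarith) hpos
    omega
  let wn : Subgroup.normalizer (D₀ : Set G) := ⟨w, hwN.1.2⟩
  obtain ⟨Lf, hLf, hLl⟩ : ∃ Lf : Fix D₀ L, wn • Lf = Lf ∧ Lf ≠ lf := by
    by_contra hcon
    push Not at hcon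
    have h1 := card_fixedBy_eq (P := Fix D₀ P) (L := Fix D₀ L) wn
    have h3 : Nat.card (fixedBy (Fix D₀ L) wn) ≤ 1 := by
      rw [Finite.card_le_one_iff_subsingleton]
      exact ⟨fun a b => Subtype.ext ((hcon a.1 a.2).trans (hcon b.1 b.2).symm)⟩
    have h4 : 1 < Nat.card (fixedBy (Fix D₀ P) wn) := by
      rw [Finite.one_lt_card_iff_nontrivial]
      exact ⟨⟨Xf, Subtype.ext (hX w hwN.1.1)⟩, ⟨Yf, Subtype.ext hwN.2⟩, fun e => hYX (congrArg (fun z => z.1.1) e).symm⟩
    omega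
  obtain ⟨Z, hZfix, hZL⟩ : ∃ Z : P, (∀ d ∈ (N ⊓ stabilizer G Y : Subgroup G), d • Z = Z) ∧ Z ∉ Lf.1 := by
    by_cases hXL : X ∈ Lf.1
    · refine ⟨Y, fun d hd => hd.2, fun hYL => hLl (Subtype.ext ?_)⟩
      exact line_eq hYX hYL hXL hYl hXl
    · exact ⟨X, fun d hd => hX d hd.1.1, hXL⟩
  set D : Subgroup G := (N ⊓ stabilizer G Y) ⊓ stabilizer G Lf.1
  have hle : D₀ ≤ D := fun d hd => ⟨⟨hD₀N hd, fixY d hd⟩, Lf.2 d hd⟩
  have hlt : Nat.card D₀ < Nat.card D := by
    refine lt_of_not_ge fun h => hwD ?_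
    rw [Subgroup.eq_of_le_of_card_ge hle h]
    exact ⟨hwN, congrArg Subtype.val hLf⟩
  have hDp : IsPGroup p D := S.2.to_le fun d hd => hd.1.1.1
  have h5 := card_mul_dvd_sylow S hDp (x := Z) (ω := Lf.1) (e := 2 * e) (fun d hd => hZfix d hd.1) (fun d hd => hd.2)
    (by rw [h2.card_orbit_line hZL, ← hn', ← hpe, ← pow_mul, mul_comm e])
  have h6 : Nat.card (S : Subgroup G) = p ^ (2 * e) * Nat.card D₀ := by
    rw [← card_orbit_mul_card_inf (S : Subgroup G) u]
    congr 1
    have hd := pow_dvd_card_orbit (e := 2 * e) S hSl u (by rw [h2.card_orbit_off hu, ← hn', ← hpe, ← pow_mul, mul_comm e])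
    refine Nat.le_antisymm ?_ (hne0 hd (card_orbit_pos _))
    rw [pow_mul', hpe, hn', ← nat_card_not_mem_line l]
    exact Nat.card_mono (Set.toFinite _)
      (orbit_sub (s := {q | q ∉ l}) (fun g hg q hq => fun h => hq ((mem_iff_of_fixed (hl g hg)).1 h)) hu)
  rw [h6, mul_comm (Nat.card D)] at h5
  have := hne0 (Nat.dvd_of_mul_dvd_mul_left (pow_pos hp.pos _) h5) Nat.card_pos
  omega

include L in
theorem TwoTrans.exists_involution (h2 : TwoTrans G P) : ∃ t : G, orderOf t = 2 := by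
  refine exists_prime_orderOf_dvd_card' 2 ?_
  obtain ⟨p₁, -⟩ := ProjectivePlane.exists_config (P := P) (L := L)
  obtain ⟨q, hq⟩ := exists_ne_point (L := L) p₁
  obtain ⟨g, hg, hg'⟩ := h2 p₁ q q p₁ hq.symm hq
  have key : ∀ j, g ^ (2 * j) • p₁ = p₁ := by
    intro j
    induction j with
    | zero => simp
    | succ j ih => rw [Nat.mul_succ, pow_succ', pow_succ', mul_smul, mul_smul, ih, hg, hg']
  refine Nat.dvd_trans ?_ (orderOf_dvd_natCard g)
  by_contra hodd
  obtain ⟨j, hj⟩ : Odd (orderOf g) := Nat.odd_iff.2 (by omega)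
  have h1 := pow_orderOf_eq_one g
  rw [hj, pow_succ'] at h1
  have h3 := congrArg (fun x : G => x • p₁) h1
  simp only [mul_smul, key, one_smul, hg] at h3
  exact hq h3

/-- In even order some involution is a perspectivity. -/
theorem exists_persp_of_even (h2 : TwoTrans G P) (heven : Even (order P L)) :
    ∃ (X : P) (a : L) (g : G), g ≠ 1 ∧ g ∈ EC G X a := by
  classical
  by_contra hno
  push Not at hno
  have := Fact.mk Nat.prime_two
  obtain ⟨S⟩ : Nonempty (Sylow 2 G) := inferInstance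
  obtain ⟨X, hX⟩ : ∃ X : P, ∀ s ∈ (S : Subgroup G), s • X = X := by
    obtain ⟨X, hX⟩ := S.2.nonempty_fixed_point_of_prime_not_dvd_card P (by
      rw [nat_card_points (L := L)]
      intro hd
      exact absurd ((Nat.dvd_add_right (dvd_add (dvd_pow heven.two_dvd two_ne_zero) heven.two_dvd)).1 hd) (by norm_num))
    exact ⟨X, fun s hs => hX ⟨s, hs⟩⟩
  obtain ⟨t, ht⟩ := h2.exists_involution (L := L)
  have hS1 : (S : Subgroup G) ≠ ⊥ := fun h => by
    have h1 := card_pow_dvd_card_sylow S (j := 1) (by rw [pow_one, ← ht]; exact orderOf_dvd_natCard t)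
    rw [show Nat.card S = Nat.card (S : Subgroup G) from rfl, h, Subgroup.card_bot] at h1
    exact absurd (Nat.le_of_dvd one_pos h1) (by norm_num)
  obtain ⟨z, hzS, hz, hcomm⟩ := exists_central_prime S.2 hS1
  have hz1 : z ≠ 1 := fun h => by rw [h, orderOf_one] at hz; exact absurd hz (by norm_num)
  rcases involution_cases (P := P) (L := L) (g := z) (by rw [← hz]; exact pow_orderOf_eq_one z) with ⟨C, a, h⟩ | ⟨hq, hord⟩
  · exact hno C a z hz1 h
  let _ := fixPlane hq
  set m := order (Fix (Subgroup.zpowers z) P) (Fix (Subgroup.zpowers z) L) with hm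
  have hm1 : 1 < m := one_lt_order _ _
  obtain ⟨a, b, hb, hab⟩ := Nat.exists_eq_two_pow_mul_odd (show m ≠ 0 by omega)
  have ha : a ≠ 0 := fun h => by
    rw [h, pow_zero, one_mul] at hab
    exact (Nat.not_odd_iff_even.2 heven) (hord ▸ (hab ▸ hb).pow)
  let Ω := {q : P // z • q = q ∧ q ≠ X}
  let _ : MulAction (S : Subgroup G) Ω :=
    { smul := fun s q => ⟨(s : G) • q.1, by rw [← mul_smul, ← hcomm s s.2, mul_smul, q.2.1],
        fun h => q.2.2 (smul_left_cancel (s : G) (h.trans (hX s s.2).symm))⟩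
      one_smul := fun q => Subtype.ext (one_smul G q.1)
      mul_smul := fun s t q => Subtype.ext (mul_smul (s : G) (t : G) q.1) }
  have horb : ∀ q : Ω, 2 ^ (2 * a) ∣ Nat.card (orbit (S : Subgroup G) q) := by
    intro q
    have h1 : Nat.card (orbit (S : Subgroup G) q) = Nat.card (orbit (S : Subgroup G) q.1) := by
      refine Nat.card_congr (Equiv.ofBijective (fun x => ⟨x.1.1, by obtain ⟨s, hs⟩ := x.2; exact ⟨s, congrArg Subtype.val hs⟩⟩) ⟨?_, ?_⟩)
      · intro x y e
        exact Subtype.ext (Subtype.ext (congrArg (fun w : orbit (S : Subgroup G) q.1 => w.1) e))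
      · rintro ⟨x, s, rfl⟩
        exact ⟨⟨s • q, mem_orbit q s⟩, rfl⟩
    rw [h1]
    refine pow_dvd_card_orbit S (show (S : Subgroup G) ≤ stabilizer G X from hX) q.1 ?_
    rw [h2.card_orbit_point (L := L) q.2.2, hord]
    have hd : 2 ^ (2 * a) ∣ m ^ 2 := ⟨b ^ 2, by rw [hab, mul_pow, ← pow_mul, mul_comm a 2]⟩
    exact dvd_add (dvd_pow hd two_ne_zero) hd
  have h1 := dvd_card_of_orbits horb
  have h3 : Nat.card Ω = m ^ 2 + m := by
    let Xf : Fix (Subgroup.zpowers z) P := ⟨X, mem_fix_zpowers (hX z hzS)⟩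
    have h := Nat.card_congr (Equiv.sumCompl (fun q : Fix (Subgroup.zpowers z) P => q = Xf))
    have e2 : Nat.card {q : Fix (Subgroup.zpowers z) P // ¬ q = Xf} = Nat.card Ω :=
      Nat.card_congr
        { toFun := fun q => ⟨q.1.1, q.1.2 z (Subgroup.mem_zpowers z), fun e => q.2 (Subtype.ext e)⟩
          invFun := fun q => ⟨⟨q.1, mem_fix_zpowers q.2.1⟩, fun e => q.2.2 (congrArg Subtype.val e)⟩ }
    have e3 : Nat.card (Fix (Subgroup.zpowers z) P) = m ^ 2 + m + 1 := nat_card_points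
    have e1 : Nat.card {q : Fix (Subgroup.zpowers z) P // q = Xf} = 1 :=
      Nat.card_eq_one_iff_unique.2 ⟨⟨fun u v => Subtype.ext (u.2.trans v.2.symm)⟩, ⟨⟨Xf, rfl⟩⟩⟩
    rw [Nat.card_sum, e1, e2, e3] at h
    omega
  rw [h3, show m ^ 2 + m = 2 ^ a * (b * (m + 1)) by rw [← mul_assoc, ← hab]; ring, mul_comm 2 a, pow_mul, sq] at h1
  have h4 := Nat.dvd_of_mul_dvd_mul_left (pow_pos two_pos a) h1
  have hodd : Odd (b * (m + 1)) :=
    hb.mul (by rw [hab]; exact (Even.mul_right ((Nat.even_pow).2 ⟨even_two, ha⟩) b).add_one)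
  exact (Nat.not_even_iff_odd.2 hodd) ((even_iff_two_dvd).2 ((dvd_pow_self 2 ha).trans h4))

theorem isPGroup_sup_zpowers {p : ℕ} [Fact p.Prime] {R : Subgroup G} (hR : IsPGroup p R) {u : G}
    (hu : u ∈ Subgroup.normalizer (R : Set G)) (hu' : ∃ j : ℕ, u ^ p ^ j = 1) :
    IsPGroup p (R ⊔ Subgroup.zpowers u : Subgroup G) := by
  refine hR.to_sup_of_normal_left' ?_ (Subgroup.zpowers_le.2 hu)
  obtain ⟨j, hj⟩ := hu'
  rintro ⟨x, hx⟩
  obtain ⟨i, rfl⟩ := Subgroup.mem_zpowers_iff.1 hx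
  refine ⟨j, Subtype.ext ?_⟩
  show (u ^ i) ^ p ^ j = 1
  rw [← zpow_natCast (u ^ i), ← zpow_mul, mul_comm, zpow_mul, zpow_natCast, hj, one_zpow]

theorem le_eq_of_isPGroup {p : ℕ} [Fact p.Prime] {R M : Subgroup G}
    (hmax : ∀ R' : Subgroup G, IsPGroup p R' → R ≤ R' → R' ≤ M → R' = R)
    (hR : IsPGroup p R) (hRM : R ≤ M) {u : G} (hu : u ∈ Subgroup.normalizer (R : Set G))
    (hu' : ∃ j : ℕ, u ^ p ^ j = 1) (huM : u ∈ M) : u ∈ R := by
  have h := hmax _ (isPGroup_sup_zpowers hR hu hu') le_sup_left (sup_le hRM (Subgroup.zpowers_le.2 huM))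
  rw [← h]
  exact Subgroup.mem_sup_right (Subgroup.mem_zpowers u)

/-- A maximal 2-group fixing a configuration: any two fixed points are fixed by an induced homology. -/
theorem pairHom_fix (h2 : TwoTrans G P) {R : Subgroup G} (hR : IsPGroup 2 R) (hq : HasQuad P L R)
    (hmax : ∀ R' : Subgroup G, IsPGroup 2 R' → R ≤ R' → HasQuad P L R' → R' = R)
    (hodd : Odd (@order (Fix R P) (Fix R L) _ (fixPlane hq))) (A B : Fix R P) (hAB : A ≠ B) :
    ∃ (u : Subgroup.normalizer (R : Set G)) (C : Fix R P) (a : Fix R L), C ∉ a ∧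
      (∀ q : Fix R P, q ∈ a → u • q = q) ∧ (∀ m : Fix R L, C ∈ m → u • m = m) ∧
      (∀ q : Fix R P, u • u • q = q) ∧ (∃ q : Fix R P, u • q ≠ q) ∧ u • A = A ∧ u • B = B := by
  classical
  have := Fact.mk Nat.prime_two
  let _ := fixPlane hq
  let φ := toColl (P := Fix R P) (L := Fix R L) (Subgroup.normalizer (R : Set G))
  -- a collineation inducing an involution fixes two points
  have twofix : ∀ x : Subgroup.normalizer (R : Set G), φ x ≠ 1 → φ x ^ 2 = 1 →
      ∃ C D : Fix R P, C ≠ D ∧ x • C = C ∧ x • D = D := by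
    intro x hx1 hx2
    rcases involution_cases (P := Fix R P) (L := Fix R L) hx2 with ⟨Z, a, hZ⟩ | ⟨hq', -⟩
    · obtain ⟨c, hc, -⟩ := exists_mem_ne a Z
      obtain ⟨d, hd, hdc⟩ := exists_mem_ne a c
      exact ⟨c, d, hdc.symm, hZ.1 c hc, hZ.1 d hd⟩
    · obtain ⟨p₁, p₂, p₃, -, -, l₃, -, -, -, -, h23, -, -, h33⟩ := hq'
      exact ⟨p₂.1, p₃.1, fun e => h33 (show p₃.1 ∈ l₃.1 from e ▸ h23),
        p₂.2 (φ x) (Subgroup.mem_zpowers _), p₃.2 (φ x) (Subgroup.mem_zpowers _)⟩
  let K : Fix R P → Fix R P → Subgroup G := fun A B => stabilizer G A.1 ⊓ stabilizer G B.1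
  have hRK : ∀ A B, R ≤ K A B := fun A B r hr => ⟨A.2 r hr, B.2 r hr⟩
  have two_power : ∀ {x : G}, ∃ j m : ℕ, Odd m ∧ (x ^ m) ^ 2 ^ j = 1 := fun {x} => by
    obtain ⟨j, m, hm, e⟩ := Nat.exists_eq_two_pow_mul_odd (orderOf_pos x).ne'
    exact ⟨j, m, hm, by rw [← pow_mul, mul_comm, ← e, pow_orderOf_eq_one]⟩
  obtain ⟨Q, hQ, hQK, hQmax⟩ : ∃ Q : Subgroup G, R ≤ Q ∧ (IsPGroup 2 Q ∧ Q ≤ K A B) ∧
      ∀ Q' : Subgroup G, IsPGroup 2 Q' → Q ≤ Q' → Q' ≤ K A B → Q' = Q := by
    obtain ⟨Q, hQ⟩ := Set.Finite.exists_maximal (Set.toFinite {Q : Subgroup G | R ≤ Q ∧ IsPGroup 2 Q ∧ Q ≤ K A B})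
      ⟨R, le_rfl, hR, hRK A B⟩
    exact ⟨Q, hQ.1.1, hQ.1.2, fun Q' h1 h2' h3 => le_antisymm (hQ.2 ⟨hQ.1.1.trans h2', h1, h3⟩ h2') h2'⟩
  rcases eq_or_lt_of_le hQ with hRQ | hRQ
  · exfalso
    subst hRQ
    obtain ⟨SR, hSR⟩ : ∃ SR : Sylow 2 (K A B), (SR : Subgroup (K A B)) = R.subgroupOf (K A B) := by
      refine ⟨⟨R.subgroupOf (K A B), hR.comap_of_injective _ (K A B).subtype_injective, fun {Q'} hQ' hle => ?_⟩, rfl⟩
      have h1 := hQmax (Q'.map (K A B).subtype) (hQ'.map _)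
        (fun r hr => ⟨⟨r, hRK A B hr⟩, hle hr, rfl⟩) (Subgroup.map_subtype_le Q')
      refine le_antisymm (fun q hq => ?_) hle
      exact (h1 ▸ ⟨q, hq, rfl⟩ : (q : G) ∈ R)
    -- the normaliser is two-transitive on the fixed points
    have trans : ∀ C D : Fix R P, C ≠ D → (∀ R' : Subgroup G, IsPGroup 2 R' → R ≤ R' → R' ≤ K C D → R' = R) ∧
        ∃ x : Subgroup.normalizer (R : Set G), x • A = C ∧ x • B = D := by
      intro C D hCD
      obtain ⟨g, hgA, hgB⟩ := h2 A.1 B.1 C.1 D.1 (fun e => hAB (Subtype.ext e)) (fun e => hCD (Subtype.ext e))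
      have hK : ∀ k : G, k ∈ K C D → g⁻¹ * k * g ∈ K A B := fun k hk => by
        refine ⟨?_, ?_⟩
        · show (g⁻¹ * k * g) • A.1 = A.1
          rw [mul_smul, mul_smul, hgA, show k • C.1 = C.1 from hk.1, ← hgA, inv_smul_smul]
        · show (g⁻¹ * k * g) • B.1 = B.1
          rw [mul_smul, mul_smul, hgB, show k • D.1 = D.1 from hk.2, ← hgB, inv_smul_smul]
      have hcard : ∀ R' : Subgroup G, IsPGroup 2 R' → R' ≤ K C D → Nat.card R' ≤ Nat.card R := by
        intro R' hR' hle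
        have hle' : R'.map (MulAut.conj g⁻¹).toMonoidHom ≤ K A B := by
          rintro _ ⟨k, hk, rfl⟩
          simpa using hK k (hle hk)
        have hp' : IsPGroup 2 ((R'.map (MulAut.conj g⁻¹).toMonoidHom).subgroupOf (K A B)) :=
          (hR'.map _).comap_of_injective _ (K A B).subtype_injective
        obtain ⟨T, hT⟩ := hp'.exists_le_sylow
        calc Nat.card R' = Nat.card ((R'.map (MulAut.conj g⁻¹).toMonoidHom).subgroupOf (K A B)) := by
              rw [Nat.card_congr (Subgroup.subgroupOfEquivOfLe hle').toEquiv, Subgroup.card_map_of_injective (MulAut.conj g⁻¹).injective]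
          _ ≤ Nat.card T := Subgroup.card_le_of_le hT
          _ = Nat.card SR := by rw [Sylow.card_eq_multiplicity, Sylow.card_eq_multiplicity]
          _ = Nat.card R := by
              rw [show Nat.card SR = Nat.card (SR : Subgroup (K A B)) from rfl, hSR,
                Nat.card_congr (Subgroup.subgroupOfEquivOfLe (hRK A B)).toEquiv]
      refine ⟨fun R' h1 h3 h4 => (Subgroup.eq_of_le_of_card_ge h3 (hcard R' h1 h4)).symm, ?_⟩
      -- conjugate back inside `K A B`
      have hle' : R.map (MulAut.conj g⁻¹).toMonoidHom ≤ K A B := by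
        rintro _ ⟨k, hk, rfl⟩
        simpa using hK k (hRK C D hk)
      obtain ⟨T, hT⟩ := ((hR.map (MulAut.conj g⁻¹).toMonoidHom).comap_of_injective _ (K A B).subtype_injective :
        IsPGroup 2 ((R.map (MulAut.conj g⁻¹).toMonoidHom).subgroupOf (K A B))).exists_le_sylow
      obtain ⟨c, hc⟩ := MulAction.exists_smul_eq (K A B) T SR
      have hmem : ∀ r ∈ R, (c : G) * (g⁻¹ * r * g) * (c : G)⁻¹ ∈ R := by
        intro r hr
        have h1 : (⟨g⁻¹ * r * g, hK r (hRK C D hr)⟩ : K A B) ∈ (T : Subgroup (K A B)) := hT ⟨r, hr, by simp⟩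
        have h3 : c * ⟨g⁻¹ * r * g, hK r (hRK C D hr)⟩ * c⁻¹ ∈ (SR : Subgroup (K A B)) := by
          rw [← hc, Sylow.coe_subgroup_smul]
          exact Subgroup.smul_mem_pointwise_smul _ (MulAut.conj c) _ h1
        rw [hSR] at h3
        exact h3
      set x : G := g * (c : G)⁻¹
      have hxm : x ∈ Subgroup.normalizer (R : Set G) := by
        have hmap : R.map (MulAut.conj x⁻¹).toMonoidHom = R := by
          refine Subgroup.eq_of_le_of_card_ge ?_ (le_of_eq (Subgroup.card_map_of_injective (MulAut.conj x⁻¹).injective).symm)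
          rintro _ ⟨r, hr, rfl⟩
          simpa [x, mul_assoc] using hmem r hr
        rw [Subgroup.mem_normalizer_iff'']
        intro r
        constructor
        · intro hr
          rw [← hmap]
          exact ⟨r, hr, by simp⟩
        · intro hr
          rw [← hmap] at hr
          obtain ⟨d, hd, hde⟩ := hr
          have : d = r := by
            have h3 : x⁻¹ * d * x = x⁻¹ * r * x := by simpa using hde
            simpa using h3
          rwa [← this]
      refine ⟨⟨x, hxm⟩, Subtype.ext ?_, Subtype.ext ?_⟩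
      · show (g * (c : G)⁻¹) • A.1 = C.1
        rw [mul_smul, show (c : G)⁻¹ • A.1 = A.1 from (K A B).inv_mem c.2 |>.1, hgA]
      · show (g * (c : G)⁻¹) • B.1 = D.1
        rw [mul_smul, show (c : G)⁻¹ • B.1 = B.1 from (K A B).inv_mem c.2 |>.2, hgB]
    obtain ⟨-, x, hxA, hxB⟩ := trans B A hAB.symm
    obtain ⟨j, m, hm, hjm⟩ := two_power (x := (x : G))
    set x' := x ^ m
    have hx'A : x' • A = B := by
      obtain ⟨i, rfl⟩ := hm
      have key : ∀ i, x ^ (2 * i) • A = A := by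
        intro i
        induction i with
        | zero => simp
        | succ i ih => rw [Nat.mul_succ, pow_succ', pow_succ', mul_smul, mul_smul, ih, hxA, hxB]
      rw [show x' = x ^ (2 * i + 1) from rfl, pow_succ', mul_smul, key, hxA]
    have hx'1 : φ x' ≠ 1 := fun e => hAB (by
      rw [← hx'A, ← toColl_smul_point (P := Fix R P) (L := Fix R L) x' A, show toColl _ x' = φ x' from rfl, e, one_smul])
    have hord : ∃ i : ℕ, φ x' ^ 2 ^ i = 1 := ⟨j, by
      rw [← map_pow, show x' ^ 2 ^ j = 1 from Subtype.ext (by simpa [x'] using hjm), map_one]⟩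
    have hfind := Nat.find_spec hord
    have hpos : Nat.find hord ≠ 0 := fun e => by
      rw [e, pow_zero, pow_one] at hfind
      exact hx'1 hfind
    obtain ⟨i, hi⟩ := Nat.exists_eq_succ_of_ne_zero hpos
    set y := x' ^ 2 ^ i
    have hy1 : φ y ≠ 1 := fun e => Nat.find_min hord (show i < Nat.find hord by omega) (by rw [← map_pow]; exact e)
    have hy2 : φ y ^ 2 = 1 := by
      rw [map_pow, ← pow_mul, ← pow_succ, show i + 1 = Nat.find hord from hi.symm]
      exact hfind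
    obtain ⟨C, D, hCD, hyC, hyD⟩ := twofix y hy1 hy2
    obtain ⟨hmaxCD, -⟩ := trans C D hCD
    have hyR : (y : G) ∈ R := le_eq_of_isPGroup hmaxCD hR (hRK C D) y.2
      ⟨j, by
        rw [show (y : G) = ((x : G) ^ m) ^ 2 ^ i from by simp [y, x'], ← pow_mul, mul_comm, pow_mul, hjm, one_pow]⟩
      ⟨congrArg Subtype.val hyC, congrArg Subtype.val hyD⟩
    exact hy1 (eq_one_of_forall_fixed (P := Fix R P) fun q => Subtype.ext (q.2 _ hyR))
  · obtain ⟨x, hxN, hxR⟩ : ∃ x : Q, (x : G) ∈ Subgroup.normalizer (R : Set G) ∧ (x : G) ∉ R := by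
      have hnil : Group.IsNilpotent Q := hQK.1.isNilpotent
      have hlt : R.subgroupOf Q < ⊤ := lt_top_iff_ne_top.2 fun e => hRQ.not_ge (Subgroup.subgroupOf_eq_top.1 e)
      have hnc := Group.normalizerCondition_of_isNilpotent (G := Q) _ hlt
      obtain ⟨x, hxN, hxR⟩ := SetLike.exists_of_lt hnc
      refine ⟨x, ?_, hxR⟩
      rw [Subgroup.mem_normalizer_iff''] at hxN ⊢
      intro r
      constructor
      · intro hr; exact (hxN ⟨r, hQ hr⟩).1 hr
      · intro hr
        have hrQ : r ∈ Q := by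
          have : r = (x : G) * ((x : G)⁻¹ * r * x) * (x : G)⁻¹ := by group
          rw [this]; exact mul_mem (mul_mem x.2 (hQ hr)) (inv_mem x.2)
        exact (hxN ⟨r, hrQ⟩).2 hr
    have hord : ∃ i : ℕ, (x : G) ^ 2 ^ i ∈ R := by
      obtain ⟨i, hi⟩ := hQK.1 x
      exact ⟨i, by rw [← SubmonoidClass.coe_pow, hi]; exact one_mem R⟩
    have hfind := Nat.find_spec hord
    have hpos : Nat.find hord ≠ 0 := fun e => by
      rw [e, pow_zero, pow_one] at hfind
      exact hxR hfind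
    obtain ⟨i, hi⟩ := Nat.exists_eq_succ_of_ne_zero hpos
    set u₀ := (x : G) ^ 2 ^ i
    have hu₀R : u₀ ∉ R := Nat.find_min hord (show i < Nat.find hord by omega)
    have hu₀2 : u₀ ^ 2 ∈ R := by
      rw [← pow_mul, ← pow_succ, show i + 1 = Nat.find hord from hi.symm]
      exact hfind
    have hu₀Q : u₀ ∈ Q := pow_mem x.2 _
    let u : Subgroup.normalizer (R : Set G) := ⟨u₀, pow_mem hxN _⟩
    have hu2 : ∀ q : Fix R P, u • u • q = q := fun q => Subtype.ext (by
      show u₀ • u₀ • q.1 = q.1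
      rw [← mul_smul, ← sq]; exact q.2 _ hu₀2)
    have hbig : ∀ R' : Subgroup G, R' = R ⊔ Subgroup.zpowers u₀ → IsPGroup 2 R' ∧ ¬ HasQuad P L R' := by
      rintro R' rfl
      have hp := isPGroup_sup_zpowers hR (pow_mem hxN _ : u₀ ∈ _) (by
        obtain ⟨j, hj⟩ := hQK.1 ⟨u₀, hu₀Q⟩
        exact ⟨j, congrArg Subtype.val hj⟩)
      refine ⟨hp, fun h => hu₀R ?_⟩
      have h' := hmax _ hp le_sup_left h
      rw [← h']
      exact Subgroup.mem_sup_right (Subgroup.mem_zpowers _)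
    have hu1 : φ u ≠ 1 := by
      intro e
      refine (hbig _ rfl).2 ?_
      have hP : ∀ q : Fix R P, ∀ g ∈ R ⊔ Subgroup.zpowers u₀, g • q.1 = q.1 := fun q =>
        show R ⊔ Subgroup.zpowers u₀ ≤ stabilizer G q.1 from sup_le q.2 (Subgroup.zpowers_le.2 (show u₀ • q.1 = q.1 from by
          have := congrArg Subtype.val (show u • q = q by
            rw [← toColl_smul_point (P := Fix R P) (L := Fix R L) u q, show toColl _ u = φ u from rfl, e, one_smul])
          exact this))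
      have hL : ∀ q : Fix R L, ∀ g ∈ R ⊔ Subgroup.zpowers u₀, g • q.1 = q.1 := fun q =>
        show R ⊔ Subgroup.zpowers u₀ ≤ stabilizer G q.1 from sup_le q.2 (Subgroup.zpowers_le.2 (show u₀ • q.1 = q.1 from by
          have := congrArg Subtype.val (show u • q = q by
            rw [← toColl_smul_line (P := Fix R P) (L := Fix R L) u q, show toColl _ u = φ u from rfl, e, one_smul])
          exact this))
      obtain ⟨p₁, p₂, p₃, l₁, l₂, l₃, hc⟩ := hq
      exact ⟨⟨p₁.1, hP p₁⟩, ⟨p₂.1, hP p₂⟩, ⟨p₃.1, hP p₃⟩, ⟨l₁.1, hL l₁⟩, ⟨l₂.1, hL l₂⟩, ⟨l₃.1, hL l₃⟩, hc⟩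
    have hu2' : φ u ^ 2 = 1 := eq_one_of_forall_fixed (P := Fix R P) fun q => by
      rw [sq, mul_smul]; exact hu2 q
    rcases involution_cases (P := Fix R P) (L := Fix R L) hu2' with ⟨Z, a, hZ⟩ | ⟨hq', -⟩
    · have hZa : Z ∉ a := fun hZa => by
        have hd2 : orderOf (φ u) ∣ Nat.card (Elat (Coll (Fix R P) (Fix R L)) (Fix R P) a) := by
          rw [← Subgroup.orderOf_mk (φ u) (ec_le_elat hZa hZ)]; exact orderOf_dvd_natCard _
        rw [orderOf_eq_prime hu2' hu1] at hd2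
        exact absurd ((card_elat_odd hodd a).of_dvd_nat hd2) (by decide)
      refine ⟨u, Z, a, hZa, hZ.1, hZ.2, hu2, ?_, Subtype.ext (hQK.2 hu₀Q).1, Subtype.ext (hQK.2 hu₀Q).2⟩
      by_contra hcon
      push Not at hcon
      exact hu1 (eq_one_of_forall_fixed (P := Fix R P) hcon)
    · exfalso
      refine (hbig _ rfl).2 ?_
      obtain ⟨p₁, p₂, p₃, l₁, l₂, l₃, hc⟩ := hq'
      have hP : ∀ q : Fix (Subgroup.zpowers (φ u)) (Fix R P), ∀ g ∈ R ⊔ Subgroup.zpowers u₀, g • q.1.1 = q.1.1 := fun q =>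
        show R ⊔ Subgroup.zpowers u₀ ≤ stabilizer G q.1.1 from sup_le q.1.2
          (Subgroup.zpowers_le.2 (congrArg Subtype.val (q.2 (φ u) (Subgroup.mem_zpowers _))))
      have hL : ∀ q : Fix (Subgroup.zpowers (φ u)) (Fix R L), ∀ g ∈ R ⊔ Subgroup.zpowers u₀, g • q.1.1 = q.1.1 := fun q =>
        show R ⊔ Subgroup.zpowers u₀ ≤ stabilizer G q.1.1 from sup_le q.1.2
          (Subgroup.zpowers_le.2 (congrArg Subtype.val (q.2 (φ u) (Subgroup.mem_zpowers _))))
      exact ⟨⟨p₁.1.1, hP p₁⟩, ⟨p₂.1.1, hP p₂⟩, ⟨p₃.1.1, hP p₃⟩, ⟨l₁.1.1, hL l₁⟩, ⟨l₂.1.1, hL l₂⟩, ⟨l₃.1.1, hL l₃⟩, hc⟩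

end

section

universe u

variable {G : Type u} [Group G] [Finite G] {P L : Type u} [Membership P L] [ProjectivePlane P L]
  [Finite P] [Finite L] [MulAction G P] [MulAction G L] [IsColl G P L] [FaithfulSMul G P]

/-- A two-transitive collineation group contains a perspectivity. -/
theorem exists_persp (h2 : TwoTrans G P) : ∃ (X : P) (a : L) (g : G), g ≠ 1 ∧ g ∈ EC G X a := by
  classical
  rcases Nat.even_or_odd (order P L) with heven | hodd
  · exact exists_persp_of_even h2 heven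
  by_contra hno
  have hfd := faithful_dual (G := G) (P := P) (L := L)
  have := Fact.mk Nat.prime_two
  obtain ⟨t, ht⟩ := h2.exists_involution (L := L)
  have ht2 : t ^ 2 = 1 := by rw [← ht]; exact pow_orderOf_eq_one t
  have hqt : HasQuad P L (Subgroup.zpowers t) := by
    rcases involution_cases (P := P) (L := L) ht2 with ⟨X, a, h⟩ | ⟨hq, -⟩
    · refine absurd ⟨X, a, t, fun e => ?_, h⟩ hno
      rw [e, orderOf_one] at ht; exact absurd ht (by norm_num)
    · exact hq
  obtain ⟨R, ⟨hR, hq⟩, hmax⟩ := Set.Finite.exists_maximal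
    (Set.toFinite {R : Subgroup G | IsPGroup 2 R ∧ HasQuad P L R})
    ⟨Subgroup.zpowers t, IsPGroup.of_card (n := 1) (by rw [Nat.card_zpowers, ht, pow_one]), hqt⟩
  have hmax' : ∀ R' : Subgroup G, IsPGroup 2 R' → R ≤ R' → HasQuad P L R' → R' = R :=
    fun R' h1 h3 h4 => le_antisymm (hmax ⟨h1, h4⟩ h3) h3
  let _ := fixPlane hq
  set k := order (Fix R P) (Fix R L) with hk
  have hquadR : HasQuad P L (⊤ : Subgroup R) := by
    obtain ⟨p₁, p₂, p₃, l₁, l₂, l₃, hc⟩ := hq
    exact ⟨⟨p₁.1, fun g _ => p₁.2 g g.2⟩, ⟨p₂.1, fun g _ => p₂.2 g g.2⟩, ⟨p₃.1, fun g _ => p₃.2 g g.2⟩,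
      ⟨l₁.1, fun g _ => l₁.2 g g.2⟩, ⟨l₂.1, fun g _ => l₂.2 g g.2⟩, ⟨l₃.1, fun g _ => l₃.2 g g.2⟩, hc⟩
  obtain ⟨r, k', hk', hr⟩ := order_eq_pow_two_pow (Nat.card P) P L R le_rfl hR hquadR
  have hkk : k' = k := by
    have e : Nat.card (Fix (⊤ : Subgroup R) P) = Nat.card (Fix R P) :=
      Nat.card_congr
        { toFun := fun p => ⟨p.1, fun g hg => p.2 ⟨g, hg⟩ trivial⟩
          invFun := fun p => ⟨p.1, fun g _ => p.2 g g.2⟩ }
    rw [e, nat_card_points (L := Fix R L), ← hk] at hk'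
    rcases lt_trichotomy k' k with h | h | h
    · have := Nat.mul_self_lt_mul_self h; rw [← sq, ← sq] at this; omega
    · exact h
    · have := Nat.mul_self_lt_mul_self h; rw [← sq, ← sq] at this; omega
  subst hkk
  have hkodd : Odd k := by
    by_contra he
    rw [Nat.not_odd_iff_even] at he
    exact (Nat.not_odd_iff_even.2 (hr ▸ (Nat.even_pow).2 ⟨he, (pow_pos two_pos r).ne'⟩)) hodd
  let φ := toColl (P := Fix R P) (L := Fix R L) (Subgroup.normalizer (R : Set G))
  have hpP : PairHom φ.range (Fix R P) (Fix R L) := by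
    intro A B hAB
    obtain ⟨u, C, a, hCa, hax, hce, h2u, ⟨q, hq'⟩, hA, hB⟩ := pairHom_fix h2 hR hq hmax' hkodd A B hAB
    exact ⟨⟨φ u, u, rfl⟩, C, a, ⟨hCa, ⟨hax, hce⟩, fun e => hq' (by
        have := congrArg (fun x : φ.range => (x : Coll (Fix R P) (Fix R L)) • q) e
        simpa [φ, toColl_smul_point] using this),
      Subtype.ext (eq_one_of_forall_fixed (P := Fix R P) fun q => by
        rw [SubmonoidClass.coe_pow, sq, mul_smul]; exact h2u q)⟩, hA, hB⟩
  have hpL : PairHom φ.range (Dual (Fix R L)) (Dual (Fix R P)) := by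
    intro A B hAB
    have hmaxd : ∀ R' : Subgroup G, IsPGroup 2 R' → R ≤ R' → HasQuad (Dual L) (Dual P) R' → R' = R :=
      fun R' h1 h3 h4 => hmax' R' h1 h3 h4.dual
    have hoddd : Odd (@order (Fix R (Dual L)) (Fix R (Dual P)) _ (fixPlane hq.dual)) := by
      have h : @order (Fix R (Dual L)) (Fix R (Dual P)) _ (fixPlane hq.dual) = k := by
        have h1 := @nat_card_points (Fix R (Dual L)) (Fix R (Dual P)) _ (fixPlane hq.dual) _ _
        have h3 : Nat.card (Fix R (Dual L)) = k ^ 2 + k + 1 := nat_card_lines (P := Fix R P) (L := Fix R L)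
        rw [h3] at h1
        rcases lt_trichotomy (@order (Fix R (Dual L)) (Fix R (Dual P)) _ (fixPlane hq.dual)) k with h | h | h
        · have := Nat.mul_self_lt_mul_self h; rw [← sq, ← sq] at this; omega
        · exact h
        · have := Nat.mul_self_lt_mul_self h; rw [← sq, ← sq] at this; omega
      rw [h]; exact hkodd
    obtain ⟨u, C, a, hCa, hax, hce, h2u, ⟨q, hq'⟩, hA, hB⟩ := pairHom_fix (P := Dual L) (L := Dual P) h2.dual hR hq.dual
      hmaxd hoddd A B hAB
    refine ⟨⟨φ u, u, rfl⟩, C, a, ⟨hCa, ⟨hax, hce⟩, fun e => hq' ?_, ?_⟩, hA, hB⟩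
    · let q' : Fix R L := q
      have := congrArg (fun x : φ.range => (x : Coll (Fix R P) (Fix R L)) • q') e
      exact this.trans (one_smul _ _)
    · refine Subtype.ext (eq_one_of_forall_fixed (P := Fix R P) fun q => ?_)
      rw [SubmonoidClass.coe_pow, sq, mul_smul]
      exact forall_point_fixed (G := Subgroup.normalizer (R : Set G)) (P := Fix R P) (L := Fix R L) (g := u * u)
        (fun m => (mul_smul u u m).trans (h2u m)) q |> fun h => (mul_smul u u q).symm.trans h
  have hpp := isPrimePow_of_hasFull (hasFull_of_pairHom hkodd hpP hpL)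
  exact hno (exists_persp_of_isPrimePow h2 (hr ▸ hpp.pow (pow_pos two_pos r).ne'))

/-- **Ostrom--Wagner**: every line is a translation line. -/
theorem card_elat_eq_sq_of_twoTrans (h2 : TwoTrans G P) (a : L) : Nat.card (Elat G P a) = order P L ^ 2 := by
  classical
  obtain ⟨C, b, g, hg1, hg⟩ := exists_persp (L := L) h2
  obtain ⟨X, c, hX, τ, hτ, hτ1⟩ : ∃ (X : P) (c : L), X ∈ c ∧ ∃ τ ∈ EC G X c, τ ≠ 1 := by
    by_cases hCb : C ∈ b
    · exact ⟨C, b, hCb, g, hg, hg1⟩
    obtain ⟨g', hg'b, hg'C⟩ : ∃ g' : G, g' • b = b ∧ g' • C ≠ C := by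
      by_contra hcon
      push Not at hcon
      choose f hf using fun m : L => h2.exists_map_line b m
      let φ : L → P := fun m => f m • C
      have hφ : ∀ (x : G) (m : L), φ (x • m) = x • φ m := by
        intro x m
        have h1 : ((f (x • m))⁻¹ * (x * f m)) • b = b := by rw [mul_smul, mul_smul, hf m, inv_smul_eq_iff, hf]
        have h3 := hcon _ h1
        rw [mul_smul, inv_smul_eq_iff, mul_smul] at h3
        exact h3.symm
      have hsurj : Function.Surjective φ := fun q => by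
        obtain ⟨x, hx⟩ := h2.exists_map_point (L := L) (φ b) q
        exact ⟨x • b, by rw [hφ, hx]⟩
      have hinj : Function.Injective φ := ((Function.Surjective.bijective_of_nat_card_le hsurj)
        (by rw [nat_card_lines (P := P), nat_card_points (L := L)])).1
      have hφb : φ b = C := hcon _ (hf b)
      obtain ⟨w, hw, -⟩ := exists_mem_ne b C
      obtain ⟨v, hv, hvC⟩ : ∃ v : P, v ∉ b ∧ v ≠ C := by
        have hCw : C ≠ w := fun e => hCb (e ▸ hw)
        obtain ⟨v, hv, hvC, hvw⟩ := exists_mem_ne_ne (join C w : L) C w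
        exact ⟨v, fun e => hvw (point_eq (fun e' : (join C w : L) = b => hCb (e' ▸ join_left hCw)) hv e (join_right hCw) hw), hvC⟩
      have hwC : w ≠ C := fun e => hCb (e ▸ hw)
      obtain ⟨x, hxC, hxw⟩ := h2.exists_stab hwC hvC
      have hxb : x • b = b := hinj (by rw [hφ, hφb, hxC])
      exact hv (hxw ▸ (mem_iff_of_fixed hxb).2 hw)
    have hg2 : g' * g * g'⁻¹ ∈ EC G (g' • C) b := by
      have := conj_mem_ec (g := g') hg
      rwa [hg'b] at this
    obtain ⟨τ, hτ, e⟩ := exists_elat_map hCb (show g' • C ∉ b from fun h => hCb ((mem_iff_of_fixed hg'b).1 h))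
      hg.1 (central_smul_point hg.2) hg1 hg2.1 (central_smul_point hg2.2) (fun h => hg1 (conj_eq_one_iff.1 h))
    obtain ⟨W, hW, hτW⟩ := exists_ec_of_elat hτ
    exact ⟨W, b, hW, τ, hτW, fun h => hg'C (by rw [← e, h, one_smul])⟩
  refine card_elat_eq_sq (h := Nat.card (EC G X c)) ?_ fun Y hY => ?_
  · have : Nontrivial (EC G X c) := ⟨⟨⟨τ, hτ⟩, 1, fun e => hτ1 (congrArg Subtype.val e)⟩⟩
    exact Finite.one_lt_card
  · obtain ⟨X', hX', hne⟩ := exists_mem_ne c X
    obtain ⟨Y', hY', hne'⟩ := exists_mem_ne a Y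
    obtain ⟨x, hx, hx'⟩ := h2 X X' Y Y' hne.symm hne'.symm
    have hxc : x • c = a := line_eq hne'.symm (hx ▸ smul_mem x hX) (hx' ▸ smul_mem x hX') hY hY'
    rw [← hx, ← hxc]
    exact card_ec_smul x X c

end

end CfsgLib.Plane
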