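import Mathlib.Combinatorics.Configuration
import Mathlib.Combinatorics.Enumerative.DoubleCounting
import Mathlib.GroupTheory.GroupAction.Quotient
import Mathlib.GroupTheory.Perm.Basic
import Mathlib.GroupTheory.Sylow

/-!
Collineations of finite projective planes: incidence, duality, orbit counting.
-/

set_option autoImplicit false

namespace CfsgLib.Plane

open Configuration Configuration.ProjectivePlane MulAction

/-- The action preserves incidence. -/
class IsColl (G : Type*) (P L : Type*) [Membership P L] [SMul G P] [SMul G L] : Prop where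
  mem_iff : ∀ (g : G) (p : P) (l : L), g • p ∈ g • l ↔ p ∈ l

section

variable {P L : Type*} [Membership P L] [ProjectivePlane P L]

open scoped Classical in
/-- The line through two points. -/
noncomputable def join (p q : P) : L :=
  if h : p ≠ q then HasLines.mkLine h else (ProjectivePlane.exists_config (P := P) (L := L)).choose_spec.choose_spec.choose_spec.choose

open scoped Classical in
/-- The point on two lines. -/
noncomputable def meet (l m : L) : P :=
  if h : l ≠ m then HasPoints.mkPoint h else (ProjectivePlane.exists_config (P := P) (L := L)).choose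

theorem join_left {p q : P} (h : p ≠ q) : p ∈ (join p q : L) := by
  rw [join, dif_pos h]; exact (HasLines.mkLine_ax h).1

theorem join_right {p q : P} (h : p ≠ q) : q ∈ (join p q : L) := by
  rw [join, dif_pos h]; exact (HasLines.mkLine_ax h).2

theorem meet_left {l m : L} (h : l ≠ m) : (meet l m : P) ∈ l := by
  rw [meet, dif_pos h]; exact (HasPoints.mkPoint_ax h).1

theorem meet_right {l m : L} (h : l ≠ m) : (meet l m : P) ∈ m := by
  rw [meet, dif_pos h]; exact (HasPoints.mkPoint_ax h).2

theorem line_eq {p q : P} {l m : L} (h : p ≠ q) (h1 : p ∈ l) (h2 : q ∈ l) (h3 : p ∈ m) (h4 : q ∈ m) : l = m :=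
  (Nondegenerate.eq_or_eq h1 h2 h3 h4).resolve_left h

theorem point_eq {p q : P} {l m : L} (h : l ≠ m) (h1 : p ∈ l) (h2 : p ∈ m) (h3 : q ∈ l) (h4 : q ∈ m) : p = q :=
  (Nondegenerate.eq_or_eq h1 h3 h2 h4).resolve_right h

theorem eq_join {p q : P} {l : L} (h : p ≠ q) (h1 : p ∈ l) (h2 : q ∈ l) : l = join p q :=
  line_eq h h1 h2 (join_left h) (join_right h)

theorem eq_meet {p : P} {l m : L} (h : l ≠ m) (h1 : p ∈ l) (h2 : p ∈ m) : p = meet l m :=
  point_eq h h1 h2 (meet_left h) (meet_right h)

theorem exists_line_not_mem (p : P) : ∃ l : L, p ∉ l := Nondegenerate.exists_line p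

theorem exists_point_not_mem (l : L) : ∃ p : P, p ∉ l := Nondegenerate.exists_point l

theorem nat_card_mem_line [Finite P] [Finite L] (l : L) : Nat.card {p : P // p ∈ l} = order P L + 1 :=
  pointCount_eq P l

theorem nat_card_mem_point [Finite P] [Finite L] (p : P) : Nat.card {l : L // p ∈ l} = order P L + 1 :=
  lineCount_eq L p

theorem nat_card_points [Finite P] [Finite L] : Nat.card P = order P L ^ 2 + order P L + 1 := by
  have := Fintype.ofFinite P
  rw [Nat.card_eq_fintype_card, card_points P L]

theorem nat_card_lines [Finite P] [Finite L] : Nat.card L = order P L ^ 2 + order P L + 1 := by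
  have := Fintype.ofFinite L
  rw [Nat.card_eq_fintype_card, card_lines P L]

theorem nat_card_not_mem_line [Finite P] [Finite L] (l : L) : Nat.card {p : P // p ∉ l} = order P L ^ 2 := by
  classical
  have h := Nat.card_congr (Equiv.sumCompl (fun p : P => p ∈ l))
  rw [Nat.card_sum, nat_card_mem_line, nat_card_points (L := L)] at h
  omega

theorem nat_card_not_mem_point [Finite P] [Finite L] (p : P) : Nat.card {l : L // p ∉ l} = order P L ^ 2 := by
  classical
  have h := Nat.card_congr (Equiv.sumCompl (fun l : L => p ∈ l))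
  have h' : Nat.card L = order P L ^ 2 + order P L + 1 := nat_card_lines
  rw [Nat.card_sum, nat_card_mem_point] at h
  omega

/-- On each line there is a point other than two given ones. -/
theorem exists_mem_ne_ne [Finite P] [Finite L] (l : L) (x y : P) : ∃ z : P, z ∈ l ∧ z ≠ x ∧ z ≠ y := by
  classical
  have := Fintype.ofFinite P
  have h := two_lt_pointCount P l
  rw [pointCount, Nat.card_eq_fintype_card, Fintype.two_lt_card_iff] at h
  obtain ⟨⟨a, ha⟩, ⟨b, hb⟩, ⟨c, hc⟩, hab, hac, hbc⟩ := h
  simp only [Ne, Subtype.mk.injEq] at hab hac hbc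
  grind

theorem exists_mem_ne [Finite P] [Finite L] (l : L) (x : P) : ∃ z : P, z ∈ l ∧ z ≠ x := by
  obtain ⟨z, h1, h2, -⟩ := exists_mem_ne_ne l x x
  exact ⟨z, h1, h2⟩

/-- Through each point there is a line other than two given ones. -/
theorem exists_line_mem_ne_ne [Finite P] [Finite L] (p : P) (l m : L) : ∃ n : L, p ∈ n ∧ n ≠ l ∧ n ≠ m :=
  exists_mem_ne_ne (P := Dual L) (L := Dual P) p l m

theorem exists_line_mem_ne [Finite P] [Finite L] (p : P) (l : L) : ∃ n : L, p ∈ n ∧ n ≠ l := by
  obtain ⟨z, h1, h2, -⟩ := exists_line_mem_ne_ne p l l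
  exact ⟨z, h1, h2⟩

/-- A point off two given lines. -/
theorem exists_not_mem_not_mem [Finite P] [Finite L] (l m : L) : ∃ p : P, p ∉ l ∧ p ∉ m := by
  classical
  obtain ⟨x, hx⟩ := exists_point_not_mem (P := P) l
  by_cases hxm : x ∈ m
  · have hlm : l ≠ m := fun h => hx (h ▸ hxm)
    obtain ⟨y, hy, hy'⟩ := exists_mem_ne l (meet l m)
    have hxy : x ≠ y := fun h => hx (h ▸ hy)
    obtain ⟨z, hz, hzx, hzy⟩ := exists_mem_ne_ne (join x y : L) x y
    refine ⟨z, fun hzl => hzy ?_, fun hzm => hzx ?_⟩
    · exact point_eq (fun h : (join x y : L) = l => hx (h ▸ join_left hxy)) hz hzl (join_right hxy) hy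
    · refine point_eq (fun h : (join x y : L) = m => hy' ?_) hz hzm (join_left hxy) hxm
      exact eq_meet hlm hy (h ▸ join_right hxy)
  · exact ⟨x, hx, hxm⟩

end

section Action

variable {G : Type*} [Group G] {P L : Type*} [Membership P L] [MulAction G P] [MulAction G L] [IsColl G P L]

instance instDualAction : MulAction G (Dual P) := inferInstanceAs (MulAction G P)

instance instDualColl : IsColl G (Dual L) (Dual P) := ⟨fun g l p => IsColl.mem_iff (P := P) (L := L) g p l⟩

instance instSubgroupColl (H : Subgroup G) : IsColl H P L := ⟨fun g p l => IsColl.mem_iff (g : G) p l⟩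

theorem smul_mem (g : G) {p : P} {l : L} (h : p ∈ l) : g • p ∈ g • l := (IsColl.mem_iff g p l).2 h

theorem smul_mem_iff (g : G) {p : P} {l : L} : g • p ∈ l ↔ p ∈ g⁻¹ • l := by
  rw [← IsColl.mem_iff g p (g⁻¹ • l), smul_inv_smul]

theorem mem_smul_iff (g : G) {p : P} {l : L} : p ∈ g • l ↔ g⁻¹ • p ∈ l := by
  rw [smul_mem_iff g⁻¹, inv_inv]

theorem mem_iff_of_fixed {g : G} {p : P} {l : L} (hl : g • l = l) : g • p ∈ l ↔ p ∈ l := by
  conv_lhs => rw [← hl]
  exact IsColl.mem_iff g p l

variable [ProjectivePlane P L]

theorem smul_join (g : G) {p q : P} (h : p ≠ q) : g • (join p q : L) = join (g • p) (g • q) :=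
  eq_join (by simpa using h) (smul_mem g (join_left h)) (smul_mem g (join_right h))

theorem smul_meet (g : G) {l m : L} (h : l ≠ m) : g • (meet l m : P) = meet (g • l) (g • m) :=
  eq_meet (by simpa using h) (smul_mem g (meet_left h)) (smul_mem g (meet_right h))

theorem smul_line_eq (g : G) {p q : P} {l : L} (h : p ≠ q) (hp : p ∈ l) (hq : q ∈ l)
    (hgp : g • p = p) (hgq : g • q = q) : g • l = l :=
  line_eq h (by simpa [hgp] using smul_mem g hp) (by simpa [hgq] using smul_mem g hq) hp hq

theorem smul_point_eq (g : G) {p : P} {l m : L} (h : l ≠ m) (hp : p ∈ l) (hq : p ∈ m)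
    (hgl : g • l = l) (hgm : g • m = m) : g • p = p :=
  point_eq h ((mem_iff_of_fixed hgl).2 hp) ((mem_iff_of_fixed hgm).2 hq) hp hq

/-- The faithfulness on lines. -/
theorem forall_line_fixed [Finite P] [Finite L] {g : G} (hg : ∀ p : P, g • p = p) (l : L) : g • l = l := by
  obtain ⟨x, hx, hxy⟩ := exists_mem_ne l (Classical.choose (ProjectivePlane.exists_config (P := P) (L := L)))
  obtain ⟨y, hy, hyx⟩ := exists_mem_ne l x
  exact smul_line_eq g hyx hy hx (hg y) (hg x)

theorem forall_point_fixed [Finite P] [Finite L] {g : G} (hg : ∀ l : L, g • l = l) (p : P) : g • p = p :=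
  forall_line_fixed (P := Dual L) (L := Dual P) hg p

theorem eq_one_of_forall_fixed [FaithfulSMul G P] {g : G} (hg : ∀ p : P, g • p = p) : g = 1 :=
  eq_of_smul_eq_smul (α := P) fun p => by rw [hg p, one_smul]

theorem faithful_lines [Finite P] [Finite L] [FaithfulSMul G P] : FaithfulSMul G L :=
  ⟨fun {g h} hgh => by
    have h1 : ∀ l : L, (h⁻¹ * g) • l = l := fun l => by rw [mul_smul, hgh, inv_smul_smul]
    exact (inv_mul_eq_one.1 (eq_one_of_forall_fixed (forall_point_fixed h1))).symm⟩

theorem faithful_dual [Finite P] [Finite L] [FaithfulSMul G P] : FaithfulSMul G (Dual L) :=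
  faithful_lines (P := P) (L := L)

/-- A collineation fixes as many points as lines. -/
theorem card_fixedBy_eq [Finite P] [Finite L] (g : G) :
    Nat.card (fixedBy P g) = Nat.card (fixedBy L g) := by
  classical
  have := Fintype.ofFinite P
  have := Fintype.ofFinite L
  set n := order P L
  have h1 : ∀ p : P, Nat.card {l : L // p ∈ l ∧ g • p ∈ l} = if g • p = p then n + 1 else 1 := by
    intro p
    split_ifs with h
    · rw [← nat_card_mem_point (L := L) p]
      exact Nat.card_congr (Equiv.subtypeEquivRight fun l => by rw [h]; simp)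
    · rw [Nat.card_eq_one_iff_unique]
      exact ⟨⟨fun a b => Subtype.ext (line_eq h a.2.2 a.2.1 b.2.2 b.2.1)⟩,
        ⟨⟨join (g • p) p, join_right h, join_left h⟩⟩⟩
  have h2 : ∀ l : L, Nat.card {p : P // p ∈ l ∧ g • p ∈ l} = if g • l = l then n + 1 else 1 := by
    intro l
    split_ifs with h
    · rw [← nat_card_mem_line (P := P) l]
      exact Nat.card_congr (Equiv.subtypeEquivRight fun p => by rw [mem_iff_of_fixed h]; simp)
    · have h' : l ≠ g⁻¹ • l := fun e => h (by rw [eq_inv_smul_iff] at e; exact e)
      rw [Nat.card_eq_one_iff_unique]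
      exact ⟨⟨fun a b => Subtype.ext (point_eq h' a.2.1 ((smul_mem_iff g).1 a.2.2) b.2.1 ((smul_mem_iff g).1 b.2.2))⟩,
        ⟨⟨meet l (g⁻¹ • l), meet_left h', (smul_mem_iff g).2 (meet_right h')⟩⟩⟩
  have h3 : ∑ p : P, Nat.card {l : L // p ∈ l ∧ g • p ∈ l} = ∑ l : L, Nat.card {p : P // p ∈ l ∧ g • p ∈ l} := by
    simp_rw [Nat.card_eq_fintype_card, Fintype.card_subtype]
    exact Finset.sum_card_bipartiteAbove_eq_sum_card_bipartiteBelow _
  simp_rw [h1, h2] at h3
  rw [Finset.sum_ite, Finset.sum_ite] at h3
  simp only [Finset.sum_const, smul_eq_mul, mul_one] at h3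
  have hv : Fintype.card P = Fintype.card L := card_points_eq_card_lines P L
  have hP := Finset.card_filter_add_card_filter_not (s := (Finset.univ : Finset P)) (fun p => g • p = p)
  have hL := Finset.card_filter_add_card_filter_not (s := (Finset.univ : Finset L)) (fun l => g • l = l)
  rw [Finset.card_univ] at hP hL
  rw [Nat.card_eq_fintype_card, Nat.card_eq_fintype_card,
    show Fintype.card (fixedBy P g) = (Finset.univ.filter fun p : P => g • p = p).card from Fintype.card_subtype _,
    show Fintype.card (fixedBy L g) = (Finset.univ.filter fun l : L => g • l = l).card from Fintype.card_subtype _]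
  have hn := one_lt_order P L
  have e1 : (Finset.univ.filter fun p : P => g • p = p).card * n = (Finset.univ.filter fun l : L => g • l = l).card * n := by
    rw [Nat.mul_succ, Nat.mul_succ] at h3
    omega
  exact Nat.eq_of_mul_eq_mul_right (by omega) e1

theorem card_orbits_eq_aux [Finite G] {α β : Type*} [MulAction G α] [MulAction G β] [Finite α] [Finite β]
    (h : ∀ g : G, Nat.card (fixedBy α g) = Nat.card (fixedBy β g)) :
    Nat.card (orbitRel.Quotient G α) = Nat.card (orbitRel.Quotient G β) := by
  classical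
  have := Fintype.ofFinite G
  have := Fintype.ofFinite α
  have := Fintype.ofFinite β
  have ha := sum_card_fixedBy_eq_card_orbits_mul_card_group G α
  have hb := sum_card_fixedBy_eq_card_orbits_mul_card_group G β
  simp only [← Nat.card_eq_fintype_card] at ha hb
  simp_rw [h] at ha
  exact Nat.eq_of_mul_eq_mul_right Nat.card_pos (ha.symm.trans hb)

theorem card_fixedBy_prod {α : Type*} [MulAction G α] (g : G) :
    Nat.card (fixedBy (α × α) g) = Nat.card (fixedBy α g) * Nat.card (fixedBy α g) := by
  rw [← Nat.card_prod]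
  exact Nat.card_congr
    { toFun := fun x => (⟨x.1.1, congrArg Prod.fst x.2⟩, ⟨x.1.2, congrArg Prod.snd x.2⟩)
      invFun := fun x => ⟨(x.1.1, x.2.1), Prod.ext x.1.2 x.2.2⟩ }

/-- A group has as many orbits on points as on lines. -/
theorem card_orbits_eq [Finite G] [Finite P] [Finite L] :
    Nat.card (orbitRel.Quotient G P) = Nat.card (orbitRel.Quotient G L) :=
  card_orbits_eq_aux (card_fixedBy_eq)

/-- A group has as many orbits on pairs of points as on pairs of lines. -/
theorem card_pair_orbits_eq [Finite G] [Finite P] [Finite L] :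
    Nat.card (orbitRel.Quotient G (P × P)) = Nat.card (orbitRel.Quotient G (L × L)) := by
  refine card_orbits_eq_aux fun g => ?_
  rw [card_fixedBy_prod, card_fixedBy_eq (L := L), ← card_fixedBy_prod]

end Action

end CfsgLib.Plane
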