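import Cfsg.Agent.Lib.Plane.Persp
import Mathlib.GroupTheory.PGroup

/-!
Fixed subplanes of collineation groups, Baer's theorem on involutions, and orders of planes
with a 2-group of collineations fixing a quadrangle.
-/

set_option autoImplicit false

namespace CfsgLib.Plane

open Configuration Configuration.ProjectivePlane MulAction

universe u v w

section Coll

variable (P : Type u) (L : Type v) [Membership P L]

/-- The group of all collineations, as pairs of a permutation of points and one of lines. -/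
def Coll : Subgroup (Equiv.Perm P × Equiv.Perm L) where
  carrier := {x | ∀ (p : P) (l : L), x.1 p ∈ x.2 l ↔ p ∈ l}
  one_mem' _ _ := Iff.rfl
  mul_mem' {x y} hx hy p l := (hx (y.1 p) (y.2 l)).trans (hy p l)
  inv_mem' {x} hx p l := by
    rw [← hx (x⁻¹.1 p) (x⁻¹.2 l)]
    simp

variable {P L}

instance : MulAction (Coll P L) P where
  smul x p := x.1.1 p
  one_smul _ := rfl
  mul_smul _ _ _ := rfl

instance : MulAction (Coll P L) L where
  smul x l := x.1.2 l
  one_smul _ := rfl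
  mul_smul _ _ _ := rfl

theorem Coll.smul_point (x : Coll P L) (p : P) : x • p = x.1.1 p := rfl

theorem Coll.smul_line (x : Coll P L) (l : L) : x • l = x.1.2 l := rfl

instance : IsColl (Coll P L) P L := ⟨fun x => x.2⟩

instance [ProjectivePlane P L] [Finite P] [Finite L] : FaithfulSMul (Coll P L) P := ⟨fun {x y} h => by
  have h1 : ∀ p : P, (y⁻¹ * x) • p = p := fun p => by rw [mul_smul, h, inv_smul_smul]
  have h2 : ∀ l : L, (y⁻¹ * x) • l = l := forall_line_fixed h1
  have : y⁻¹ * x = 1 := Subtype.ext (Prod.ext (Equiv.ext h1) (Equiv.ext h2))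
  exact (inv_mul_eq_one.1 this).symm⟩

/-- A group of collineations maps to the full collineation group. -/
def toColl (G : Type*) [Group G] [MulAction G P] [MulAction G L] [IsColl G P L] : G →* Coll P L where
  toFun g := ⟨(toPermHom G P g, toPermHom G L g), fun p l => IsColl.mem_iff g p l⟩
  map_one' := Subtype.ext (Prod.ext (map_one _) (map_one _))
  map_mul' g h := Subtype.ext (Prod.ext (map_mul _ g h) (map_mul _ g h))

theorem toColl_smul_point {G : Type*} [Group G] [MulAction G P] [MulAction G L] [IsColl G P L] (g : G) (p : P) :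
    toColl (P := P) (L := L) G g • p = g • p := rfl

theorem toColl_smul_line {G : Type*} [Group G] [MulAction G P] [MulAction G L] [IsColl G P L] (g : G) (l : L) :
    toColl (P := P) (L := L) G g • l = g • l := rfl

end Coll

section Fix

variable {G : Type w} [Group G]

/-- The points fixed by a subgroup. -/
def Fix (R : Subgroup G) (α : Type u) [MulAction G α] : Type u := {a : α // ∀ g ∈ R, g • a = a}

instance (R : Subgroup G) (α : Type u) [MulAction G α] [Finite α] : Finite (Fix R α) :=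
  inferInstanceAs (Finite {a : α // ∀ g ∈ R, g • a = a})

/-- The normaliser acts on the fixed points. -/
instance instFixAction (R : Subgroup G) (α : Type u) [MulAction G α] :
    MulAction (Subgroup.normalizer (R : Set G)) (Fix R α) where
  smul g a := ⟨(g : G) • a.1, fun h hh => by
    have := (Subgroup.mem_normalizer_iff''.1 g.2 h).1 hh
    rw [← mul_smul, show h * (g : G) = (g : G) * ((g : G)⁻¹ * h * (g : G)) by group, mul_smul, a.2 _ this]⟩
  one_smul a := Subtype.ext (one_smul G a.1)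
  mul_smul g h a := Subtype.ext (mul_smul (g : G) (h : G) a.1)

variable {P : Type u} {L : Type v} [Membership P L] [MulAction G P] [MulAction G L]

instance (R : Subgroup G) : Membership (Fix R P) (Fix R L) := ⟨fun l p => p.1 ∈ l.1⟩

theorem Fix.mem_def {R : Subgroup G} {p : Fix R P} {l : Fix R L} : p ∈ l ↔ p.1 ∈ l.1 := Iff.rfl

variable (P L) in
/-- The subgroup fixes a configuration in general position. -/
def HasQuad (R : Subgroup G) : Prop :=
  ∃ (p₁ p₂ p₃ : Fix R P) (l₁ l₂ l₃ : Fix R L),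
      p₁ ∉ l₂ ∧ p₁ ∉ l₃ ∧ p₂ ∉ l₁ ∧ p₂ ∈ l₂ ∧ p₂ ∈ l₃ ∧ p₃ ∉ l₁ ∧ p₃ ∈ l₂ ∧ p₃ ∉ l₃

theorem HasQuad.mono {R R' : Subgroup G} (h : HasQuad P L R) (hle : R' ≤ R) : HasQuad P L R' := by
  obtain ⟨p₁, p₂, p₃, l₁, l₂, l₃, hc⟩ := h
  exact ⟨⟨p₁.1, fun g hg => p₁.2 g (hle hg)⟩, ⟨p₂.1, fun g hg => p₂.2 g (hle hg)⟩,
    ⟨p₃.1, fun g hg => p₃.2 g (hle hg)⟩, ⟨l₁.1, fun g hg => l₁.2 g (hle hg)⟩,
    ⟨l₂.1, fun g hg => l₂.2 g (hle hg)⟩, ⟨l₃.1, fun g hg => l₃.2 g (hle hg)⟩, hc⟩

theorem HasQuad.dual {R : Subgroup G} (h : HasQuad P L R) : HasQuad (Dual L) (Dual P) R := by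
  obtain ⟨p₁, p₂, p₃, l₁, l₂, l₃, h₁₂, h₁₃, h₂₁, h₂₂, h₂₃, h₃₁, h₃₂, h₃₃⟩ := h
  exact ⟨l₁, l₂, l₃, p₁, p₂, p₃, h₂₁, h₃₁, h₁₂, h₂₂, h₃₂, h₁₃, h₂₃, h₃₃⟩

variable [IsColl G P L]

instance (R : Subgroup G) : IsColl (Subgroup.normalizer (R : Set G)) (Fix R P) (Fix R L) :=
  ⟨fun g p l => IsColl.mem_iff (g : G) p.1 l.1⟩

variable [ProjectivePlane P L]

/-- The fixed subplane. -/
@[reducible]
noncomputable def fixPlane {R : Subgroup G} (h : HasQuad P L R) : ProjectivePlane (Fix R P) (Fix R L) where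
  exists_point l := by
    obtain ⟨p₁, p₂, p₃, l₁, l₂, l₃, h₁₂, h₁₃, h₂₁, h₂₂, h₂₃, h₃₁, h₃₂, h₃₃⟩ := h
    by_contra hall
    push Not at hall
    refine h₁₂ (?_ : p₁.1 ∈ l₂.1)
    have hne : p₂.1 ≠ p₃.1 := fun e => h₃₃ (show p₃.1 ∈ l₃.1 from e ▸ h₂₃)
    rw [← line_eq hne (hall p₂) (hall p₃) h₂₂ h₃₂]
    exact hall p₁
  exists_line p := by
    obtain ⟨p₁, p₂, p₃, l₁, l₂, l₃, h₁₂, h₁₃, h₂₁, h₂₂, h₂₃, h₃₁, h₃₂, h₃₃⟩ := h
    by_contra hall
    push Not at hall
    refine h₂₁ (?_ : p₂.1 ∈ l₁.1)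
    have hne : l₂.1 ≠ l₃.1 := fun e => h₃₃ (show p₃.1 ∈ l₃.1 from e ▸ h₃₂)
    rw [← point_eq hne (hall l₂) (hall l₃) h₂₂ h₂₃]
    exact hall l₁
  eq_or_eq {p₁ p₂ l₁ l₂} h1 h2 h3 h4 := by
    rcases Nondegenerate.eq_or_eq (p₁ := p₁.1) (p₂ := p₂.1) (l₁ := l₁.1) (l₂ := l₂.1) h1 h2 h3 h4 with e | e
    · exact .inl (Subtype.ext e)
    · exact .inr (Subtype.ext e)
  mkPoint {l m} hlm := ⟨meet l.1 m.1, fun g hg => by
    have hne : l.1 ≠ m.1 := fun e => hlm (Subtype.ext e)
    exact smul_point_eq g hne (meet_left hne) (meet_right hne) (l.2 g hg) (m.2 g hg)⟩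
  mkPoint_ax {l m} hlm := ⟨meet_left (fun e => hlm (Subtype.ext e)), meet_right (fun e => hlm (Subtype.ext e))⟩
  mkLine {p q} hpq := ⟨join p.1 q.1, fun g hg => by
    have hne : p.1 ≠ q.1 := fun e => hpq (Subtype.ext e)
    exact smul_line_eq g hne (join_left hne) (join_right hne) (p.2 g hg) (q.2 g hg)⟩
  mkLine_ax {p q} hpq := ⟨join_left (fun e => hpq (Subtype.ext e)), join_right (fun e => hpq (Subtype.ext e))⟩
  exists_config := h

theorem exists_fixed_line {R : Subgroup G} {p q : P} (h : p ≠ q) (hp : ∀ g ∈ R, g • p = p) (hq : ∀ g ∈ R, g • q = q) :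
    ∀ g ∈ R, g • (join p q : L) = join p q :=
  fun g hg => smul_line_eq g h (join_left h) (join_right h) (hp g hg) (hq g hg)

/-- Four points, no three collinear. -/
theorem hasQuad_of_points {R : Subgroup G} {A B C D : P} (hA : ∀ g ∈ R, g • A = A) (hB : ∀ g ∈ R, g • B = B)
    (hC : ∀ g ∈ R, g • C = C) (hD : ∀ g ∈ R, g • D = D) (hAB : A ≠ B) (hAC : A ≠ C) (hCD : C ≠ D)
    (hDB : D ∉ (join A B : L)) (hDC : D ∉ (join A C : L)) (hAD : A ∉ (join C D : L)) (hBD : B ∉ (join C D : L))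
    (hBC : B ∉ (join A C : L)) : HasQuad P L R :=
  ⟨⟨D, hD⟩, ⟨A, hA⟩, ⟨B, hB⟩, ⟨join C D, exists_fixed_line hCD hC hD⟩, ⟨join A B, exists_fixed_line hAB hA hB⟩,
    ⟨join A C, exists_fixed_line hAC hA hC⟩, hDB, hDC, hAD, join_left hAB, join_left hAC, hBD, join_right hAB, hBC⟩

variable [Finite P] [Finite L] [FaithfulSMul G P]

/-- A nontrivial axial collineation fixes no configuration in general position. -/
theorem eq_one_of_axial_of_hasQuad {R : Subgroup G} (h : HasQuad P L R) {g : G} {a : L}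
    (hg : g ∈ R) (ha : g ∈ Axial G (P := P) a) : g = 1 := by
  let _ := fixPlane h
  obtain ⟨p₁, -, -, l₁, -⟩ := ProjectivePlane.exists_config (P := Fix R P) (L := Fix R L)
  obtain ⟨l, -, hl⟩ : ∃ l : Fix R L, p₁ ∈ l ∧ l.1 ≠ a := by
    obtain ⟨l, hl, hne, -⟩ := exists_line_mem_ne_ne p₁ l₁ l₁
    by_cases e : l.1 = a
    · obtain ⟨m, hm, hml, -⟩ := exists_line_mem_ne_ne p₁ l l
      exact ⟨m, hm, fun e' => hml (Subtype.ext (e'.trans e.symm))⟩
    · exact ⟨l, hl, e⟩
  have two : ∃ x y : Fix R P, x ∈ l ∧ y ∈ l ∧ x.1 ∉ a ∧ y.1 ∉ a ∧ x ≠ y := by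
    obtain ⟨x, hx, -, -⟩ := exists_mem_ne_ne l p₁ p₁
    obtain ⟨y, hy, hyx, -⟩ := exists_mem_ne_ne l x x
    obtain ⟨z, hz, hzx, hzy⟩ := exists_mem_ne_ne l x y
    have one : ∀ u w : Fix R P, u ∈ l → w ∈ l → u.1 ∈ a → w.1 ∈ a → u = w := fun u w hu hw h1 h2 =>
      Subtype.ext (point_eq hl hu h1 hw h2)
    by_cases hxa : x.1 ∈ a
    · exact ⟨y, z, hy, hz, fun e => hyx (one y x hy hx e hxa), fun e => hzx (one z x hz hx e hxa), hzy.symm⟩
    by_cases hya : y.1 ∈ a
    · exact ⟨x, z, hx, hz, hxa, fun e => hzy (one z y hz hy e hya), hzx.symm⟩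
    exact ⟨x, y, hx, hy, hxa, hya, hyx.symm⟩
  obtain ⟨x, y, -, -, hxa, hya, hxy⟩ := two
  exact eq_one_of_two_fixed ha hxa hya (fun e => hxy (Subtype.ext e)) (x.2 g hg) (y.2 g hg)

theorem eq_one_of_central_of_hasQuad {R : Subgroup G} (h : HasQuad P L R) {g : G} {X : P}
    (hg : g ∈ R) (hX : g ∈ Central G (L := L) X) : g = 1 :=
  have := faithful_dual (G := G) (P := P) (L := L)
  eq_one_of_axial_of_hasQuad (P := Dual L) (L := Dual P) h.dual hg hX

theorem exists_centre {g : G} {a : L} (hg : g ∈ Axial G (P := P) a) :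
    ∃ X : P, g ∈ EC G X a := by
  by_cases hf : ∀ p : P, p ∉ a → g • p ≠ p
  · obtain ⟨X, -, hX⟩ := exists_centre_on_axis hg hf
    exact ⟨X, hg, hX⟩
  · push Not at hf
    obtain ⟨p, hp, hgp⟩ := hf
    exact ⟨p, hg, mem_central_of_fixed hg hp hgp⟩

omit [FaithfulSMul G P] in
theorem forall_smul_line_sq {g : G} (h2 : ∀ p : P, g • g • p = p) (l : L) : g • g • l = l := by
  have := forall_line_fixed (L := L) (g := g * g) (fun p => by rw [mul_smul, h2]) l
  rwa [mul_smul] at this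

theorem mem_fix_zpowers {g : G} {α : Type*} [MulAction G α] {a : α} (h : g • a = a) :
    ∀ k ∈ Subgroup.zpowers g, k • a = a := by
  intro k hk
  exact (Subgroup.zpowers_le.2 (show g ∈ stabilizer G a from h)) hk

omit [FaithfulSMul G P] in
/-- Baer: every point is on a fixed line of an involution that is not a perspectivity. -/
theorem exists_fixed_line_mem {g : G} (h2 : ∀ p : P, g • g • p = p)
    (hc : ∀ X : P, ∃ l : L, X ∈ l ∧ g • l ≠ l) (p : P) : ∃ l : L, p ∈ l ∧ g • l = l := by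
  by_cases hp : g • p = p
  · obtain ⟨l, hl, hgl⟩ := hc p
    obtain ⟨q, hq, hqp⟩ := exists_mem_ne l p
    obtain ⟨q', hq', hq'p, hq'q⟩ := exists_mem_ne_ne l p q
    have moved : ∀ r : P, r ∈ l → r ≠ p → g • r ≠ r := fun r hr hrp e =>
      hgl (smul_line_eq g hrp hr hl e hp)
    have fixed : ∀ r : P, g • r ≠ r → g • (join r (g • r) : L) = join r (g • r) := fun r hr => by
      refine line_eq hr.symm ?_ (smul_mem g (join_left hr.symm)) (join_left hr.symm) (join_right hr.symm)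
      have := smul_mem g (join_right (L := L) hr.symm)
      rwa [h2] at this
    have notp : ∀ r : P, r ∈ l → r ≠ p → p ∉ (join r (g • r) : L) := fun r hr hrp e => by
      have hh := moved r hr hrp
      have e1 : (join r (g • r) : L) = l := line_eq hrp.symm e (join_left hh.symm) hl hr
      exact hgl (e1 ▸ fixed r hh)
    have hne : (join q (g • q) : L) ≠ join q' (g • q') := fun e => by
      have hh := moved q hq hqp
      refine notp q hq hqp ?_
      rw [show (join q (g • q) : L) = l from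
        line_eq hq'q.symm (join_left hh.symm) (e ▸ join_left (moved q' hq' hq'p).symm) hq hq']
      exact hl
    set m : L := join q (g • q)
    set m' : L := join q' (g • q')
    have hr : g • (meet m m' : P) = meet m m' :=
      smul_point_eq g hne (meet_left hne) (meet_right hne) (fixed q (moved q hq hqp)) (fixed q' (moved q' hq' hq'p))
    have hrp : (meet m m' : P) ≠ p := fun e => notp q hq hqp (e ▸ meet_left hne)
    exact ⟨join (meet m m') p, join_right hrp, smul_line_eq g hrp (join_left hrp) (join_right hrp) hr hp⟩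
  · refine ⟨join p (g • p), join_left (Ne.symm hp), ?_⟩
    refine line_eq (Ne.symm hp) ?_ (smul_mem g (join_left (Ne.symm hp))) (join_left (Ne.symm hp)) (join_right (Ne.symm hp))
    have := smul_mem g (join_right (L := L) (Ne.symm hp))
    rwa [h2] at this

/-- Baer: an involution is a perspectivity or fixes a subplane whose order is the square root. -/
theorem involution_cases {g : G} (hg2 : g ^ 2 = 1) :
    (∃ (X : P) (a : L), g ∈ EC G X a) ∨
      ∃ h : HasQuad P L (Subgroup.zpowers g),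
        order P L = (@order (Fix (Subgroup.zpowers g) P) (Fix (Subgroup.zpowers g) L) _ (fixPlane h)) ^ 2 := by
  classical
  by_cases hax : ∃ a : L, g ∈ Axial G (P := P) a
  · obtain ⟨a, ha⟩ := hax
    obtain ⟨X, hX⟩ := exists_centre ha
    exact .inl ⟨X, a, hX⟩
  by_cases hce : ∃ X : P, g ∈ Central G (L := L) X
  · obtain ⟨X, hX⟩ := hce
    have := faithful_dual (G := G) (P := P) (L := L)
    obtain ⟨a, ha⟩ := exists_centre (P := Dual L) (L := Dual P) (g := g) hX
    exact .inl ⟨X, a, ha.2, ha.1⟩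
  simp only [not_exists, mem_axial, mem_central, not_forall] at hax hce
  replace hax : ∀ a : L, ∃ p : P, p ∈ a ∧ g • p ≠ p := fun a => by obtain ⟨p, h1, h2⟩ := hax a; exact ⟨p, h1, h2⟩
  replace hce : ∀ X : P, ∃ l : L, X ∈ l ∧ g • l ≠ l := fun X => by obtain ⟨l, h1, h2⟩ := hce X; exact ⟨l, h1, h2⟩
  right
  have h2 : ∀ p : P, g • g • p = p := fun p => by rw [← mul_smul, ← sq, hg2, one_smul]
  have h2' : ∀ l : L, g • g • l = l := forall_smul_line_sq h2
  have hline := exists_fixed_line_mem h2 hce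
  have hpoint : ∀ l : L, ∃ p : P, p ∈ l ∧ g • p = p := fun l =>
    exists_fixed_line_mem (P := Dual L) (L := Dual P) h2' hax l
  have off : ∀ m : L, g • m = m → ∃ f f' : P, f ≠ f' ∧ f ∉ m ∧ f' ∉ m ∧ g • f = f ∧ g • f' = f' := by
    intro m hm
    obtain ⟨x, hx, hgx⟩ := hax m
    obtain ⟨l, hxl, hlm⟩ := exists_line_mem_ne x m
    obtain ⟨l', hxl', hl'm, hl'l⟩ := exists_line_mem_ne_ne x m l
    obtain ⟨f, hf, hgf⟩ := hpoint l
    obtain ⟨f', hf', hgf'⟩ := hpoint l'
    refine ⟨f, f', fun e => hgx ?_, fun e => hgx ?_, fun e => hgx ?_, hgf, hgf'⟩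
    · rw [point_eq hl'l hxl' hxl (e ▸ hf') hf]; exact hgf
    · rw [point_eq hlm hxl hx hf e]; exact hgf
    · rw [point_eq hl'm hxl' hx hf' e]; exact hgf'
  obtain ⟨m₀, -, hm₀⟩ := hline (Classical.choose (ProjectivePlane.exists_config (P := P) (L := L)))
  obtain ⟨f, f', hff', hf, hf', hgf, hgf'⟩ := off m₀ hm₀
  set j : L := join f f'
  have hgj : g • j = j := smul_line_eq g hff' (join_left hff') (join_right hff') hgf hgf'
  have hjm : j ≠ m₀ := fun e => hf (e ▸ join_left hff')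
  set Y : P := meet j m₀
  have hgY : g • Y = Y := smul_point_eq g hjm (meet_left hjm) (meet_right hjm) hgj hm₀
  have hfY : f ≠ Y := fun e => hf (e ▸ meet_right hjm)
  have hf'Y : f' ≠ Y := fun e => hf' (e ▸ meet_right hjm)
  obtain ⟨e₁, e₂, he, he₁, he₂, hge₁, hge₂⟩ := off j hgj
  have hej : (join e₁ e₂ : L) ≠ j := fun e => he₁ (e ▸ join_left he)
  set E : P := meet (join e₁ e₂ : L) j
  obtain ⟨A, B, hAB, hA, hB, hgA, hgB, hAE, hBE⟩ : ∃ A B : P, A ≠ B ∧ A ∈ j ∧ B ∈ j ∧ g • A = A ∧ g • B = B ∧ A ≠ E ∧ B ≠ E := by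
    by_cases hfE : f = E
    · exact ⟨f', Y, hf'Y, join_right hff', meet_left hjm, hgf', hgY, fun e => hff' (hfE.trans e.symm), fun e => hfY (hfE.trans e.symm)⟩
    by_cases hf'E : f' = E
    · exact ⟨f, Y, hfY, join_left hff', meet_left hjm, hgf, hgY, hfE, fun e => hf'Y (hf'E.trans e.symm)⟩
    exact ⟨f, f', hff', join_left hff', join_right hff', hgf, hgf', hfE, hf'E⟩
  have hjAB : (join A B : L) = j := (eq_join hAB hA hB).symm
  have hAe : A ≠ e₁ := fun e => he₁ (e ▸ hA)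
  have hnot : ∀ Z : P, Z ∈ j → Z ≠ E → Z ∉ (join e₁ e₂ : L) := fun Z hZ hZE e => hZE (eq_meet hej e hZ)
  have hAej : (join A e₁ : L) ≠ j := fun e => he₁ (e ▸ join_right hAe)
  have hq : HasQuad P L (Subgroup.zpowers g) :=
    hasQuad_of_points (A := A) (B := B) (C := e₁) (D := e₂) (mem_fix_zpowers hgA) (mem_fix_zpowers hgB)
      (mem_fix_zpowers hge₁) (mem_fix_zpowers hge₂) hAB hAe he (by rw [hjAB]; exact he₂)
      (fun e => hnot A hA hAE (eq_join he (join_right hAe) e ▸ join_left hAe))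
      (hnot A hA hAE) (hnot B hB hBE) (fun e => hAej (line_eq hAB (join_left hAe) e hA hB))
  refine ⟨hq, ?_⟩
  let _ := fixPlane hq
  have := Fintype.ofFinite P
  have := Fintype.ofFinite L
  set n := order P L with hn
  set k := order (Fix (Subgroup.zpowers g) P) (Fix (Subgroup.zpowers g) L) with hk
  have hfl : ∀ l : L, g • l = l → Nat.card {p : P // p ∈ l ∧ g • p = p} = k + 1 := by
    intro l hl
    let lf : Fix (Subgroup.zpowers g) L := ⟨l, mem_fix_zpowers hl⟩
    rw [hk, ← nat_card_mem_line (P := Fix (Subgroup.zpowers g) P) lf]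
    exact Nat.card_congr
      { toFun := fun p => ⟨⟨p.1, mem_fix_zpowers p.2.2⟩, p.2.1⟩
        invFun := fun p => ⟨p.1.1, p.2, p.1.2 g (Subgroup.mem_zpowers g)⟩ }
  have hmv : ∀ l : L, g • l = l → Nat.card {p : P // p ∈ l ∧ g • p ≠ p} + (k + 1) = n + 1 := by
    intro l hl
    rw [← hfl l hl, hn, ← nat_card_mem_line (P := P) l,
      ← Nat.card_congr (Equiv.sumCompl (fun p : {p : P // p ∈ l} => g • p.1 = p.1)), Nat.card_sum, add_comm]
    congr 1
    · exact Nat.card_congr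
        { toFun := fun p => ⟨⟨p.1, p.2.1⟩, p.2.2⟩
          invFun := fun p => ⟨p.1.1, p.1.2, p.2⟩ }
    · exact Nat.card_congr
        { toFun := fun p => ⟨⟨p.1, p.2.1⟩, p.2.2⟩
          invFun := fun p => ⟨p.1.1, p.1.2, p.2⟩ }
  have hfixL : Nat.card {l : L // g • l = l} = k ^ 2 + k + 1 := by
    rw [hk, ← nat_card_lines (P := Fix (Subgroup.zpowers g) P)]
    exact Nat.card_congr
      { toFun := fun l => ⟨l.1, mem_fix_zpowers l.2⟩
        invFun := fun l => ⟨l.1, l.2 g (Subgroup.mem_zpowers g)⟩ }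
  have hfixP : Nat.card {p : P // g • p = p} = k ^ 2 + k + 1 := by
    rw [hk, ← nat_card_points (L := Fix (Subgroup.zpowers g) L)]
    exact Nat.card_congr
      { toFun := fun l => ⟨l.1, mem_fix_zpowers l.2⟩
        invFun := fun l => ⟨l.1, l.2 g (Subgroup.mem_zpowers g)⟩ }
  have hmoved : Nat.card {p : P // ¬ g • p = p} = (k ^ 2 + k + 1) * (n - k) := by
    have e : {p : P // ¬ g • p = p} ≃ Σ l : {l : L // g • l = l}, {p : P // p ∈ l.1 ∧ g • p ≠ p} :=
      (Equiv.ofBijective (fun x => ⟨x.2.1, x.2.2.2⟩) ⟨by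
        rintro ⟨⟨l, hl⟩, p, hp, hgp⟩ ⟨⟨l', hl'⟩, p', hp', hgp'⟩ e
        obtain rfl : p = p' := congrArg Subtype.val e
        obtain rfl : l = l' := by_contra fun hll => hgp (smul_point_eq g hll hp hp' hl hl')
        rfl, by
        rintro ⟨p, hp⟩
        obtain ⟨l, hl, hgl⟩ := hline p
        exact ⟨⟨⟨l, hgl⟩, p, hl, hp⟩, rfl⟩⟩).symm
    rw [Nat.card_congr e, Nat.card_sigma, Finset.sum_congr rfl (g := fun _ => n - k) fun l _ => by
      have := hmv l.1 l.2; omega, Finset.sum_const, smul_eq_mul, Finset.card_univ, ← Nat.card_eq_fintype_card, hfixL]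
  have htot : n ^ 2 + n + 1 = (k ^ 2 + k + 1) + (k ^ 2 + k + 1) * (n - k) := by
    rw [hn, ← nat_card_points (P := P) (L := L), ← Nat.card_congr (Equiv.sumCompl (fun p : P => g • p = p)),
      Nat.card_sum, hfixP, hmoved]
  have hkn : k < n := by
    obtain ⟨x, hx, hgx⟩ := hax m₀
    have h1 := hmv m₀ hm₀
    have : 0 < Nat.card {p : P // p ∈ m₀ ∧ g • p ≠ p} := Nat.card_pos_iff.2 ⟨⟨⟨x, hx, hgx⟩⟩, inferInstance⟩
    omega
  obtain ⟨d, hd⟩ : ∃ d, n = k + d := ⟨n - k, by omega⟩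
  rw [hd, Nat.add_sub_cancel_left] at htot
  have hd0 : 0 < d := by omega
  have e1 : d * (k + d) = d * k ^ 2 := by nlinarith [htot]
  rw [hd]
  exact Nat.eq_of_mul_eq_mul_left hd0 e1

end Fix

section Chain

/-- A 2-group of collineations fixing a quadrangle: the order of the plane is an iterated square. -/
theorem order_eq_pow_two_pow : ∀ (N : ℕ) (P : Type u) (L : Type u) [Membership P L] [ProjectivePlane P L]
    [Finite P] [Finite L] (G : Type u) [Group G] [Finite G] [MulAction G P] [MulAction G L] [IsColl G P L],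
    Nat.card P ≤ N → IsPGroup 2 G → HasQuad P L (⊤ : Subgroup G) →
    ∃ r k : ℕ, Nat.card (Fix (⊤ : Subgroup G) P) = k ^ 2 + k + 1 ∧ order P L = k ^ 2 ^ r := by
  intro N
  induction N with
  | zero =>
    intro P L _ _ _ _ G _ _ _ _ _ hN
    have := nat_card_points (P := P) (L := L)
    omega
  | succ N ih =>
    intro P L _ _ _ _ G _ _ _ _ _ hN hG hq
    by_cases htriv : ∀ (g : G) (p : P), g • p = p
    · refine ⟨0, order P L, ?_, by simp⟩
      rw [← nat_card_points (P := P) (L := L)]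
      exact Nat.card_congr
        { toFun := fun p => p.1
          invFun := fun p => ⟨p, fun g _ => htriv g p⟩ }
    push Not at htriv
    obtain ⟨g₀, p₀, hg₀⟩ := htriv
    let φ := toColl (P := P) (L := L) G
    let H := φ.range
    have hH : IsPGroup 2 H := hG.of_surjective φ.rangeRestrict φ.rangeRestrict_surjective
    have : Nontrivial H := ⟨⟨⟨φ g₀, g₀, rfl⟩, 1, fun e => hg₀ (by
      have := congrArg (fun x : H => (x : Coll P L) • p₀) e
      simpa [φ, toColl_smul_point] using this)⟩⟩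
    have hnc := hH.center_nontrivial
    have hpc : IsPGroup 2 (Subgroup.center H) := hH.to_subgroup _
    obtain ⟨z, hz⟩ := exists_prime_orderOf_dvd_card' (G := Subgroup.center H) 2 (by
      obtain ⟨j, hj⟩ := IsPGroup.iff_card.1 hpc
      rw [hj]
      exact dvd_pow_self 2 (fun e => by simp [e, (Nat.one_lt_iff_ne_zero_and_ne_one.1 (Finite.one_lt_card (α := Subgroup.center H))).2] at hj))
    set zc : Coll P L := ((z : H) : Coll P L) with hzc
    have hz1 : zc ≠ 1 := fun e => by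
      have h1 : z = 1 := Subtype.ext (Subtype.ext e)
      rw [h1, orderOf_one] at hz
      exact absurd hz (by norm_num)
    have hz2 : zc ^ 2 = 1 := by
      have h1 : z ^ 2 = 1 := by rw [← hz, pow_orderOf_eq_one]
      rw [hzc, ← SubmonoidClass.coe_pow, ← SubmonoidClass.coe_pow, h1]
      rfl
    obtain ⟨g₁, hg₁⟩ := (z : H).2
    have hcomm : ∀ g : G, zc * φ g = φ g * zc := fun g =>
      congrArg Subtype.val ((Subgroup.mem_center_iff.1 z.2 ⟨φ g, g, rfl⟩).symm)
    have hquadH : HasQuad P L (Subgroup.zpowers zc) := by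
      obtain ⟨p₁, p₂, p₃, l₁, l₂, l₃, hc⟩ := hq
      refine ⟨⟨p₁.1, mem_fix_zpowers ?_⟩, ⟨p₂.1, mem_fix_zpowers ?_⟩, ⟨p₃.1, mem_fix_zpowers ?_⟩,
        ⟨l₁.1, mem_fix_zpowers ?_⟩, ⟨l₂.1, mem_fix_zpowers ?_⟩, ⟨l₃.1, mem_fix_zpowers ?_⟩, hc⟩
      · rw [hzc, ← hg₁, toColl_smul_point]; exact p₁.2 _ trivial
      · rw [hzc, ← hg₁, toColl_smul_point]; exact p₂.2 _ trivial
      · rw [hzc, ← hg₁, toColl_smul_point]; exact p₃.2 _ trivial
      · rw [hzc, ← hg₁, toColl_smul_line]; exact l₁.2 _ trivial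
      · rw [hzc, ← hg₁, toColl_smul_line]; exact l₂.2 _ trivial
      · rw [hzc, ← hg₁, toColl_smul_line]; exact l₃.2 _ trivial
    rcases involution_cases (P := P) (L := L) hz2 with ⟨X, a, hXa⟩ | ⟨hq', hord⟩
    · exact absurd (eq_one_of_axial_of_hasQuad hquadH (Subgroup.mem_zpowers zc) hXa.1) hz1
    let P' := Fix (Subgroup.zpowers zc) P
    let L' := Fix (Subgroup.zpowers zc) L
    let _ := fixPlane hq'
    have hswapP : ∀ (g : G) (p : P'), ∀ k ∈ Subgroup.zpowers zc, k • (g • p.1) = g • p.1 := fun g p =>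
      mem_fix_zpowers (by
        rw [← toColl_smul_point (P := P) (L := L) g p.1, ← mul_smul, hcomm, mul_smul, p.2 zc (Subgroup.mem_zpowers zc)])
    have hswapL : ∀ (g : G) (p : L'), ∀ k ∈ Subgroup.zpowers zc, k • (g • p.1) = g • p.1 := fun g p =>
      mem_fix_zpowers (by
        rw [← toColl_smul_line (P := P) (L := L) g p.1, ← mul_smul, hcomm, mul_smul, p.2 zc (Subgroup.mem_zpowers zc)])
    let _ : MulAction G P' :=
      { smul := fun g p => ⟨g • p.1, hswapP g p⟩
        one_smul := fun p => Subtype.ext (one_smul G p.1)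
        mul_smul := fun a b p => Subtype.ext (mul_smul a b p.1) }
    let _ : MulAction G L' :=
      { smul := fun g p => ⟨g • p.1, hswapL g p⟩
        one_smul := fun p => Subtype.ext (one_smul G p.1)
        mul_smul := fun a b p => Subtype.ext (mul_smul a b p.1) }
    have : IsColl G P' L' := ⟨fun g p l => IsColl.mem_iff g p.1 l.1⟩
    have hzfix : ∀ p : Fix (⊤ : Subgroup G) P, ∀ k ∈ Subgroup.zpowers zc, k • p.1 = p.1 := fun p =>
      mem_fix_zpowers (by rw [hzc, ← hg₁, toColl_smul_point]; exact p.2 _ trivial)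
    have hzfixL : ∀ p : Fix (⊤ : Subgroup G) L, ∀ k ∈ Subgroup.zpowers zc, k • p.1 = p.1 := fun p =>
      mem_fix_zpowers (by rw [hzc, ← hg₁, toColl_smul_line]; exact p.2 _ trivial)
    have hq'' : HasQuad P' L' (⊤ : Subgroup G) := by
      obtain ⟨p₁, p₂, p₃, l₁, l₂, l₃, hc⟩ := hq
      exact ⟨⟨⟨p₁.1, hzfix p₁⟩, fun g hg => Subtype.ext (p₁.2 g hg)⟩, ⟨⟨p₂.1, hzfix p₂⟩, fun g hg => Subtype.ext (p₂.2 g hg)⟩,
        ⟨⟨p₃.1, hzfix p₃⟩, fun g hg => Subtype.ext (p₃.2 g hg)⟩, ⟨⟨l₁.1, hzfixL l₁⟩, fun g hg => Subtype.ext (l₁.2 g hg)⟩,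
        ⟨⟨l₂.1, hzfixL l₂⟩, fun g hg => Subtype.ext (l₂.2 g hg)⟩, ⟨⟨l₃.1, hzfixL l₃⟩, fun g hg => Subtype.ext (l₃.2 g hg)⟩, hc⟩
    have hm : 1 < order P' L' := one_lt_order P' L'
    have hlt : Nat.card P' ≤ N := by
      have a1 : Nat.card P' = order P' L' ^ 2 + order P' L' + 1 := nat_card_points
      have a2 : Nat.card P = order P L ^ 2 + order P L + 1 := nat_card_points
      have a3 : order P L = order P' L' ^ 2 := hord
      rw [a3] at a2
      have h4 : order P' L' < order P' L' ^ 2 := by nlinarith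
      have h5 : order P' L' ^ 2 < (order P' L' ^ 2) ^ 2 := by nlinarith
      omega
    obtain ⟨r, k, hk, hr⟩ := ih P' L' G hlt hG hq''
    refine ⟨r + 1, k, ?_, ?_⟩
    · rw [← hk]
      exact Nat.card_congr
        { toFun := fun p => ⟨⟨p.1, hzfix p⟩, fun g hg => Subtype.ext (p.2 g hg)⟩
          invFun := fun p => ⟨p.1.1, fun g hg => congrArg Subtype.val (p.2 g hg)⟩ }
    · rw [hord, hr, ← pow_mul, pow_succ]

end Chain

end CfsgLib.Plane
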