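import Cfsg.Agent.Lib.Plane.Full

/-!
Planes all of whose lines are translation lines: the pairing between translations along one axis
of a triangle and shears, and its inverse properties.
-/

set_option autoImplicit false

namespace CfsgLib.Plane

open Configuration Configuration.ProjectivePlane MulAction

section

variable {G : Type*} [Group G] [Finite G] {P L : Type*} [Membership P L] [ProjectivePlane P L]
  [Finite P] [Finite L] [MulAction G P] [MulAction G L] [IsColl G P L] [FaithfulSMul G P]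

variable (G P L) in
/-- Every line is a translation line. -/
def AllTrans : Prop := ∀ a : L, Nat.card (Elat G P a) = order P L ^ 2

/-- A coordinate triangle. -/
structure Frame (O Y H : P) (l vy vh : L) : Prop where
  hOl : O ∉ l
  hYl : Y ∈ l
  hHl : H ∈ l
  hYH : Y ≠ H
  hYvy : Y ∈ vy
  hOvy : O ∈ vy
  hHvh : H ∈ vh
  hOvh : O ∈ vh

/-- The commutator pairing. -/
def br (g x : G) : G := g * x * g⁻¹ * x⁻¹

omit [Finite G] in
theorem br_one_left (x : G) : br (1 : G) x = 1 := by simp [br]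

omit [Finite G] in
theorem br_swap (g x : G) : br x g = (br g x)⁻¹ := by simp [br, mul_assoc]

/-- Elations act transitively along a line through their centre. -/
theorem exists_ec_map (hall : AllTrans G P L) {X p q : P} {a m : L} (hX : X ∈ a) (hp : p ∉ a) (hq : q ∉ a)
    (hXm : X ∈ m) (hpm : p ∈ m) (hqm : q ∈ m) : ∃ τ ∈ EC G X a, τ • p = q := by
  classical
  let f : Elat G P a → {r : P // r ∉ a} := fun τ =>
    ⟨(τ : G) • p, fun h => hp ((mem_iff_of_fixed (axial_smul_line (elat_le_axial τ.2))).1 h)⟩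
  have hf : Function.Injective f := fun u v e =>
    Subtype.ext (elat_stab_eq_bot hp u.2 v.2 (congrArg Subtype.val e))
  obtain ⟨⟨τ, hτ⟩, e⟩ := (hf.bijective_of_nat_card_le (by rw [nat_card_not_mem_line, hall a])).2 ⟨q, hq⟩
  have hτp : τ • p = q := congrArg Subtype.val e
  obtain ⟨Z, hZ, hZτ⟩ := exists_ec_of_elat hτ
  by_cases h1 : τ = 1
  · exact ⟨τ, h1 ▸ one_mem _, hτp⟩
  have hne : q ≠ p := hτp ▸ elat_free hτ h1 hp
  have hZp : Z ≠ p := fun h => hp (h ▸ hZ)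
  set k : L := join Z p
  have hk : τ • k = k := hZτ.2 k (join_left hZp)
  have hqk : q ∈ k := hτp ▸ (mem_iff_of_fixed hk).2 (join_right hZp)
  have hkm : k = m := line_eq hne.symm (join_right hZp) hqk hpm hqm
  have hZX : Z = X := point_eq (fun h : m = a => hp (h ▸ hpm)) (hkm ▸ join_left hZp) hZ hXm hX
  exact ⟨τ, hZX ▸ hZτ, hτp⟩

theorem card_ec (hall : AllTrans G P L) {X : P} {a : L} (hX : X ∈ a) : Nat.card (EC G X a) = order P L := by
  refine le_antisymm (card_ec_le hX) ?_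
  obtain ⟨m, hXm, hma⟩ := exists_line_mem_ne X a
  obtain ⟨p, hpm, hpX⟩ := exists_mem_ne m X
  have offa : ∀ r : P, r ∈ m → r ≠ X → r ∉ a := fun r hr hrX h => hrX (point_eq hma hr h hXm hX)
  rw [← card_mem_ne_point m hXm]
  refine Nat.card_le_card_of_surjective (fun τ : EC G X a => (⟨(τ : G) • p, (mem_iff_of_fixed (τ.2.2 m hXm)).2 hpm,
    fun e => hpX (smul_left_cancel (τ : G) (e.trans (τ.2.1 X hX).symm))⟩ : {r : P // r ∈ m ∧ r ≠ X})) ?_
  rintro ⟨r, hr, hrX⟩
  obtain ⟨τ, hτ, e⟩ := exists_ec_map hall hX (offa p hpm hpX) (offa r hr hrX) hXm hpm hr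
  exact ⟨⟨τ, hτ⟩, Subtype.ext e⟩

theorem exists_ec_ne (hall : AllTrans G P L) {X : P} {a : L} (hX : X ∈ a) : ∃ τ ∈ EC G X a, τ ≠ 1 := by
  refine exists_ec_ne_one fun h => ?_
  have := card_ec hall hX
  rw [h, Subgroup.card_bot] at this
  exact (one_lt_order P L).ne this

/-- Elations with the same centre and axis commute. -/
theorem commute_ec (hall : AllTrans G P L) {X : P} {a : L} (hX : X ∈ a) {g h : G} (hg : g ∈ EC G X a)
    (hh : h ∈ EC G X a) : Commute g h := by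
  obtain ⟨Y, hY, hYX⟩ := exists_mem_ne a X
  obtain ⟨k, hk, hk1⟩ := exists_ec_ne hall hY
  obtain ⟨Z, hZ, hZk⟩ := exists_ec_of_elat (mul_mem (ec_le_elat hX hh) (ec_le_elat hY hk))
  have hZX : X ≠ Z := by
    rintro rfl
    refine hk1 (eq_one_of_ec_ec hk ?_ hYX)
    have := mul_mem (inv_mem hh) hZk
    rwa [inv_mul_cancel_left] at this
  have h1 : Commute g (h * k) := commute_of_ne hZX hX hZ hg hZk
  have h2 : Commute g k := commute_of_ne hYX.symm hX hY hg hk
  have h3 := h1.mul_right h2.inv_right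
  rwa [mul_inv_cancel_right] at h3

namespace Frame

variable {O Y H : P} {l vy vh : L}

section

omit [Finite G] [MulAction G P] [MulAction G L] [IsColl G P L] [FaithfulSMul G P]

omit [Finite P] [Finite L] in
theorem swap (f : Frame O Y H l vy vh) : Frame O H Y l vh vy :=
  ⟨f.hOl, f.hHl, f.hYl, f.hYH.symm, f.hHvh, f.hOvh, f.hYvy, f.hOvy⟩

omit [Finite P] [Finite L] in
theorem vy_ne (f : Frame O Y H l vy vh) : vy ≠ l := fun h => f.hOl (h ▸ f.hOvy)

omit [Finite P] [Finite L] in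
theorem hH_vy (f : Frame O Y H l vy vh) : H ∉ vy := fun h => f.vy_ne (line_eq f.hYH f.hYvy h f.hYl f.hHl)

omit [Finite P] [Finite L] in
theorem dual (f : Frame O Y H l vy vh) : Frame (P := Dual L) (L := Dual P) vh l vy Y H O :=
  ⟨f.swap.hH_vy, f.hYl, f.hYvy, f.vy_ne.symm, f.hHl, f.hHvh, f.hOvy, f.hOvh⟩

omit [Finite P] [Finite L] in
theorem eq_O (f : Frame O Y H l vy vh) {p : P} (h1 : p ∈ vy) (h2 : p ∈ vh) : p = O :=
  point_eq (fun h : vy = vh => f.hH_vy (h ▸ f.hHvh)) h1 h2 f.hOvy f.hOvh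

end

omit [Finite G] in
theorem br_mem (f : Frame O Y H l vy vh) {σ a : G} (hσ : σ ∈ EC G Y vy) (ha : a ∈ EC G H l) :
    br σ a ∈ EC G Y l := by
  have hσl : σ • l = l := hσ.2 l f.hYl
  refine ⟨elat_le_axial (mul_mem ?_ (inv_mem (ec_le_elat f.hHl ha))), ?_⟩
  · have := conj_mem_elat (g := σ) (ec_le_elat f.hHl ha)
    rwa [hσl] at this
  · have h1 : a * σ⁻¹ * a⁻¹ ∈ Central G (L := L) Y := by
      have := conj_mem_central (g := a) (inv_mem hσ.2)
      rwa [ha.1 Y f.hYl] at this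
    have := mul_mem hσ.2 h1
    rwa [← mul_assoc, ← mul_assoc] at this

omit [Finite G] in
theorem commute_BA (f : Frame O Y H l vy vh) {b a : G} (hb : b ∈ EC G Y l) (ha : a ∈ EC G H l) : Commute b a :=
  commute_of_ne f.hYH f.hYl f.hHl hb ha

omit [Finite G] in
theorem commute_BS (f : Frame O Y H l vy vh) {b σ : G} (hb : b ∈ EC G Y l) (hσ : σ ∈ EC G Y vy) : Commute b σ := by
  have := faithful_dual (G := G) (P := P) (L := L)
  exact commute_of_ne (P := Dual L) (L := Dual P) (X := l) (Y := vy) (a := Y) f.vy_ne.symm f.hYl f.hYvy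
    ⟨hb.2, hb.1⟩ ⟨hσ.2, hσ.1⟩

omit [Finite G] in
theorem br_mul_left (f : Frame O Y H l vy vh) {σ τ a : G} (hσ : σ ∈ EC G Y vy) (hτ : τ ∈ EC G Y vy)
    (ha : a ∈ EC G H l) : br (σ * τ) a = br τ a * br σ a := by
  have h := (f.commute_BS (f.br_mem hτ ha) hσ).eq
  calc br (σ * τ) a = σ * br τ a * a * σ⁻¹ * a⁻¹ := by simp only [br]; group
    _ = br τ a * br σ a := by rw [← h]; simp only [br]; group

omit [Finite G] in
theorem br_mul_right (f : Frame O Y H l vy vh) {σ a b : G} (hσ : σ ∈ EC G Y vy) (ha : a ∈ EC G H l)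
    (hb : b ∈ EC G H l) : br σ (a * b) = br σ a * br σ b := by
  have h := (f.commute_BA (f.br_mem hσ hb) ha).eq
  calc br σ (a * b) = br σ a * (a * br σ b) * a⁻¹ := by simp only [br]; group
    _ = br σ a * br σ b := by rw [← h]; group

theorem br_inv_left (f : Frame O Y H l vy vh) {σ a : G} (hσ : σ ∈ EC G Y vy) (ha : a ∈ EC G H l) :
    br σ⁻¹ a = (br σ a)⁻¹ := by
  have := f.br_mul_left hσ (inv_mem hσ) ha
  rw [mul_inv_cancel, br_one_left] at this
  exact eq_inv_of_mul_eq_one_left this.symm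

theorem br_inv_right (f : Frame O Y H l vy vh) {σ a : G} (hσ : σ ∈ EC G Y vy) (ha : a ∈ EC G H l) :
    br σ a⁻¹ = (br σ a)⁻¹ := by
  have := f.br_mul_right hσ ha (inv_mem ha)
  rw [mul_inv_cancel, show br σ 1 = 1 by simp [br]] at this
  exact eq_inv_of_mul_eq_one_right this.symm

theorem br_eq_one (f : Frame O Y H l vy vh) {σ a : G} (hσ : σ ∈ EC G Y vy) (ha : a ∈ EC G H l)
    (h : br σ a = 1) : σ = 1 ∨ a = 1 := by
  refine or_iff_not_imp_right.2 fun ha1 => by_contra fun hσ1 => ?_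
  have hc : σ * a = a * σ := by
    have h' := mul_inv_eq_one.1 h
    exact mul_inv_eq_iff_eq_mul.1 h'
  have hfix : σ • a • O = a • O := by rw [← mul_smul, hc, mul_smul, hσ.1 O f.hOvy]
  refine ec_free hσ f.hYvy hσ1 (p := a • O) (fun h' => ?_) hfix
  exact ec_free ha f.hHl ha1 f.hOl (f.eq_O h' ((mem_iff_of_fixed (ha.2 vh f.hHvh)).2 f.hOvh))

theorem br_inj (f : Frame O Y H l vy vh) {σ a b : G} (hσ : σ ∈ EC G Y vy) (hσ1 : σ ≠ 1) (ha : a ∈ EC G H l)
    (hb : b ∈ EC G H l) (h : br σ a = br σ b) : a = b := by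
  have := f.br_mul_right hσ ha (inv_mem hb)
  rw [f.br_inv_right hσ hb, h, mul_inv_cancel] at this
  exact mul_inv_eq_one.1 ((f.br_eq_one hσ (mul_mem ha (inv_mem hb)) this).resolve_left hσ1)

/-- The inverse of a shear is a shear with the other axis. -/
theorem exists_inverse (f : Frame O Y H l vy vh) (hall : AllTrans G P L) {σ : G} (hσ : σ ∈ EC G Y vy)
    (hσ1 : σ ≠ 1) : ∃ s ∈ EC G H vh, s ≠ 1 ∧ ∀ a ∈ EC G H l, br s (br σ a) = a := by
  have hσl : σ • l = l := hσ.2 l f.hYl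
  set Z := σ • H with hZ
  have hZl : Z ∈ l := (mem_iff_of_fixed hσl).2 f.hHl
  have hZH : Z ≠ H := ec_free hσ f.hYvy hσ1 f.hH_vy
  have hvh : vh ≠ l := f.swap.vy_ne
  obtain ⟨s, hs, hsY⟩ := exists_ec_map hall f.hHvh f.swap.hH_vy
    (fun h => hZH (point_eq hvh h hZl f.hHvh f.hHl)) f.hHl f.hYl hZl
  have hs1 : s ≠ 1 := fun h => by
    rw [h, one_smul] at hsY
    exact f.hYH (smul_left_cancel σ ((hσ.1 Y f.hYvy).trans hsY))
  refine ⟨s, hs, hs1, fun a ha => ?_⟩
  have hb := f.br_mem hσ ha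
  have ha' := f.swap.br_mem hs hb
  have e1 : br σ a * a ∈ EC G Z l := by
    have := conj_mem_ec (g := σ) ha
    rw [hσl] at this
    simpa [br, hZ, mul_assoc] using this
  have e2 : br s (br σ a) * br σ a ∈ EC G Z l := by
    have := conj_mem_ec (g := s) hb
    rw [hsY, hs.2 l f.hHl] at this
    simpa [br, mul_assoc] using this
  refine mul_inv_eq_one.1 (eq_one_of_ec_ec ?_ (mul_mem ha' (inv_mem ha)) hZH)
  have hc := (f.commute_BA hb ha).eq
  have e3 := mul_mem e2 (inv_mem e1)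
  rw [hc] at e3
  simpa [mul_assoc] using e3

/-- The Hua property of the pairing. -/
theorem hua (f : Frame O Y H l vy vh) (hall : AllTrans G P L) {σ τ : G} (hσ : σ ∈ EC G Y vy)
    (hτ : τ ∈ EC G Y vy) (hτ1 : τ ≠ 1) :
    ∃ ρ ∈ EC G Y vy, ∀ a ∈ EC G H l, ∀ a' ∈ EC G H l, br τ a' = br σ a → br ρ a = br σ a' := by
  have comm : ∀ {x y : G}, x ∈ EC G Y l → y ∈ EC G Y l → x * y = y * x := fun hx hy =>
    (commute_ec hall f.hYl hx hy).eq
  by_cases hσ1 : σ = 1
  · exact ⟨1, one_mem _, fun a _ a' _ _ => by rw [hσ1, br_one_left, br_one_left]⟩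
  by_cases hστ : σ = τ
  · subst hστ
    exact ⟨σ, hσ, fun a ha a' ha' h => by rw [f.br_inj hσ hσ1 ha' ha h]⟩
  set δ := σ⁻¹ * τ with hδ'
  have hδ : δ ∈ EC G Y vy := mul_mem (inv_mem hσ) hτ
  have hδ1 : δ ≠ 1 := fun h => hστ (inv_mul_eq_one.1 h)
  have hτe : ∀ {x : G}, x ∈ EC G H l → br τ x = br δ x * br σ x := fun hx => by
    rw [← f.br_mul_left hσ hδ hx, hδ', mul_inv_cancel_left]
  obtain ⟨s₁, hs₁, -, inv₁⟩ := f.exists_inverse hall hσ hσ1
  obtain ⟨s₂, hs₂, hs₂1, inv₂⟩ := f.exists_inverse hall hδ hδ1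
  have hs : s₂ * s₁ ≠ 1 := by
    intro h
    obtain ⟨a, ha, ha1⟩ := exists_ec_ne hall f.hHl
    have h1 := f.swap.br_mul_left hs₂ hs₁ (f.br_mem hσ ha)
    rw [h, br_one_left, inv₁ a ha] at h1
    have h2 : br δ a⁻¹ = br σ a := f.swap.br_inj hs₂ hs₂1 (f.br_mem hδ (inv_mem ha)) (f.br_mem hσ ha)
      (by rw [inv₂ _ (inv_mem ha)]; exact (eq_inv_of_mul_eq_one_right h1.symm).symm)
    rw [f.br_inv_right hδ ha, inv_eq_iff_mul_eq_one] at h2
    rw [← hτe ha] at h2
    exact ((f.br_eq_one hτ ha h2).resolve_left hτ1 |> ha1)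
  obtain ⟨ρ₀, hρ₀, -, inv₀⟩ := f.swap.exists_inverse hall (mul_mem hs₂ hs₁) hs
  refine ⟨σ * ρ₀⁻¹, mul_mem hσ (inv_mem hρ₀), fun a ha a' ha' h => ?_⟩
  set d := a * a'⁻¹
  have hd : d ∈ EC G H l := mul_mem ha (inv_mem ha')
  have hb : br σ d = br σ a * (br σ a')⁻¹ := by rw [f.br_mul_right hσ ha (inv_mem ha'), f.br_inv_right hσ ha']
  have hδa : br δ a' = br σ d := by
    rw [hb, ← h, hτe ha', mul_inv_cancel_right]
  have hsa : br (s₂ * s₁) (br σ d) = a := by
    rw [f.swap.br_mul_left hs₂ hs₁ (f.br_mem hσ hd), inv₁ d hd, ← hδa, inv₂ a' ha', inv_mul_cancel_right]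
  have hρa : br ρ₀ a = br σ d := by
    have := inv₀ (br σ d) (f.br_mem hσ hd)
    rwa [hsa] at this
  rw [f.br_mul_left hσ (inv_mem hρ₀) ha, f.br_inv_left hρ₀ ha, hρa, hb, mul_inv_rev, inv_inv,
    inv_mul_cancel_right]

/-- The Hua property in the other variable, from the dual plane. -/
theorem hua_right (f : Frame O Y H l vy vh) (hallD : haveI := faithful_dual (G := G) (P := P) (L := L); AllTrans G (Dual L) (Dual P)) {a c : G}
    (ha : a ∈ EC G H l) (hc : c ∈ EC G H l) (hc1 : c ≠ 1) :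
    ∃ w ∈ EC G H l, ∀ σ ∈ EC G Y vy, ∀ σ' ∈ EC G Y vy, br σ' c = br σ a → br σ w = br σ' a := by
  have := faithful_dual (G := G) (P := P) (L := L)
  obtain ⟨w, hw, h⟩ := f.dual.hua hallD (σ := a) (τ := c) ⟨ha.2, ha.1⟩ ⟨hc.2, hc.1⟩ hc1
  refine ⟨w, ⟨hw.2, hw.1⟩, fun σ hσ σ' hσ' e => ?_⟩
  have := h σ ⟨hσ.2, hσ.1⟩ σ' ⟨hσ'.2, hσ'.1⟩ (by rw [br_swap σ' c, br_swap σ a, e])
  rw [br_swap σ w, br_swap σ' a, inv_inj] at this
  exact this

theorem br_bijective (f : Frame O Y H l vy vh) (hall : AllTrans G P L) {σ : G} (hσ : σ ∈ EC G Y vy) (hσ1 : σ ≠ 1) :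
    Function.Bijective (fun a : EC G H l => (⟨br σ a, f.br_mem hσ a.2⟩ : EC G Y l)) := by
  refine Function.Injective.bijective_of_nat_card_le (fun a b e => Subtype.ext ?_)
    (by rw [card_ec hall f.hYl, card_ec hall f.hHl])
  exact f.br_inj hσ hσ1 a.2 b.2 (congrArg Subtype.val e)

theorem br_bijective_left (f : Frame O Y H l vy vh) (hall : AllTrans G P L) {a : G} (ha : a ∈ EC G H l) (ha1 : a ≠ 1) :
    Function.Bijective (fun σ : EC G Y vy => (⟨br σ a, f.br_mem σ.2 ha⟩ : EC G Y l)) := by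
  refine Function.Injective.bijective_of_nat_card_le (fun σ τ e => Subtype.ext ?_)
    (by rw [card_ec hall f.hYl, card_ec hall f.hYvy])
  have e' : br (σ : G) a = br (τ : G) a := congrArg Subtype.val e
  have := f.br_mul_left σ.2 (inv_mem τ.2) ha
  rw [f.br_inv_left τ.2 ha, e', inv_mul_cancel] at this
  exact mul_inv_eq_one.1 ((f.br_eq_one (mul_mem σ.2 (inv_mem τ.2)) ha this).resolve_right ha1)

end Frame

end

end CfsgLib.Plane
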