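import Cfsg.Agent.Lib.Plane.Fixed
import Mathlib.FieldTheory.Finite.Basic
import Mathlib.LinearAlgebra.Matrix.Charpoly.FiniteField
import Mathlib.Algebra.Field.ZMod

/-!
A finite plane of odd order in which every two points, and every two lines, are fixed by an
involutory homology has a translation line or a translation point; so its order is a prime power.
-/

set_option autoImplicit false

namespace CfsgLib.Plane

open Configuration Configuration.ProjectivePlane MulAction

section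

variable {H : Type*} [Group H] [Finite H] {P L : Type*} [Membership P L] [ProjectivePlane P L]
  [Finite P] [Finite L] [MulAction H P] [MulAction H L] [IsColl H P L] [FaithfulSMul H P]

/-- An involutory homology. -/
structure IsHom (h : H) (C : P) (a : L) : Prop where
  notMem : C ∉ a
  mem : h ∈ EC H C a
  ne_one : h ≠ 1
  sq : h ^ 2 = 1

variable (H P L) in
/-- Every two points are fixed by an involutory homology. -/
def PairHom : Prop :=
  ∀ A B : P, A ≠ B → ∃ (h : H) (C : P) (a : L), IsHom h C a ∧ h • A = A ∧ h • B = B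

variable (H P L) in
/-- There is a translation line or a translation point. -/
def HasFull : Prop :=
  (∃ a : L, Nat.card (Elat H P a) = order P L ^ 2) ∨
    ∃ X : P, Nat.card (@Elat H _ (Dual L) (Dual P) _ _ _ _ _ _ _ faithful_dual X) = order P L ^ 2

theorem IsHom.fixed_iff {h : H} {C : P} {a : L} (hh : IsHom h C a) {p : P} : h • p = p ↔ p = C ∨ p ∈ a := by
  refine ⟨fun hp => or_iff_not_imp_right.2 fun hpa => ?_, ?_⟩
  · by_contra hne
    exact hh.ne_one (eq_one_of_two_fixed hh.mem.1 hpa hh.notMem hne hp (central_smul_point hh.mem.2))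
  · rintro (rfl | hp)
    · exact central_smul_point hh.mem.2
    · exact hh.mem.1 p hp

theorem IsHom.smul_line {h : H} {C : P} {a : L} (hh : IsHom h C a) {l : L} (hl : C ∈ l) : h • l = l :=
  hh.mem.2 l hl

theorem IsHom.fixed_line {h : H} {C : P} {a : L} (hh : IsHom h C a) {l : L} (hl : h • l = l) : l = a ∨ C ∈ l := by
  by_contra hne
  simp only [not_or] at hne
  obtain ⟨x, hx, hxm⟩ := exists_mem_ne l (meet l a)
  have hxa : x ∉ a := fun e => hxm (eq_meet hne.1 hx e)
  have hxC : x ≠ C := fun e => hne.2 (e ▸ hx)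
  have hj : (join C x : L) ≠ l := fun e => hne.2 (e ▸ join_left hxC.symm)
  have h1 : h • x ∈ (join C x : L) := by
    have := smul_mem h (join_right (L := L) hxC.symm)
    rwa [hh.mem.2 _ (join_left hxC.symm)] at this
  have h2 : h • x ∈ l := (mem_iff_of_fixed hl).2 hx
  rcases hh.fixed_iff.1 (point_eq hj h1 h2 (join_right hxC.symm) hx) with e | e
  · exact hxC e
  · exact hxa e

theorem IsHom.conj {h : H} {C : P} {a : L} (hh : IsHom h C a) (g : H) : IsHom (g * h * g⁻¹) (g • C) (g • a) :=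
  ⟨fun e => hh.notMem ((IsColl.mem_iff g C a).1 e), conj_mem_ec hh.mem,
    fun e => hh.ne_one (conj_eq_one_iff.1 e), by rw [conj_pow, hh.sq]; group⟩

theorem IsHom.dual {h : H} {C : P} {a : L} (hh : IsHom h C a) : IsHom (P := Dual L) (L := Dual P) h a C :=
  ⟨hh.notMem, ⟨hh.mem.2, hh.mem.1⟩, hh.ne_one, hh.sq⟩

theorem IsHom.of_dual {h : H} {C : P} {a : L} (hh : IsHom (P := Dual L) (L := Dual P) h a C) : IsHom h C a :=
  ⟨hh.notMem, ⟨hh.mem.2, hh.mem.1⟩, hh.ne_one, hh.sq⟩

theorem card_ec_le {X : P} {a : L} (hX : X ∈ a) : Nat.card (EC H X a) ≤ order P L := by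
  classical
  obtain ⟨l, hl, hla⟩ := exists_line_mem_ne X a
  obtain ⟨p, hp, hpX⟩ := exists_mem_ne l X
  have hpa : p ∉ a := fun e => hpX (point_eq hla hp e hl hX)
  have hn : Nat.card {q : P // q ∈ l ∧ q ≠ X} + 1 = order P L + 1 := by
    rw [← nat_card_mem_line (P := P) l, ← Nat.card_congr (Equiv.sumCompl (fun q : {q : P // q ∈ l} => q.1 ≠ X)), Nat.card_sum]
    congr 1
    · exact Nat.card_congr
        { toFun := fun q => ⟨⟨q.1, q.2.1⟩, q.2.2⟩
          invFun := fun q => ⟨q.1.1, q.1.2, q.2⟩ }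
    · symm
      rw [Nat.card_eq_one_iff_unique]
      exact ⟨⟨fun u v => Subtype.ext (Subtype.ext ((not_not.1 u.2).trans (not_not.1 v.2).symm))⟩, ⟨⟨⟨X, hl⟩, fun e => e rfl⟩⟩⟩
  have := Nat.card_le_card_of_injective (fun τ : EC H X a => (⟨(τ : H) • p, (mem_iff_of_fixed (τ.2.2 l hl)).2 hp,
    fun e => hpX (smul_left_cancel (τ : H) (e.trans (τ.2.1 X hX).symm))⟩ : {q : P // q ∈ l ∧ q ≠ X}))
    (fun u v e => Subtype.ext (elat_stab_eq_bot hpa (ec_le_elat hX u.2) (ec_le_elat hX v.2) (congrArg Subtype.val e)))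
  omega

theorem elat_eq_sq_of_two {a : L} {X Y : P} (hX : X ∈ a) (hY : Y ∈ a) (hXY : X ≠ Y)
    (h1 : Nat.card (EC H X a) = order P L) (h2 : Nat.card (EC H Y a) = order P L) :
    Nat.card (Elat H P a) = order P L ^ 2 := by
  refine Nat.le_antisymm (Nat.le_of_dvd (pow_pos (by have := one_lt_order P L; omega) 2) (card_elat_dvd a)) ?_
  have := Nat.card_le_card_of_injective
    (fun x : EC H X a × EC H Y a => (⟨x.1 * x.2, mul_mem (ec_le_elat hX x.1.2) (ec_le_elat hY x.2.2)⟩ : Elat H P a))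
    (fun u v e => by
      have e' : (u.1 : H) * u.2 = v.1 * v.2 := congrArg Subtype.val e
      have e1 : (v.1 : H)⁻¹ * u.1 = v.2 * (u.2 : H)⁻¹ := by
        rw [eq_mul_inv_iff_mul_eq, mul_assoc, e', inv_mul_cancel_left]
      have e2 : (v.1 : H)⁻¹ * u.1 = 1 :=
        eq_one_of_ec_ec (mul_mem (inv_mem v.1.2) u.1.2) (e1 ▸ mul_mem v.2.2 (inv_mem u.2.2)) hXY
      have e3 : (v.1 : H) = u.1 := inv_mul_eq_one.1 e2
      refine Prod.ext (Subtype.ext e3.symm) (Subtype.ext ?_)
      rwa [e3, mul_right_inj] at e')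
  rwa [Nat.card_prod, h1, h2, ← sq] at this

theorem hasFull_of_two_centres {a : L} {X Y : P} (hX : X ∈ a) (hY : Y ∈ a) (hXY : X ≠ Y)
    (h1 : Nat.card (EC H X a) = order P L) (h2 : Nat.card (EC H Y a) = order P L) : HasFull H P L :=
  .inl ⟨a, elat_eq_sq_of_two hX hY hXY h1 h2⟩

theorem hasFull_of_two_axes {X : P} {a b : L} (ha : X ∈ a) (hb : X ∈ b) (hab : a ≠ b)
    (h1 : Nat.card (EC H X a) = order P L) (h2 : Nat.card (EC H X b) = order P L) : HasFull H P L := by
  have := faithful_dual (G := H) (P := P) (L := L)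
  refine .inr ⟨X, ?_⟩
  rw [← Dual.order P L]
  refine elat_eq_sq_of_two (P := Dual L) (L := Dual P) (a := X) (X := a) (Y := b) ha hb hab ?_ ?_
  · rw [ec_dual, h1, Dual.order P L]
  · rw [ec_dual, h2, Dual.order P L]

theorem HasFull.of_dual (h : haveI := faithful_dual (G := H) (P := P) (L := L); HasFull H (Dual L) (Dual P)) :
    HasFull H P L := by
  have := faithful_dual (G := H) (P := P) (L := L)
  rcases h with ⟨a, ha⟩ | ⟨X, hX⟩
  · exact .inr ⟨a, by rwa [Dual.order P L] at ha⟩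
  · exact .inl ⟨X, by rw [Dual.order P L] at hX; exact hX⟩

/-- Two homologies with a common centre and different axes give an elation. -/
theorem exists_ec_of_two_axes {g h : H} {X : P} {c d : L} (hg : IsHom g X c) (hh : IsHom h X d) (hcd : c ≠ d) :
    EC H X (join X (meet c d) : L) ≠ ⊥ := by
  have := faithful_dual (G := H) (P := P) (L := L)
  obtain ⟨τ, hτ, hτc⟩ := exists_elat_map (P := Dual L) (L := Dual P) (a := X) (C := c) (D := d) (g := g) (h := h)
    hg.notMem hh.notMem hg.mem.2 (axial_smul_line (P := P) (L := L) hg.mem.1) hg.ne_one hh.mem.2 (axial_smul_line (P := P) (L := L) hh.mem.1) hh.ne_one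
  obtain ⟨b, hb', hτX⟩ : ∃ b : L, X ∈ b ∧ τ ∈ EC H X b := by
    obtain ⟨b, hb, hτb⟩ := exists_ec_of_elat hτ
    exact ⟨b, hb, hτb.2, hτb.1⟩
  have hτc' : τ • c = d := hτc
  have hτ1 : τ ≠ 1 := fun e => hcd (by rw [← hτc', e, one_smul])
  have hcb : c ≠ b := fun e => hg.notMem (by rw [e]; exact hb')
  have hR : (meet c b : P) = meet c d := by
    refine eq_meet hcd (meet_left hcb) ?_
    have h1 := smul_mem τ (meet_left (P := P) hcb)
    rwa [hτc', hτX.1 _ (meet_right hcb)] at h1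
  have hXR : X ≠ meet c d := fun e => hg.notMem (e ▸ meet_left hcd)
  have hbj : b = (join X (meet c d) : L) := eq_join hXR hb' (hR ▸ meet_right hcb)
  intro hbot
  exact hτ1 (Subgroup.eq_bot_iff_forall _ |>.1 hbot τ (by rw [← hbj]; exact hτX))

theorem exists_ec_ne_one {X : P} {a : L} (h : EC H X a ≠ ⊥) : ∃ τ ∈ EC H X a, τ ≠ 1 := by
  by_contra hne
  push Not at hne
  exact h ((Subgroup.eq_bot_iff_forall _).2 hne)

theorem card_mem_ne_point (l : L) {X : P} (hX : X ∈ l) : Nat.card {q : P // q ∈ l ∧ q ≠ X} = order P L := by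
  classical
  have hn : Nat.card {q : P // q ∈ l ∧ q ≠ X} + 1 = order P L + 1 := by
    rw [← nat_card_mem_line (P := P) l, ← Nat.card_congr (Equiv.sumCompl (fun q : {q : P // q ∈ l} => q.1 ≠ X)), Nat.card_sum]
    congr 1
    · exact Nat.card_congr
        { toFun := fun q => ⟨⟨q.1, q.2.1⟩, q.2.2⟩
          invFun := fun q => ⟨q.1.1, q.1.2, q.2⟩ }
    · symm
      rw [Nat.card_eq_one_iff_unique]
      exact ⟨⟨fun u v => Subtype.ext (Subtype.ext ((not_not.1 u.2).trans (not_not.1 v.2).symm))⟩, ⟨⟨⟨X, hX⟩, fun e => e rfl⟩⟩⟩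
  omega

theorem card_mem_ne_line (X : P) {l : L} (hX : X ∈ l) : Nat.card {m : L // X ∈ m ∧ m ≠ l} = order P L := by
  rw [← Dual.order P L]
  exact card_mem_ne_point (P := Dual L) (L := Dual P) X hX

theorem card_elat_odd (hodd : Odd (order P L)) (a : L) : Odd (Nat.card (Elat H P a)) :=
  (hodd.pow (n := 2)).of_dvd_nat (card_elat_dvd a)

/-- A homology fixing `a` fixes a centre of a homology with axis `a`. -/
theorem exists_fixed_centre (hodd : Odd (order P L)) {a : L} {h₀ : H} {C₀ : P} (h0 : IsHom h₀ C₀ a)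
    {g : H} (hg : g ^ 2 = 1) (hga : g • a = a) : ∃ C : P, (∃ h : H, IsHom h C a) ∧ g • C = C := by
  classical
  let s : Set P := {C | ∃ h : H, IsHom h C a}
  have hs : Nat.card s = Nat.card (Elat H P a) := by
    refine (Nat.card_congr (Equiv.ofBijective (fun τ : Elat H P a => (⟨(τ : H) • C₀,
      ⟨_, by simpa [axial_smul_line (elat_le_axial τ.2)] using h0.conj (τ : H)⟩⟩ : s)) ⟨fun u v e => ?_, ?_⟩)).symm
    · exact Subtype.ext (elat_stab_eq_bot h0.notMem u.2 v.2 (congrArg Subtype.val e))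
    · rintro ⟨C, h, hh⟩
      obtain ⟨τ, hτ, e⟩ := exists_elat_map h0.notMem hh.notMem h0.mem.1 (central_smul_point h0.mem.2) h0.ne_one
        hh.mem.1 (central_smul_point hh.mem.2) hh.ne_one
      exact ⟨⟨τ, hτ⟩, Subtype.ext e⟩
  have := Fact.mk Nat.prime_two
  have hm := card_invariant_modEq (p := 2) hg s (fun C ⟨h, hh⟩ => ⟨g * h * g⁻¹, hga ▸ hh.conj g⟩)
  obtain ⟨⟨C, hC, hgC⟩⟩ : Nonempty {C : P // C ∈ s ∧ g • C = C} := by
    by_contra hne
    rw [not_nonempty_iff] at hne
    rw [hs, Nat.card_of_isEmpty (α := {C : P // C ∈ s ∧ g • C = C}), Nat.ModEq, Nat.zero_mod, Nat.odd_iff.1 (card_elat_odd hodd a)] at hm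
    exact one_ne_zero hm
  exact ⟨C, hC, hgC⟩

/-- The translation line criterion: every other line is an axis with centre on `a`. -/
theorem card_elat_of_axes (hodd : Odd (order P L)) {a : L} (hT : ∃ τ ∈ Elat H P a, τ ≠ 1)
    {h₀ : H} {C₀ : P} (h0 : IsHom h₀ C₀ a)
    (hax : ∀ d : L, d ≠ a → ∃ (g : H) (Y : P), IsHom g Y d ∧ Y ∈ a) :
    Nat.card (Elat H P a) = order P L ^ 2 := by
  classical
  set T := Elat H P a
  have hfib : ∀ X : P, X ∈ a → Nat.card T = order P L * Nat.card (EC H X a) := by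
    intro X hX
    have hXC : X ≠ C₀ := fun e => h0.notMem (e ▸ hX)
    set l₀ : L := join X C₀
    have hl₀a : l₀ ≠ a := fun e => h0.notMem (e ▸ join_right hXC)
    have horb : orbit T l₀ = {d : L | X ∈ d ∧ d ≠ a} := by
      ext d
      constructor
      · rintro ⟨τ, rfl⟩
        have ha' : (τ : H) • a = a := axial_smul_line (elat_le_axial τ.2)
        refine ⟨?_, fun e => hl₀a (smul_left_cancel (τ : H) (e.trans ha'.symm))⟩
        have := smul_mem (τ : H) (join_left (L := L) hXC)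
        rwa [elat_le_axial τ.2 X hX] at this
      · rintro ⟨hXd, hda⟩
        obtain ⟨g, Y, hg, hY⟩ := hax d hda
        obtain ⟨C, ⟨h, hh⟩, hgC⟩ := exists_fixed_centre hodd h0 hg.sq (hg.smul_line hY)
        have hCd : C ∈ d := (hg.fixed_iff.1 hgC).resolve_left fun e => hh.notMem (e ▸ hY)
        obtain ⟨τ, hτ, e⟩ := exists_elat_map h0.notMem hh.notMem h0.mem.1 (central_smul_point h0.mem.2) h0.ne_one
          hh.mem.1 (central_smul_point hh.mem.2) hh.ne_one
        refine ⟨⟨τ, hτ⟩, ?_⟩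
        show τ • l₀ = d
        rw [smul_join τ hXC, elat_le_axial hτ X hX, e]
        exact (eq_join (fun e' => hh.notMem (by rw [← e']; exact hX)) hXd hCd).symm
    have hst : stabilizer T l₀ = (EC H X a).subgroupOf T := by
      ext τ
      rw [Subgroup.mem_subgroupOf, mem_stabilizer_iff]
      constructor
      · intro e
        obtain ⟨Z, hZ, hτ⟩ := exists_ec_of_elat τ.2
        by_cases h1 : (τ : H) = 1
        · rw [h1]; exact one_mem _
        have hZl := ec_fixed_line hτ hZ h1 e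
        rwa [point_eq hl₀a (join_left hXC) hX hZl hZ]
      · intro hτ
        exact hτ.2 _ (join_left hXC)
    have hoc : Nat.card (orbit T l₀) = order P L := by
      rw [horb]
      exact card_mem_ne_line X hX
    rw [← hoc, ← Nat.card_congr (Subgroup.subgroupOfEquivOfLe (ec_le_elat hX)).toEquiv, ← hst]
    have := Fintype.ofFinite T
    have := Fintype.ofFinite (orbit T l₀)
    have := Fintype.ofFinite (stabilizer T l₀)
    simp only [Nat.card_eq_fintype_card]
    exact (card_orbit_mul_card_stabilizer_eq_card_group T l₀).symm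
  obtain ⟨τ, hτ, hτ1⟩ := hT
  obtain ⟨X, hX, hτX⟩ := exists_ec_of_elat hτ
  refine card_elat_eq_sq (h := Nat.card (EC H X a)) ?_ fun Y hY => ?_
  · have : Nontrivial (EC H X a) := ⟨⟨⟨τ, hτX⟩, 1, fun e => hτ1 (congrArg Subtype.val e)⟩⟩
    exact Finite.one_lt_card
  · exact Nat.eq_of_mul_eq_mul_left (by have := one_lt_order P L; omega) ((hfib Y hY).symm.trans (hfib X hX))

/-- If the group fixes a line, that line is a translation line. -/
theorem card_elat_of_fixed_line (hodd : Odd (order P L)) (hp : PairHom H P L) {a : L} (hfix : ∀ g : H, g • a = a) :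
    Nat.card (Elat H P a) = order P L ^ 2 := by
  classical
  have haff : ∀ d : L, d ≠ a → ∃ (g : H) (Y : P), IsHom g Y d ∧ Y ∈ a := by
    intro d hd
    obtain ⟨A, hA, hAm⟩ := exists_mem_ne d (meet d a)
    obtain ⟨B, hB, hBm, hBA⟩ := exists_mem_ne_ne d (meet d a) A
    obtain ⟨g, C, c, hg, hgA, hgB⟩ := hp A B hBA.symm
    have hAa : A ∉ a := fun e => hAm (eq_meet hd hA e)
    have hBa : B ∉ a := fun e => hBm (eq_meet hd hB e)
    have hca : c ≠ a := fun e => hBA <| by
      rw [(hg.fixed_iff.1 hgB).resolve_right (e ▸ hBa), (hg.fixed_iff.1 hgA).resolve_right (e ▸ hAa)]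
    have hCa : C ∈ a := (hg.fixed_line (hfix g)).resolve_left hca.symm
    have hAc : A ∈ c := (hg.fixed_iff.1 hgA).resolve_left fun e => hAa (e ▸ hCa)
    have hBc : B ∈ c := (hg.fixed_iff.1 hgB).resolve_left fun e => hBa (e ▸ hCa)
    exact ⟨g, C, line_eq hBA hBc hAc hB hA ▸ hg, hCa⟩
  have hT : ∃ τ ∈ Elat H P a, τ ≠ 1 := by
    by_contra hT
    push Not at hT
    have inj : ∀ (d d' : L) (g g' : H) (Y : P), d ≠ a → IsHom g Y d → IsHom g' Y d' → Y ∈ a →
        (meet d a : P) ∈ d' → d = d' := by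
      intro d d' g g' Y hda hg hg' hY hX
      by_contra hdd
      have hR : (meet d d' : P) = meet d a := (eq_meet hdd (meet_left hda) hX).symm
      obtain ⟨τ, hτ, hτ1⟩ := exists_ec_ne_one (exists_ec_of_two_axes hg hg' hdd)
      have hne : Y ≠ meet d a := fun e => hg.notMem (e ▸ meet_left hda)
      rw [hR, ← eq_join hne hY (meet_right hda)] at hτ
      exact hτ1 (hT τ (ec_le_elat hY hτ))
    choose G Yc hG hYc using haff
    have axes : ∀ X Y : P, X ∈ a → Y ∈ a → X ≠ Y → ∃ (d : L) (hd : d ≠ a), X ∈ d ∧ Yc d hd = Y := by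
      intro X Y hX hY hXY
      let F : {d : L // X ∈ d ∧ d ≠ a} → {Z : P // Z ∈ a ∧ Z ≠ X} := fun d =>
        ⟨Yc d.1 d.2.2, hYc _ _, fun e => (hG d.1 d.2.2).notMem (by rw [e]; exact d.2.1)⟩
      have hFi : Function.Injective F := fun d d' e => Subtype.ext <| by
        have e' : Yc d.1 d.2.2 = Yc d'.1 d'.2.2 := congrArg Subtype.val e
        exact inj d.1 d'.1 _ _ _ d.2.2 (hG d.1 d.2.2) (by rw [e']; exact hG d'.1 d'.2.2) (hYc _ _)
          ((eq_meet d.2.2 d.2.1 hX) ▸ d'.2.1)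
      obtain ⟨d, hd⟩ := (hFi.bijective_of_nat_card_le (by rw [card_mem_ne_point a hX, card_mem_ne_line X hX])).2 ⟨Y, hY, hXY.symm⟩
      exact ⟨d.1, d.2.2, d.2.1, congrArg Subtype.val hd⟩
    -- a point common to all lines
    have hcentre : ∀ (d : L) (hd : d ≠ a), ∃ (A : P) (f : H), A ∈ d ∧ IsHom f A a := by
      intro d hd
      set X : P := meet d a
      set Y : P := Yc d hd
      have hY : Y ∈ a := hYc d hd
      have hh : IsHom (G d hd) Y d := hG d hd
      have hXY : X ≠ Y := fun e => hh.notMem (e ▸ meet_left hd)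
      obtain ⟨d', hd', hYd', hX'⟩ := axes Y X hY (meet_right hd) hXY.symm
      have hh' : IsHom (G d' hd') X d' := hX' ▸ hG d' hd'
      set h := G d hd
      set h' := G d' hd'
      have hdd' : d ≠ d' := fun e => hh.notMem (e ▸ hYd')
      have e1 : h' * h * h'⁻¹ ∈ EC H Y d := by
        have := conj_mem_ec (g := h') hh.mem
        rwa [hh'.mem.1 Y hYd', hh'.smul_line (meet_left hd)] at this
      have e2 : h * h' * h⁻¹ ∈ EC H X d' := by
        have := conj_mem_ec (g := h) hh'.mem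
        rwa [hh.mem.1 X (meet_left hd), hh.smul_line hYd'] at this
      have hinv : h⁻¹ = h := inv_eq_of_mul_eq_one_right (by rw [← sq, hh.sq])
      have hinv' : h'⁻¹ = h' := inv_eq_of_mul_eq_one_right (by rw [← sq, hh'.sq])
      set c := h * (h' * h * h'⁻¹)
      have hc1 : c ∈ EC H Y d := mul_mem hh.mem e1
      have hc2 : c ∈ EC H X d' := by
        rw [show c = (h * h' * h⁻¹) * h' by simp [c, hinv, hinv', mul_assoc]]
        exact mul_mem e2 hh'.mem
      have hc : c = 1 := by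
        obtain ⟨u, hu, hum⟩ := exists_mem_ne d' (meet d d')
        obtain ⟨w, hw, hwm, hwu⟩ := exists_mem_ne_ne d' (meet d d') u
        exact eq_one_of_two_fixed hc1.1 (fun e => hum (eq_meet hdd' e hu)) (fun e => hwm (eq_meet hdd' e hw)) hwu.symm
          (hc2.1 u hu) (hc2.1 w hw)
      have hcomm : h * h' = h' * h := by
        have h1 : h * (h' * h * h') = 1 := by rw [← hc]; simp [c, hinv']
        calc h * h' = h * h' * (h * (h' * h * h'))⁻¹ := by rw [h1, inv_one, mul_one]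
          _ = h * h' * (h' * (h * h')) * h := by simp [mul_inv_rev, hinv, hinv', mul_assoc]
          _ = h' * h := by
            have a1 : h' * h' = 1 := by rw [← sq, hh'.sq]
            have a2 : h * h = 1 := by rw [← sq, hh.sq]
            calc h * h' * (h' * (h * h')) * h = h * (h' * h') * h * h' * h := by simp only [mul_assoc]
              _ = h' * h := by rw [a1, mul_one, a2, one_mul]
      set f := h * h'
      have hf2 : f ^ 2 = 1 := by
        rw [show f = h * h' from rfl, (show Commute h h' from hcomm).mul_pow, hh.sq, hh'.sq, one_mul]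
      set A : P := meet d d'
      have hAd : A ∈ d := meet_left hdd'
      have hAd' : A ∈ d' := meet_right hdd'
      have hfX : f • X = X := by rw [mul_smul, central_smul_point hh'.mem.2, hh.mem.1 X (meet_left hd)]
      have hfY : f • Y = Y := by rw [mul_smul, hh'.mem.1 Y hYd', central_smul_point hh.mem.2]
      have hfd : ∀ q : P, q ∈ d → f • q = q → q = X ∨ q ∈ d' := by
        intro q hq hfq
        refine hh'.fixed_iff.1 ?_
        have : h • (h' • q) = h • q := by rw [← mul_smul]; exact hfq.trans (hh.mem.1 q hq).symm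
        exact smul_left_cancel h this
      have hfd' : ∀ q : P, q ∈ d' → f • q = q → q = Y ∨ q ∈ d := by
        intro q hq hfq
        exact hh.fixed_iff.1 (by rwa [mul_smul, hh'.mem.1 q hq] at hfq)
      have hf1 : f ≠ 1 := fun e => by
        obtain ⟨q, hq, hqX, hqA⟩ := exists_mem_ne_ne d X A
        rcases hfd q hq (by rw [e, one_smul]) with h1 | h1
        · exact hqX h1
        · exact hqA (eq_meet hdd' hq h1)
      have hfda : f • d = d := by
        rw [mul_smul, hh'.smul_line (meet_left hd)]; exact axial_smul_line hh.mem.1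
      have hfd'a : f • d' = d' := by
        rw [mul_smul, axial_smul_line hh'.mem.1]; exact hh.smul_line hYd'
      rcases involution_cases (P := P) (L := L) hf2 with ⟨Z, b, hZ⟩ | ⟨hq, -⟩
      · have hZb : Z ∉ b := fun hZb => by
          have hd2 : orderOf f ∣ Nat.card (Elat H P b) := by
            rw [← Subgroup.orderOf_mk f (ec_le_elat hZb hZ)]; exact orderOf_dvd_natCard _
          rw [orderOf_eq_prime hf2 hf1] at hd2
          exact absurd ((card_elat_odd hodd b).of_dvd_nat hd2) (by decide)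
        have hF : IsHom f Z b := ⟨hZb, hZ, hf1, hf2⟩
        have hbd : b ≠ d := fun e => by
          obtain ⟨q, hq, hqX, hqA⟩ := exists_mem_ne_ne d X A
          rcases hfd q hq (hZ.1 q (e ▸ hq)) with h1 | h1
          · exact hqX h1
          · exact hqA (eq_meet hdd' hq h1)
        have hbd' : b ≠ d' := fun e => by
          obtain ⟨q, hq, hqY, hqA⟩ := exists_mem_ne_ne d' Y A
          rcases hfd' q hq (hZ.1 q (e ▸ hq)) with h1 | h1
          · exact hqY h1
          · exact hqA (eq_meet hdd' h1 hq)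
        have hZd : Z ∈ d := (hF.fixed_line hfda).resolve_left hbd.symm
        have hZd' : Z ∈ d' := (hF.fixed_line hfd'a).resolve_left hbd'.symm
        obtain rfl : Z = A := eq_meet hdd' hZd hZd'
        have hXA : X ≠ meet d d' := fun e => hXY (point_eq hd' (e ▸ hAd') (meet_right hd) hYd' hY)
        have hYA : Y ≠ meet d d' := fun e => hh.notMem (e ▸ hAd)
        have hXb : X ∈ b := (hF.fixed_iff.1 hfX).resolve_left hXA
        have hYb : Y ∈ b := (hF.fixed_iff.1 hfY).resolve_left hYA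
        exact ⟨_, f, hAd, line_eq hXY hXb hYb (meet_right hd) hY ▸ hF⟩
      · let _ := fixPlane hq
        let df : Fix (Subgroup.zpowers f) L := ⟨d, mem_fix_zpowers hfda⟩
        let Xf : Fix (Subgroup.zpowers f) P := ⟨X, mem_fix_zpowers hfX⟩
        let Af : Fix (Subgroup.zpowers f) P := ⟨A, mem_fix_zpowers (smul_point_eq f hdd' hAd hAd' hfda hfd'a)⟩
        obtain ⟨q, hq', hqX, hqA⟩ := exists_mem_ne_ne (P := Fix (Subgroup.zpowers f) P) df Xf Af
        rcases hfd q.1 hq' (q.2 f (Subgroup.mem_zpowers f)) with h1 | h1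
        · exact absurd (Subtype.ext h1) hqX
        · exact absurd (Subtype.ext (eq_meet hdd' hq' h1)) hqA
    obtain ⟨d₀, -, hd₀⟩ := exists_line_mem_ne (Classical.choose (ProjectivePlane.exists_config (P := P) (L := L))) a
    obtain ⟨A, f, hA, hf⟩ := hcentre d₀ hd₀
    obtain ⟨d₁, hd₁A, hd₁⟩ : ∃ d : L, A ∉ d ∧ d ≠ a := by
      obtain ⟨x, hx, -⟩ := exists_mem_ne a A
      have hAx : A ≠ x := fun e => hf.notMem (e ▸ hx)
      obtain ⟨d, hxd, hda, hdj⟩ := exists_line_mem_ne_ne x a (join A x : L)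
      exact ⟨d, fun e => hdj (eq_join hAx e hxd), hda⟩
    obtain ⟨A', f', hA', hf'⟩ := hcentre d₁ hd₁
    obtain ⟨τ, hτ, e⟩ := exists_elat_map hf.notMem hf'.notMem hf.mem.1 (central_smul_point hf.mem.2) hf.ne_one
      hf'.mem.1 (central_smul_point hf'.mem.2) hf'.ne_one
    rw [hT τ hτ, one_smul] at e
    exact hd₁A (e ▸ hA')
  by_cases hΩ : ∃ (h : H) (C : P), IsHom h C a
  · obtain ⟨h, C, hC⟩ := hΩ
    exact card_elat_of_axes hodd hT hC haff
  · obtain ⟨τ, hτ, hτ1⟩ := hT
    obtain ⟨X, hX, hτX⟩ := exists_ec_of_elat hτ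
    refine card_elat_eq_sq (h := Nat.card (EC H X a)) ?_ fun Y hY => ?_
    · have : Nontrivial (EC H X a) := ⟨⟨⟨τ, hτX⟩, 1, fun e => hτ1 (congrArg Subtype.val e)⟩⟩
      exact Finite.one_lt_card
    · let Ω := {p : P // p ∈ a}
      let _ : MulAction H Ω :=
        { smul := fun g p => ⟨g • p.1, (mem_iff_of_fixed (hfix g)).2 p.2⟩
          one_smul := fun p => Subtype.ext (one_smul H p.1)
          mul_smul := fun g g' p => Subtype.ext (mul_smul g g' p.1) }
      have hex : ∀ x y : Ω, x ≠ y → ∃ g : H, g ^ 2 = 1 ∧ ∀ z, g • z = z ↔ z = x ∨ z = y := by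
        intro x y hxy
        obtain ⟨g, C, c, hg, hgx, hgy⟩ := hp x.1 y.1 (fun e => hxy (Subtype.ext e))
        have hca : c ≠ a := fun e => hΩ ⟨g, C, e ▸ hg⟩
        have hCa : C ∈ a := (hg.fixed_line (hfix g)).resolve_left hca.symm
        have hfz : ∀ z : Ω, g • z = z → z.1 = C ∨ z.1 = meet c a := fun z hz =>
          (hg.fixed_iff.1 (congrArg Subtype.val hz)).imp id fun e => eq_meet hca e z.2
        have hxe := hfz x (Subtype.ext hgx)
        have hye := hfz y (Subtype.ext hgy)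
        refine ⟨g, hg.sq, fun z => ⟨fun hz => ?_, ?_⟩⟩
        · have hxy' : x.1 ≠ y.1 := fun e => hxy (Subtype.ext e)
          rcases hxe with e1 | e1 <;> rcases hye with e2 | e2
          · exact absurd (e1.trans e2.symm) hxy'
          · rcases hfz z hz with e | e
            · exact .inl (Subtype.ext (e.trans e1.symm))
            · exact .inr (Subtype.ext (e.trans e2.symm))
          · rcases hfz z hz with e | e
            · exact .inr (Subtype.ext (e.trans e2.symm))
            · exact .inl (Subtype.ext (e.trans e1.symm))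
          · exact absurd (e1.trans e2.symm) hxy'
        · rintro (rfl | rfl)
          · exact Subtype.ext hgx
          · exact Subtype.ext hgy
      obtain ⟨g, hg⟩ := pretransitive_of_exact_pairs (G := H) (Ω := Ω)
        (by rw [nat_card_mem_line]; have := one_lt_order P L; omega) hex ⟨X, hX⟩ ⟨Y, hY⟩
      rw [← show g • X = Y from congrArg Subtype.val hg]
      conv_lhs => rw [← hfix g]
      exact card_ec_smul g X a

/-- On a line that is no axis every point is a centre and the stabiliser is transitive. -/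
theorem transitive_of_not_axis (hp : PairHom H P L) {b : L} (hb : ∀ (g : H) (C : P), ¬ IsHom g C b) :
    (∀ A : P, A ∈ b → ∃ (g : H) (c : L), IsHom g A c) ∧
      ∀ A B : P, A ∈ b → B ∈ b → ∃ g : H, g • A = B ∧ g • b = b := by
  let G' := stabilizer H b
  let Ω := {p : P // p ∈ b}
  let _ : MulAction G' Ω :=
    { smul := fun g p => ⟨(g : H) • p.1, (mem_iff_of_fixed g.2).2 p.2⟩
      one_smul := fun p => Subtype.ext (one_smul H p.1)
      mul_smul := fun g g' p => Subtype.ext (mul_smul (g : H) (g' : H) p.1) }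
  have pair : ∀ A B : P, A ∈ b → B ∈ b → A ≠ B → ∃ (g : H) (c : L),
      (IsHom g A c ∧ B ∈ c) ∨ (IsHom g B c ∧ A ∈ c) := by
    intro A B hA hB hAB
    obtain ⟨g, C, c, hg, hgA, hgB⟩ := hp A B hAB
    rcases hg.fixed_iff.1 hgA with e | eA <;> rcases hg.fixed_iff.1 hgB with e' | eB
    · exact absurd (e.trans e'.symm) hAB
    · exact ⟨g, c, .inl ⟨e ▸ hg, eB⟩⟩
    · exact ⟨g, c, .inr ⟨e' ▸ hg, eA⟩⟩
    · exact absurd (line_eq hAB eA eB hA hB ▸ hg) (hb g C)
  have trans : ∀ x y : Ω, ∃ g : G', g • x = y := by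
    refine pretransitive_of_exact_pairs (by rw [nat_card_mem_line]; have := one_lt_order P L; omega) fun x y hxy => ?_
    have hxy' : x.1 ≠ y.1 := fun e => hxy (Subtype.ext e)
    obtain ⟨g, c, hgc⟩ := pair x.1 y.1 x.2 y.2 hxy'
    have key : ∀ (u w : Ω) (g : H) (c : L), IsHom g u.1 c → w.1 ∈ c →
        ∃ g' : G', g' ^ 2 = 1 ∧ ∀ z, g' • z = z ↔ z = u ∨ z = w := by
      intro u w g c hg hw
      refine ⟨⟨g, hg.smul_line u.2⟩, Subtype.ext hg.sq, fun z => ⟨fun hz => ?_, ?_⟩⟩
      · rcases hg.fixed_iff.1 (congrArg Subtype.val hz) with e | e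
        · exact .inl (Subtype.ext e)
        · exact .inr (Subtype.ext (point_eq (fun e' : c = b => hb g u.1 (e' ▸ hg)) e z.2 hw w.2))
      · rintro (rfl | rfl)
        · exact Subtype.ext (central_smul_point hg.mem.2)
        · exact Subtype.ext (hg.mem.1 _ hw)
    rcases hgc with ⟨h1, h2⟩ | ⟨h1, h2⟩
    · exact key x y g c h1 h2
    · obtain ⟨g', h3, h4⟩ := key y x g c h1 h2
      exact ⟨g', h3, fun z => (h4 z).trans or_comm⟩
  have tr : ∀ A B : P, A ∈ b → B ∈ b → ∃ g : H, g • A = B ∧ g • b = b := fun A B hA hB => by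
    obtain ⟨g, hg⟩ := trans ⟨A, hA⟩ ⟨B, hB⟩
    exact ⟨g, congrArg Subtype.val hg, g.2⟩
  refine ⟨fun A hA => ?_, tr⟩
  obtain ⟨B, hB, hBA⟩ := exists_mem_ne b A
  obtain ⟨g, c, ⟨h1, -⟩ | ⟨h1, -⟩⟩ := pair A B hA hB hBA.symm
  · exact ⟨g, c, h1⟩
  · obtain ⟨k, hk, -⟩ := tr B A hB hA
    exact ⟨_, _, hk ▸ h1.conj k⟩

/-- If some point is no centre, the group fixes a line or a point. -/
theorem exists_fixed_of_not_centre (hp : PairHom H P L) (hl : PairHom H (Dual L) (Dual P))
    {U₀ : P} (hU : ∀ (g : H) (c : L), ¬ IsHom g U₀ c) :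
    (∃ a : L, ∀ g : H, g • a = a) ∨ ∃ X : P, ∀ g : H, g • X = X := by
  classical
  have := faithful_dual (G := H) (P := P) (L := L)
  set N : Set P := {U | ∀ (g : H) (c : L), ¬ IsHom g U c}
  have hNinv : ∀ (k : H) (U : P), U ∈ N → k • U ∈ N := fun k U hU g c hg =>
    hU _ _ (by simpa using hg.conj k⁻¹)
  have pencil : ∀ U ∈ N, (∀ d : L, U ∈ d → ∃ (g : H) (C : P), IsHom g C d) ∧
      ∀ d e : L, U ∈ d → U ∈ e → ∃ g : H, g • d = e := by
    intro U hUN
    obtain ⟨h1, h2⟩ := transitive_of_not_axis (P := Dual L) (L := Dual P) hl (b := U)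
      (fun g C hg => hUN g C (IsHom.of_dual (P := P) (L := L) hg))
    refine ⟨fun d hd => ?_, fun d e hd he => ?_⟩
    · obtain ⟨g, C, hg⟩ := h1 d hd; exact ⟨g, C, (IsHom.of_dual (P := P) (L := L) hg)⟩
    · obtain ⟨g, hg, -⟩ := h2 d e hd he; exact ⟨g, hg⟩
  obtain ⟨l₁, -⟩ := exists_line_not_mem (L := L) U₀
  obtain ⟨d₀, hd₀, -⟩ := exists_line_mem_ne U₀ l₁
  set ν := Nat.card {p : P // p ∈ N ∧ p ∈ d₀}
  have hν : ∀ (d : L) (U : P), U ∈ N → U ∈ d → Nat.card {p : P // p ∈ N ∧ p ∈ d} = ν := by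
    intro d U hUN hUd
    obtain ⟨e, hU0e, hUe⟩ : ∃ e : L, U₀ ∈ e ∧ U ∈ e := by
      by_cases hUU : U₀ = U
      · exact ⟨d₀, hd₀, hUU ▸ hd₀⟩
      · exact ⟨join U₀ U, join_left hUU, join_right hUU⟩
    obtain ⟨g₁, h1⟩ := (pencil U hUN).2 d e hUd hUe
    obtain ⟨g₂, h2⟩ := (pencil U₀ hU).2 e d₀ hU0e hd₀
    refine Nat.card_congr
      { toFun := fun p => ⟨(g₂ * g₁) • p.1, hNinv _ _ p.2.1, by
          rw [← h2, ← h1, ← mul_smul]; exact smul_mem _ p.2.2⟩
        invFun := fun p => ⟨(g₂ * g₁)⁻¹ • p.1, hNinv _ _ p.2.1, by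
          rw [← mem_smul_iff, mul_smul, h1, h2]; exact p.2.2⟩
        left_inv := fun p => Subtype.ext (inv_smul_smul _ _)
        right_inv := fun p => Subtype.ext (smul_inv_smul _ _) }
  obtain ⟨g₀, C, hgC⟩ := (pencil U₀ hU).1 d₀ hd₀
  have hCN : C ∉ N := fun h => h g₀ d₀ hgC
  have := Fact.mk Nat.prime_two
  have parity : ∀ X : P, X ∈ d₀ → ν * 0 + Nat.card {p : P // p ∈ N ∧ p ∈ (join C X : L)} ≡ (if X ∈ N then 1 else 0) [MOD 2] := by
    intro X hX
    rw [Nat.mul_zero, Nat.zero_add]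
    have hCX : C ≠ X := fun e => hgC.notMem (e ▸ hX)
    refine (card_invariant_modEq hgC.sq {p | p ∈ N ∧ p ∈ (join C X : L)} fun p hp => ⟨hNinv _ _ hp.1,
      (mem_iff_of_fixed (hgC.smul_line (join_left hCX))).2 hp.2⟩).trans (modEq_of_eq ?_)
    have hfix : ∀ p : P, (p ∈ N ∧ p ∈ (join C X : L)) ∧ g₀ • p = p → p = X := by
      rintro p ⟨⟨hpN, hpj⟩, hfp⟩
      have hpd := (hgC.fixed_iff.1 hfp).resolve_left fun e => hCN (e ▸ hpN)
      exact point_eq (fun e : (join C X : L) = d₀ => hgC.notMem (e ▸ join_left hCX)) hpj hpd (join_right hCX) hX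
    split_ifs with hXN
    · exact Nat.card_eq_one_iff_unique.2 ⟨⟨fun u v => Subtype.ext ((hfix u.1 u.2).trans (hfix v.1 v.2).symm)⟩,
        ⟨⟨X, ⟨hXN, join_right hCX⟩, hgC.mem.1 X hX⟩⟩⟩
    · have : IsEmpty {p : P // p ∈ ({p | p ∈ N ∧ p ∈ (join C X : L)} : Set P) ∧ g₀ • p = p} :=
        ⟨fun p => hXN (hfix p.1 p.2 ▸ p.2.1.1)⟩
      exact Nat.card_of_isEmpty
  have hCX : ∀ X : P, X ∈ d₀ → C ≠ X := fun X hX e => hgC.notMem (e ▸ hX)
  have hodd : ν % 2 = 1 := by
    have := parity U₀ hd₀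
    rwa [if_pos (show U₀ ∈ N from hU), Nat.mul_zero, Nat.zero_add, hν _ U₀ hU (join_right (hCX U₀ hd₀))] at this
  have hmiss : ∀ p : P, p ∈ N → (meet (join C p : L) d₀ : P) ∈ N := by
    intro p hpN
    have hCp : C ≠ p := fun e => hCN (e ▸ hpN)
    have hne : (join C p : L) ≠ d₀ := fun e => hgC.notMem (e ▸ join_left hCp)
    by_contra hXN
    set X : P := meet (join C p : L) d₀
    have hX : X ∈ d₀ := meet_right hne
    have hj : (join C p : L) = join C X := eq_join (hCX X hX) (join_left hCp) (meet_left hne)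
    have := parity X hX
    rw [if_neg hXN, ← hj, Nat.mul_zero, Nat.zero_add, hν _ p hpN (join_right hCp), Nat.ModEq, hodd] at this
    exact absurd this (by decide)
  have hN1 : Nat.card N = ν * ν := by
    have e : (Σ X : {p : P // p ∈ N ∧ p ∈ d₀}, {p : P // p ∈ N ∧ p ∈ (join C X.1 : L)}) ≃ N :=
      Equiv.ofBijective (fun x => ⟨x.2.1, x.2.2.1⟩) ⟨by
        rintro ⟨⟨X, hX⟩, p, hp⟩ ⟨⟨X', hX'⟩, p', hp'⟩ e
        obtain rfl : p = p' := congrArg Subtype.val e
        obtain rfl : X = X' := by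
          have hCp : C ≠ p := fun e => hCN (e ▸ hp.1)
          have e1 := eq_join hCp (join_left (hCX X hX.2)) hp.2
          have e2 := eq_join hCp (join_left (hCX X' hX'.2)) hp'.2
          refine point_eq (fun e' : (join C X : L) = d₀ => hgC.notMem (e' ▸ join_left (hCX X hX.2)))
            (join_right (hCX X hX.2)) hX.2 ?_ hX'.2
          rw [e1, ← e2]; exact join_right (hCX X' hX'.2)
        rfl, by
        rintro ⟨p, hp⟩
        have hCp : C ≠ p := fun e => hCN (e ▸ hp)
        have hne : (join C p : L) ≠ d₀ := fun e => hgC.notMem (e ▸ join_left hCp)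
        refine ⟨⟨⟨_, hmiss p hp, meet_right hne⟩, p, hp, ?_⟩, rfl⟩
        rw [← eq_join (hCX _ (meet_right hne)) (join_left hCp) (meet_left hne)]
        exact join_right hCp⟩
    have := Fintype.ofFinite {p : P // p ∈ N ∧ p ∈ d₀}
    rw [← Nat.card_congr e, Nat.card_sigma, Finset.sum_congr rfl fun X _ => hν _ X.1 X.2.1 (join_right (hCX X.1 X.2.2)),
      Finset.sum_const, smul_eq_mul, Finset.card_univ, ← Nat.card_eq_fintype_card]
  have hN2 : Nat.card N = 1 + (order P L + 1) * (ν - 1) := by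
    have e : (Σ l : {l : L // U₀ ∈ l}, {p : P // p ∈ N ∧ p ∈ l.1 ∧ p ≠ U₀}) ≃ {p : N // (p : P) ≠ U₀} :=
      Equiv.ofBijective (fun x => ⟨⟨x.2.1, x.2.2.1⟩, x.2.2.2.2⟩) ⟨by
        rintro ⟨⟨l, hl'⟩, p, hp⟩ ⟨⟨l', hl''⟩, p', hp'⟩ e
        obtain rfl : p = p' := congrArg (fun z => (z.1 : N).1) e
        obtain rfl : l = l' := line_eq hp.2.2 hp.2.1 hl' hp'.2.1 hl''
        rfl, by
        rintro ⟨⟨p, hp⟩, hne⟩
        exact ⟨⟨⟨join U₀ p, join_left (Ne.symm hne)⟩, p, hp, join_right (Ne.symm hne), hne⟩, rfl⟩⟩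
    have := Fintype.ofFinite {l : L // U₀ ∈ l}
    rw [← Nat.card_congr (Equiv.sumCompl (fun p : N => (p : P) = U₀)), Nat.card_sum]
    congr 1
    · exact Nat.card_eq_one_iff_unique.2 ⟨⟨fun u v => Subtype.ext (Subtype.ext (u.2.trans v.2.symm))⟩, ⟨⟨⟨U₀, hU⟩, rfl⟩⟩⟩
    rw [← Nat.card_congr e, Nat.card_sigma, Finset.sum_congr rfl (g := fun _ => ν - 1) fun l _ => ?_, Finset.sum_const,
      smul_eq_mul, Finset.card_univ, ← Nat.card_eq_fintype_card, nat_card_mem_point]
    have h1 : Nat.card {q : {p : P // p ∈ N ∧ p ∈ l.1} // q.1 = U₀} = 1 :=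
      Nat.card_eq_one_iff_unique.2 ⟨⟨fun u v => Subtype.ext (Subtype.ext (u.2.trans v.2.symm))⟩, ⟨⟨⟨U₀, hU, l.2⟩, rfl⟩⟩⟩
    rw [← hν l.1 U₀ hU l.2, ← Nat.card_congr (Equiv.sumCompl (fun p : {p : P // p ∈ N ∧ p ∈ l.1} => p.1 = U₀)), Nat.card_sum, h1,
      Nat.add_sub_cancel_left]
    exact Nat.card_congr
      { toFun := fun p => ⟨⟨p.1, p.2.1, p.2.2.1⟩, p.2.2.2⟩
        invFun := fun p => ⟨p.1.1, p.1.2.1, p.1.2.2, p.2⟩ }
  set n := order P L
  have hνpos : 1 ≤ ν := by omega
  rcases Nat.lt_or_ge 1 ν with hν2 | hν1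
  · -- the complement is a line
    have hνn : ν = n := by
      obtain ⟨j, hj⟩ : ∃ j, ν = j + 1 := ⟨ν - 1, by omega⟩
      have := hN1.symm.trans hN2
      rw [hj, Nat.add_sub_cancel] at this
      have h3 : j * (j + 1) = j * n := by nlinarith [this]
      rw [hj]; exact Nat.eq_of_mul_eq_mul_left (by omega) h3
    have hM : ∀ x y : P, x ∉ N → y ∉ N → x ≠ y → ∀ p : P, p ∈ (join x y : L) → p ∉ N := by
      intro x y hx hy hxy p hp hpN
      have h1 := hν _ p hpN hp
      have h2 : Nat.card ({p : P // p ∈ N ∧ p ∈ (join x y : L)} ⊕ Fin 2) ≤ Nat.card {p : P // p ∈ (join x y : L)} := by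
        refine Nat.card_le_card_of_injective (Sum.elim (fun q => ⟨q.1, q.2.2⟩)
          (fun i => if i = 0 then ⟨x, join_left hxy⟩ else ⟨y, join_right hxy⟩)) ?_
        rintro (u | i) (v | j) e
        · exact congrArg Sum.inl (Subtype.ext (by simpa using congrArg Subtype.val e))
        · exfalso; simp only [Sum.elim_inl, Sum.elim_inr] at e; split_ifs at e
          · exact hx (by rw [show x = u.1 from (congrArg Subtype.val e).symm]; exact u.2.1)
          · exact hy (by rw [show y = u.1 from (congrArg Subtype.val e).symm]; exact u.2.1)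
        · exfalso; simp only [Sum.elim_inl, Sum.elim_inr] at e; split_ifs at e
          · exact hx (by rw [show x = v.1 from congrArg Subtype.val e]; exact v.2.1)
          · exact hy (by rw [show y = v.1 from congrArg Subtype.val e]; exact v.2.1)
        · refine congrArg Sum.inr ?_
          simp only [Sum.elim_inr] at e
          split_ifs at e with hi hj hj
          · exact hi.trans hj.symm
          · exact absurd (congrArg Subtype.val e) hxy
          · exact absurd (congrArg Subtype.val e).symm hxy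
          · omega
      rw [Nat.card_sum, h1, nat_card_mem_line, Nat.card_eq_fintype_card (α := Fin 2), Fintype.card_fin] at h2
      omega
    have hcomp : Nat.card {p : P // p ∉ N} = n + 1 := by
      have := Nat.card_congr (Equiv.sumCompl (fun p : P => p ∈ N))
      rw [Nat.card_sum, nat_card_points (L := L), show Nat.card {p : P // p ∈ N} = ν * ν from hN1, hνn] at this
      have e' : n * n = n ^ 2 := (sq n).symm
      rw [show order P L = n from rfl] at this
      omega
    obtain ⟨⟨x, hx⟩, ⟨y, hy⟩, hxy⟩ : ∃ x y : {p : P // p ∉ N}, x ≠ y := by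
      have : Nontrivial {p : P // p ∉ N} := Finite.one_lt_card_iff_nontrivial.1 (by have := one_lt_order P L; omega)
      exact exists_pair_ne _
    have hxy' : x ≠ y := fun e => hxy (Subtype.ext e)
    set M : L := join x y
    have hMeq : ∀ p : P, p ∉ N → p ∈ M := by
      have hb := (Function.Injective.bijective_of_nat_card_le
        (f := fun p : {p : P // p ∈ M} => (⟨p.1, hM x y hx hy hxy' p.1 p.2⟩ : {p : P // p ∉ N}))
        (fun u v e => Subtype.ext (congrArg (fun z : {p : P // p ∉ N} => z.1) e))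
        (by rw [hcomp, nat_card_mem_line])).2
      intro p hp
      obtain ⟨q, hq⟩ := hb ⟨p, hp⟩
      rw [← show q.1 = p from congrArg Subtype.val hq]; exact q.2
    refine .inl ⟨M, fun g => ?_⟩
    have key : ∀ z : P, z ∉ N → g • z ∈ M := fun z hz => hMeq _ fun h => hz (by simpa using hNinv g⁻¹ _ h)
    refine line_eq (p := g • x) (q := g • y) (by simpa using hxy') (smul_mem g (join_left hxy'))
      (smul_mem g (join_right hxy')) (key x hx) (key y hy)
  · right
    refine ⟨U₀, fun g => ?_⟩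
    have h1 : Nat.card N = 1 := by rw [hN1, show ν = 1 by omega]
    have := (Nat.card_eq_one_iff_unique.1 h1).1
    exact congrArg Subtype.val (Subsingleton.elim (⟨g • U₀, hNinv g U₀ hU⟩ : N) ⟨U₀, hU⟩)

variable (H P L) in
/-- All points are centres and all lines are axes. -/
def AllHom : Prop :=
  (∀ X : P, ∃ (g : H) (c : L), IsHom g X c) ∧ ∀ a : L, ∃ (g : H) (C : P), IsHom g C a

theorem AllHom.dual (h : AllHom H P L) : AllHom H (Dual L) (Dual P) :=
  ⟨fun a => by obtain ⟨g, C, hg⟩ := h.2 a; exact ⟨g, C, hg.dual⟩,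
    fun X => by obtain ⟨g, c, hg⟩ := h.1 X; exact ⟨g, c, hg.dual⟩⟩

theorem ec_dual_ne' {X : P} {a : L} (h : EC H (P := Dual L) (L := Dual P) a X ≠ ⊥) : EC H X a ≠ ⊥ := by
  rwa [ec_dual] at h

theorem card_ec_dual (X : P) (a : L) :
    Nat.card (EC H (P := Dual L) (L := Dual P) a X) = Nat.card (EC H X a) := by
  rw [ec_dual]

theorem ec_dual_ne {X : P} {a : L} (h : EC H X a ≠ ⊥) : EC H (P := Dual L) (L := Dual P) a X ≠ ⊥ := by
  rwa [ec_dual]

/-- An axis with two centres of elations has all its points as centres of elations. -/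
theorem ec_ne_bot_of_two (hall : AllHom H P L) {a : L} {X Y : P} (hX : X ∈ a) (hY : Y ∈ a) (hXY : X ≠ Y)
    (hX1 : EC H X a ≠ ⊥) (hY1 : EC H Y a ≠ ⊥) {Z : P} (hZ : Z ∈ a) : EC H Z a ≠ ⊥ := by
  obtain ⟨g, c, hg⟩ := hall.1 Z
  have hca : c ≠ a := fun e => hg.notMem (e ▸ hZ)
  set R : P := meet c a
  obtain ⟨W, hW, hWR, hW1⟩ : ∃ W : P, W ∈ a ∧ W ≠ R ∧ EC H W a ≠ ⊥ := by
    by_cases hXR : X = R
    · exact ⟨Y, hY, fun e => hXY (hXR.trans e.symm), hY1⟩
    · exact ⟨X, hX, hXR, hX1⟩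
  obtain ⟨τ, hτ, hτ1⟩ := exists_ec_ne_one hW1
  have hτc : τ • c ≠ c := fun e => hWR (eq_meet hca (ec_fixed_line hτ hW hτ1 e) hW)
  have hg' : IsHom (τ * g * τ⁻¹) Z (τ • c) := by
    have := hg.conj τ
    rwa [hτ.1 Z hZ] at this
  have hm : (meet c (τ • c) : P) = R := by
    refine (eq_meet (Ne.symm hτc) (meet_left hca) ?_).symm
    have h1 := smul_mem τ (meet_left (P := P) hca)
    rwa [hτ.1 R (meet_right hca)] at h1
  have h := exists_ec_of_two_axes hg hg' (Ne.symm hτc)
  have hZR : Z ≠ R := fun e => hg.notMem (e ▸ meet_left hca)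
  rwa [hm, ← eq_join hZR hZ (meet_right hca)] at h

/-- An axis with a single centre of elations. -/
theorem single_centre (hodd : Odd (order P L)) (hall : AllHom H P L) {a : L} {Z : P} (hZ : Z ∈ a)
    (hZ1 : EC H Z a ≠ ⊥) (hsingle : ∀ W : P, W ∈ a → EC H W a ≠ ⊥ → W = Z) :
    ∃ M : L, Z ∈ M ∧ M ≠ a ∧ Nat.card (EC H Z M) = order P L ∧
      ∀ (g : H) (X : P) (c : L), IsHom g X c → X ∈ a → X ≠ Z → c = M := by
  obtain ⟨h₀, C₀, h0⟩ := hall.2 a
  have hZC : Z ≠ C₀ := fun e => h0.notMem (e ▸ hZ)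
  set M : L := join Z C₀
  have hMa : M ≠ a := fun e => h0.notMem (e ▸ join_right hZC)
  obtain ⟨τ₀, hτ₀, hτ₀1⟩ := exists_ec_ne_one hZ1
  have hall' : ∀ (g : H) (X : P) (c : L), IsHom g X c → X ∈ a → X ≠ Z → c = M := by
    intro g X c hg hX hXZ
    have hca : c ≠ a := fun e => hg.notMem (e ▸ hX)
    have hZc : Z ∈ c := by
      by_contra hZc
      have hτc : τ₀ • c ≠ c := fun e => hZc (ec_fixed_line hτ₀ hZ hτ₀1 e)
      have hg' : IsHom (τ₀ * g * τ₀⁻¹) X (τ₀ • c) := by
        have := hg.conj τ₀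
        rwa [hτ₀.1 X hX] at this
      have hm : (meet c (τ₀ • c) : P) = meet c a := by
        refine (eq_meet (Ne.symm hτc) (meet_left hca) ?_).symm
        have h1 := smul_mem τ₀ (meet_left (P := P) hca)
        rwa [hτ₀.1 _ (meet_right hca)] at h1
      have h := exists_ec_of_two_axes hg hg' (Ne.symm hτc)
      have hXR : X ≠ meet c a := fun e => hg.notMem (e ▸ meet_left hca)
      rw [hm, ← eq_join hXR hX (meet_right hca)] at h
      exact hXZ (hsingle X hX h)
    obtain ⟨C, ⟨h, hh⟩, hgC⟩ := exists_fixed_centre hodd h0 hg.sq (hg.smul_line hX)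
    have hCc : C ∈ c := (hg.fixed_iff.1 hgC).resolve_left fun e => hh.notMem (e ▸ hX)
    obtain ⟨τ, hτ, e⟩ := exists_elat_map h0.notMem hh.notMem h0.mem.1 (central_smul_point h0.mem.2) h0.ne_one
      hh.mem.1 (central_smul_point hh.mem.2) hh.ne_one
    have hCM : C ∈ M := by
      by_cases hτ1 : τ = 1
      · rw [← e, hτ1, one_smul]; exact join_right hZC
      obtain ⟨W, hW, hτW⟩ := exists_ec_of_elat hτ
      obtain rfl := hsingle W hW fun hb => hτ1 ((Subgroup.eq_bot_iff_forall _).1 hb τ hτW)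
      rw [← e, ← hτW.2 M (join_left hZC)]
      exact smul_mem τ (join_right hZC)
    exact line_eq (fun e' => hh.notMem (e' ▸ hZ) : C ≠ Z) hCc hZc hCM (join_left hZC)
  refine ⟨M, join_left hZC, hMa, Nat.le_antisymm (card_ec_le (join_left hZC)) ?_, hall'⟩
  obtain ⟨X₀, hX₀, hX₀Z⟩ := exists_mem_ne a Z
  obtain ⟨g₀, c₀, hg₀⟩ := hall.1 X₀
  have hg₀' : IsHom g₀ X₀ M := hall' g₀ X₀ c₀ hg₀ hX₀ hX₀Z ▸ hg₀
  have hτ : ∀ X : {q : P // q ∈ a ∧ q ≠ Z}, ∃ τ : EC H Z M, (τ : H) • X₀ = X.1 := by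
    rintro ⟨X, hX, hXZ⟩
    obtain ⟨g, c, hg⟩ := hall.1 X
    have hg' : IsHom g X M := hall' g X c hg hX hXZ ▸ hg
    by_cases hXX : X₀ = X
    · exact ⟨1, by simpa using hXX⟩
    obtain ⟨τ, hτ, e⟩ := exists_elat_map hg₀'.notMem hg'.notMem hg₀'.mem.1 (central_smul_point hg₀'.mem.2) hg₀'.ne_one
      hg'.mem.1 (central_smul_point hg'.mem.2) hg'.ne_one
    obtain ⟨W, hW, hτW⟩ := exists_ec_of_elat hτ
    have hW0 : W ≠ X₀ := fun e' => hg₀'.notMem (e' ▸ hW)
    have h1 : X ∈ (join W X₀ : L) := by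
      rw [← e, ← hτW.2 _ (join_left hW0)]
      exact smul_mem τ (join_right hW0)
    have hja : (join W X₀ : L) = a := line_eq hXX (join_right hW0) h1 hX₀ hX
    have hWZ : W = Z := point_eq hMa hW (hja ▸ join_left hW0) (join_left hZC) hZ
    exact ⟨⟨τ, hWZ ▸ hτW⟩, e⟩
  choose F hF using hτ
  rw [← card_mem_ne_point a hZ]
  exact Nat.card_le_card_of_injective F fun u v e => Subtype.ext (by rw [← hF u, ← hF v, e])

/-- The polarity case is impossible. -/
theorem exists_elation (hodd : Odd (order P L)) (hall : AllHom H P L) : ∃ (X : P) (a : L), X ∈ a ∧ EC H X a ≠ ⊥ := by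
  classical
  by_contra hno
  push Not at hno
  choose gc φ hφ using hall.2
  have huniq : ∀ (g g' : H) (C C' : P) (a : L), IsHom g C a → IsHom g' C' a → C = C' := by
    intro g g' C C' a h1 h2
    obtain ⟨τ, hτ, e⟩ := exists_elat_map h1.notMem h2.notMem h1.mem.1 (central_smul_point h1.mem.2) h1.ne_one
      h2.mem.1 (central_smul_point h2.mem.2) h2.ne_one
    obtain ⟨W, hW, hτW⟩ := exists_ec_of_elat hτ
    rw [← e, (Subgroup.eq_bot_iff_forall _).1 (hno W a hW) τ hτW, one_smul]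
  have hinj : Function.Injective φ := fun a b e => by
    by_contra hab
    refine exists_ec_of_two_axes (hφ a) (e ▸ hφ b) hab ?_
    refine hno _ _ (join_left fun e' => (hφ a).notMem ?_)
    rw [e']; exact meet_left hab
  have hbij : Function.Bijective φ := hinj.bijective_of_nat_card_le
    (by rw [nat_card_points (L := L), nat_card_lines (P := P)])
  have hsymm : ∀ a b : L, φ b ∈ a → φ a ∈ b := by
    intro a b hba
    have h1 := (hφ a).conj (gc b)
    rw [(hφ b).smul_line hba] at h1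
    rcases (hφ b).fixed_iff.1 (huniq _ _ _ _ _ h1 (hφ a)) with e | e
    · exact absurd hba (hinj e ▸ (hφ a).notMem)
    · exact e
  have := Fintype.ofFinite L
  set n := order P L
  obtain ⟨p, hp, hpn⟩ := Nat.exists_prime_and_dvd (n := n) (by have := one_lt_order P L; omega)
  have := Fact.mk hp
  have hn0 : (n : ZMod p) = 0 := (ZMod.natCast_eq_zero_iff n p).2 hpn
  let M : Matrix L L (ZMod p) := Matrix.of fun a b => if φ b ∈ a then 1 else 0
  let J : Matrix L L (ZMod p) := Matrix.of fun _ _ => 1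
  have hrow : ∀ (s : L → Prop) [DecidablePred s], ((Finset.univ.filter s).card : ZMod p) = Nat.card {b : L // s b} := fun s _ => by
    rw [Nat.card_eq_fintype_card, Fintype.card_subtype]
  have hline : ∀ a : L, Nat.card {b : L // φ b ∈ a} = n + 1 := fun a => by
    rw [← nat_card_mem_line (P := P) a]
    exact Nat.card_congr ((Equiv.ofBijective φ hbij).subtypeEquiv fun b => Iff.rfl)
  have hMM : M * M = J := by
    ext a c
    simp only [Matrix.mul_apply, M, J, Matrix.of_apply, ite_mul, one_mul, zero_mul, ← ite_and]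
    rw [Finset.sum_boole, hrow]
    rw [show Nat.card {b : L // φ b ∈ a ∧ φ c ∈ b} = Nat.card {b : L // φ b ∈ a ∧ φ b ∈ c} from
      Nat.card_congr (Equiv.subtypeEquivRight fun b => and_congr_right fun _ => ⟨hsymm b c, hsymm c b⟩)]
    by_cases hac : a = c
    · subst hac
      simp only [and_self, hline, Nat.cast_add, hn0, Nat.cast_one, zero_add]
    · have e1 : Nat.card {b : L // φ b ∈ a ∧ φ b ∈ c} = Nat.card {x : P // x ∈ a ∧ x ∈ c} :=
        Nat.card_congr ((Equiv.ofBijective φ hbij).subtypeEquiv fun b => Iff.rfl)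
      rw [e1,
        Nat.card_eq_one_iff_unique.2 ⟨⟨fun u v => Subtype.ext (point_eq hac u.2.1 u.2.2 v.2.1 v.2.2)⟩,
          ⟨⟨meet a c, meet_left hac, meet_right hac⟩⟩⟩, Nat.cast_one]
  have hMJ : M * J = J := by
    ext a c
    simp only [Matrix.mul_apply, M, J, Matrix.of_apply, mul_one]
    rw [Finset.sum_boole, hrow, hline, Nat.cast_add, hn0, Nat.cast_one, zero_add]
  have hpow : ∀ j : ℕ, M ^ (j + 2) = J := by
    intro j
    induction j with
    | zero => rw [Nat.zero_add, pow_two, hMM]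
    | succ j ih => rw [show j + 1 + 2 = (j + 2) + 1 by omega, pow_succ', ih, hMJ]
  have htr := ZMod.trace_pow_card (p := p) M
  obtain ⟨j, hj⟩ : ∃ j, p = j + 2 := ⟨p - 2, by have := hp.two_le; omega⟩
  have htrM : M.trace = 0 := Finset.sum_eq_zero fun a _ => by
    simp [Matrix.diag, M, (hφ a).notMem]
  rw [htrM, zero_pow hp.ne_zero] at htr
  have htrJ : J.trace = 1 := by
    simp only [Matrix.trace, Matrix.diag, J, Matrix.of_apply, Finset.sum_const, Finset.card_univ, nsmul_eq_mul, mul_one]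
    rw [← Nat.card_eq_fintype_card, nat_card_lines (P := P)]
    push_cast
    rw [show ((order P L : ℕ) : ZMod p) = 0 from hn0]
    simp
  rw [show M ^ p = J from hj ▸ hpow j, htrJ] at htr
  exact one_ne_zero htr

/-- Given a single centre on some axis, a translation line or point exists. -/
theorem hasFull_of_single (hodd : Odd (order P L)) (hall : AllHom H P L) {a : L} {Z : P} (hZ : Z ∈ a)
    (hZ1 : EC H Z a ≠ ⊥) (hsingle : ∀ W : P, W ∈ a → EC H W a ≠ ⊥ → W = Z) : HasFull H P L := by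
  by_contra hfull
  have := faithful_dual (G := H) (P := P) (L := L)
  have hn := one_lt_order P L
  have hne : ∀ {X : P} {b : L}, Nat.card (EC H X b) = order P L → EC H X b ≠ ⊥ := fun h e => by
    rw [e, Subgroup.card_bot] at h; omega
  obtain ⟨M, hZM, hMa, hMn, -⟩ := single_centre hodd hall hZ hZ1 hsingle
  obtain ⟨W₀, hW₀, hW₀Z, hW₀1⟩ : ∃ W : P, W ∈ M ∧ W ≠ Z ∧ EC H W M ≠ ⊥ := by
    by_contra hcon
    push Not at hcon
    obtain ⟨M', hZM', hM'M, hM'n, -⟩ := single_centre hodd hall hZM (hne hMn)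
      fun W hW h => by_contra fun e => h (hcon W hW e)
    exact hfull (hasFull_of_two_axes hZM hZM' hM'M.symm hMn hM'n)
  have hgoodM : ∀ W : P, W ∈ M → EC H W M ≠ ⊥ := fun W hW =>
    ec_ne_bot_of_two hall hW₀ hZM hW₀Z hW₀1 (hne hMn) hW
  have hWsingle : ∀ W : P, W ∈ M → W ≠ Z → ∀ b : L, W ∈ b → EC H W b ≠ ⊥ → b = M := by
    intro W hW hWZ b hb hWb
    by_contra hbM
    obtain ⟨e, he, he1⟩ := exists_ec_ne_one hWb
    have hZb : Z ∉ b := fun h => hbM (line_eq hWZ hb h hW hZM)
    have hmove := ec_free he hb he1 hZb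
    have heM : e • M = M := he.2 M hW
    refine hfull (hasFull_of_two_centres (a := M) (X := e • Z) (Y := Z) ?_ hZM hmove ?_ hMn)
    · exact (mem_iff_of_fixed heM).2 hZM
    · conv_lhs => rw [← heM]
      rw [card_ec_smul, hMn]
  have haxes : ∀ d : L, d ≠ M → ∃ (g : H) (Y : P), IsHom g Y d ∧ Y ∈ M := by
    intro d hd
    obtain ⟨g, D, hg⟩ := hall.2 d
    by_cases hZd : Z ∈ d
    · refine ⟨g, D, hg, by_contra fun hD => ?_⟩
      have hgZ : g • Z = Z := hg.mem.1 Z hZd
      have hgM : g • M ≠ M := fun e => by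
        rcases hg.fixed_line e with h | h
        · exact hd h.symm
        · exact hD h
      refine hfull (hasFull_of_two_axes (X := Z) (a := g • M) (b := M) ?_ hZM hgM ?_ hMn)
      · have := smul_mem g hZM; rwa [hgZ] at this
      · conv_lhs => rw [← hgZ]
        rw [card_ec_smul, hMn]
    · set W : P := meet d M
      have hW : W ∈ M := meet_right hd
      have hWZ : W ≠ Z := fun e => hZd (e ▸ meet_left hd)
      obtain ⟨Q, hQ, hQW, hQn, hQu⟩ := single_centre (P := Dual L) (L := Dual P) (by rwa [Dual.order P L]) hall.dual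
        (a := W) (Z := M) hW (ec_dual_ne (hgoodM W hW)) (fun b hb h => hWsingle W hW hWZ b hb (ec_dual_ne' (P := P) (L := L) h))
      have hQn' : Nat.card (EC H (Q : P) M) = order P L := by
        exact ((card_ec_dual (H := H) (P := P) (L := L) Q M).symm.trans hQn).trans (Dual.order P L)
      have hQZ : (Q : P) = Z := by_contra fun hne' => hfull (hasFull_of_two_centres hQ hZM hne' hQn' hMn)
      have hDQ : D = Q := hQu g d D hg.dual (meet_left hd) hd
      exact ⟨g, D, hg, by rw [hDQ]; exact hQ⟩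
  obtain ⟨h₀, C₀, h0⟩ := hall.2 M
  obtain ⟨τ, hτ, hτ1⟩ := exists_ec_ne_one (hne hMn)
  exact hfull (.inl ⟨M, card_elat_of_axes hodd ⟨τ, ec_le_elat hZM hτ, hτ1⟩ h0 haxes⟩)

theorem hasFull_of_allHom (hodd : Odd (order P L)) (hall : AllHom H P L) : HasFull H P L := by
  by_contra hfull
  have := faithful_dual (G := H) (P := P) (L := L)
  have two : ∀ {X : P} {a : L}, X ∈ a → EC H X a ≠ ⊥ → ∃ Y : P, Y ∈ a ∧ Y ≠ X ∧ EC H Y a ≠ ⊥ := fun hX h1 => by
    by_contra hc
    push Not at hc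
    exact hfull (hasFull_of_single hodd hall hX h1 fun W hW hW1 => by_contra fun e => hW1 (hc W hW e))
  have two' : ∀ {X : P} {a : L}, X ∈ a → EC H X a ≠ ⊥ → ∃ b : L, X ∈ b ∧ b ≠ a ∧ EC H X b ≠ ⊥ := fun {X a} hX h1 => by
    by_contra hc
    push Not at hc
    refine hfull (HasFull.of_dual (hasFull_of_single (P := Dual L) (L := Dual P) (by rwa [Dual.order P L]) hall.dual
      (a := X) (Z := a) hX (ec_dual_ne h1) fun b hb hb1 => by_contra fun e => ec_dual_ne' (P := P) (L := L) hb1 (hc b hb e)))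
  have good : ∀ {X : P} {a : L}, X ∈ a → EC H X a ≠ ⊥ → ∀ Y : P, Y ∈ a → EC H Y a ≠ ⊥ := fun hX h1 Y hY => by
    obtain ⟨Z, hZ, hne, hZ1⟩ := two hX h1
    exact ec_ne_bot_of_two hall hX hZ hne.symm h1 hZ1 hY
  have good' : ∀ {X : P} {a : L}, X ∈ a → EC H X a ≠ ⊥ → ∀ b : L, X ∈ b → EC H X b ≠ ⊥ := fun {X a} hX h1 b hb => by
    obtain ⟨c, hc, hne, hc1⟩ := two' hX h1
    have := ec_ne_bot_of_two (P := Dual L) (L := Dual P) hall.dual (a := X) (X := a) (Y := c) (Z := b) hX hc hne.symm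
      (ec_dual_ne h1) (ec_dual_ne hc1) hb
    rwa [ec_dual] at this
  obtain ⟨X₀, a, hX₀, h₀⟩ := exists_elation hodd hall
  obtain ⟨Y₀, hY₀, hne₀, hY₀1⟩ := two hX₀ h₀
  obtain ⟨p, hp, hexp⟩ := exists_prime_exponent hne₀.symm hX₀ hY₀ h₀ hY₀1
  have := Fact.mk hp
  let Ω := {x : P // x ∈ a}
  let _ : MulAction (stabilizer H a) Ω :=
    { smul := fun g x => ⟨(g : H) • x.1, (mem_iff_of_fixed g.2).2 x.2⟩
      one_smul := fun x => Subtype.ext (one_smul H x.1)
      mul_smul := fun g g' x => Subtype.ext (mul_smul (g : H) (g' : H) x.1) }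
  have hfix : ∀ x : Ω, ∃ g : stabilizer H a, g ^ p = 1 ∧ g • x = x ∧ ∀ y, g • y = y → y = x := by
    rintro ⟨X, hX⟩
    have hXa := good hX₀ h₀ X hX
    obtain ⟨b, hb, hba, hb1⟩ := two' hX hXa
    obtain ⟨q, hq, hexq⟩ := exists_prime_exponent (P := Dual L) (L := Dual P) (a := X) (X := a) (Y := b) hba.symm hX hb
      (ec_dual_ne hXa) (ec_dual_ne hb1)
    obtain ⟨τ, hτ, hτ1⟩ := exists_ec_ne_one hXa
    have hpq : p = q := by
      have o1 : orderOf τ = p := orderOf_eq_prime (hexp τ (ec_le_elat hX hτ)) hτ1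
      have o2 : orderOf τ = q :=
        haveI := Fact.mk hq
        orderOf_eq_prime (hexq τ (ec_le_elat (P := Dual L) (L := Dual P) hX (by rwa [ec_dual]))) hτ1
      rw [← o1, o2]
    obtain ⟨e, he, he1⟩ := exists_ec_ne_one hb1
    refine ⟨⟨e, he.2 a hX⟩, Subtype.ext ?_, Subtype.ext (he.1 X hb), fun y hy => Subtype.ext ?_⟩
    · rw [SubmonoidClass.coe_pow, hpq]
      exact hexq e (ec_le_elat (P := Dual L) (L := Dual P) hb (by rwa [ec_dual]))
    · by_contra hyX
      exact ec_free he hb he1 (fun hyb => hyX (point_eq hba hyb y.2 hb hX)) (congrArg Subtype.val hy)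
  refine hfull (.inl ⟨a, card_elat_eq_sq (h := Nat.card (EC H X₀ a)) ?_ fun X hX => ?_⟩)
  · have : Nontrivial (EC H X₀ a) := (Subgroup.nontrivial_iff_ne_bot _).2 h₀
    exact Finite.one_lt_card
  · obtain ⟨g, hg⟩ := pretransitive_of_unique_fixed hfix (⟨X₀, hX₀⟩ : Ω) ⟨X, hX⟩
    have hga : (g : H) • a = a := g.2
    have hgX : (g : H) • X₀ = X := congrArg Subtype.val hg
    calc Nat.card (EC H X a) = Nat.card (EC H ((g : H) • X₀) ((g : H) • a)) := by rw [hgX, hga]
      _ = Nat.card (EC H X₀ a) := card_ec_smul (g : H) X₀ a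

/-- A plane of odd order with enough involutory homologies has a translation line or point. -/
theorem hasFull_of_pairHom (hodd : Odd (order P L)) (hp : PairHom H P L) (hl : PairHom H (Dual L) (Dual P)) :
    HasFull H P L := by
  have := faithful_dual (G := H) (P := P) (L := L)
  have fixed : ((∃ a : L, ∀ g : H, g • a = a) ∨ ∃ X : P, ∀ g : H, g • X = X) → HasFull H P L := by
    rintro (⟨a, ha⟩ | ⟨X, hX⟩)
    · exact .inl ⟨a, card_elat_of_fixed_line hodd hp ha⟩
    · refine .inr ⟨X, ?_⟩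
      rw [← Dual.order P L]
      exact card_elat_of_fixed_line (P := Dual L) (L := Dual P) (by rwa [Dual.order P L]) hl hX
  by_cases hc : ∀ X : P, ∃ (g : H) (c : L), IsHom g X c
  · by_cases ha : ∀ a : L, ∃ (g : H) (C : P), IsHom g C a
    · exact hasFull_of_allHom hodd ⟨hc, ha⟩
    · push Not at ha
      obtain ⟨a, ha⟩ := ha
      rcases exists_fixed_of_not_centre (P := Dual L) (L := Dual P) hl hp (U₀ := a)
        (fun g C hg => ha g C (IsHom.of_dual (P := P) (L := L) hg)) with ⟨X, hX⟩ | ⟨b, hb⟩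
      · exact fixed (.inr ⟨X, hX⟩)
      · exact fixed (.inl ⟨b, hb⟩)
  · push Not at hc
    obtain ⟨U, hU⟩ := hc
    exact fixed (exists_fixed_of_not_centre hp hl hU)

theorem isPrimePow_of_card_elat {a : L} (ha : Nat.card (Elat H P a) = order P L ^ 2) : IsPrimePow (order P L) := by
  classical
  have hn := one_lt_order P L
  obtain ⟨τ, hτ, hτ1⟩ : ∃ τ ∈ Elat H P a, τ ≠ 1 := by
    by_contra hc
    push Not at hc
    rw [(Subgroup.eq_bot_iff_forall _).2 hc, Subgroup.card_bot] at ha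
    nlinarith
  obtain ⟨X, hX, hτX⟩ := exists_ec_of_elat hτ
  obtain ⟨Y, hY, hYX, hY1⟩ : ∃ Y : P, Y ∈ a ∧ Y ≠ X ∧ EC H Y a ≠ ⊥ := by
    by_contra hc
    push Not at hc
    have hle : Nat.card (Elat H P a) ≤ Nat.card (EC H X a) := by
      refine Subgroup.card_le_of_le fun σ hσ => ?_
      obtain ⟨W, hW, hσW⟩ := exists_ec_of_elat hσ
      by_cases hWX : W = X
      · exact hWX ▸ hσW
      · rw [(Subgroup.eq_bot_iff_forall _).1 (hc W hW hWX) σ hσW]; exact one_mem _
    have := card_ec_le (H := H) (X := X) (a := a) hX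
    rw [ha] at hle
    nlinarith
  obtain ⟨p, hp, hexp⟩ := exists_prime_exponent hYX.symm hX hY (fun e => hτ1 ((Subgroup.eq_bot_iff_forall _).1 e τ hτX)) hY1
  have := Fact.mk hp
  obtain ⟨j, hj⟩ := IsPGroup.iff_card.1 (fun σ => ⟨1, Subtype.ext (by simpa using hexp σ.1 σ.2)⟩ : IsPGroup p (Elat H P a))
  rw [ha] at hj
  obtain ⟨i, -, hi⟩ := (Nat.dvd_prime_pow hp).1 (hj ▸ dvd_pow_self (order P L) two_ne_zero)
  exact (isPrimePow_nat_iff _).2 ⟨p, i, hp, Nat.pos_of_ne_zero fun e => by rw [hi, e, pow_zero] at hn; omega, hi.symm⟩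

/-- A plane with a translation line or point has prime power order. -/
theorem isPrimePow_of_hasFull (h : HasFull H P L) : IsPrimePow (order P L) := by
  have := faithful_dual (G := H) (P := P) (L := L)
  rcases h with ⟨a, ha⟩ | ⟨X, hX⟩
  · exact isPrimePow_of_card_elat ha
  · rw [← Dual.order P L]
    exact isPrimePow_of_card_elat (P := Dual L) (L := Dual P) (a := X) (by rwa [Dual.order P L])

end

end CfsgLib.Plane
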