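import Cfsg.Agent.Lib.Plane.Basic
import Mathlib.GroupTheory.OrderOfElement
import Mathlib.Data.Nat.Prime.Basic
import Mathlib.Tactic.Linarith

/-!
Perspectivities of finite projective planes: axes, centres, elation groups, the theorem of André
on homologies with a common axis, and the counting argument of Gleason.
-/

set_option autoImplicit false

namespace CfsgLib.Plane

open Configuration Configuration.ProjectivePlane MulAction

section

variable {G : Type*} [Group G] {P L : Type*} [Membership P L] [MulAction G P] [MulAction G L] [IsColl G P L]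

variable (G) in
/-- The collineations fixing every point of the line `a`. -/
def Axial (a : L) : Subgroup G where
  carrier := {g | ∀ p : P, p ∈ a → g • p = p}
  one_mem' p _ := one_smul G p
  mul_mem' {g h} hg hh p hp := by rw [mul_smul, hh p hp, hg p hp]
  inv_mem' {g} hg p hp := by rw [inv_smul_eq_iff, hg p hp]

variable (G) in
/-- The collineations fixing every line through the point `X`. -/
def Central (X : P) : Subgroup G where
  carrier := {g | ∀ l : L, X ∈ l → g • l = l}
  one_mem' l _ := one_smul G l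
  mul_mem' {g h} hg hh l hl := by rw [mul_smul, hh l hl, hg l hl]
  inv_mem' {g} hg l hl := by rw [inv_smul_eq_iff, hg l hl]

theorem mem_axial {g : G} {a : L} : g ∈ Axial G (P := P) a ↔ ∀ p : P, p ∈ a → g • p = p := Iff.rfl

theorem mem_central {g : G} {X : P} : g ∈ Central G (L := L) X ↔ ∀ l : L, X ∈ l → g • l = l := Iff.rfl

theorem central_eq_axial_dual (X : P) :
    Central G (L := L) X = Axial G (P := Dual L) (L := Dual P) X := rfl

theorem conj_mem_axial {g τ : G} {a : L} (hτ : τ ∈ Axial G (P := P) a) :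
    g * τ * g⁻¹ ∈ Axial G (P := P) (g • a) := fun p hp => by
  rw [mul_smul, mul_smul, hτ _ ((mem_smul_iff g).1 hp), smul_inv_smul]

theorem conj_mem_central {g τ : G} {X : P} (hτ : τ ∈ Central G (L := L) X) :
    g * τ * g⁻¹ ∈ Central G (L := L) (g • X) :=
  conj_mem_axial (P := Dual L) (L := Dual P) hτ

variable [ProjectivePlane P L]

theorem axial_smul_line {g : G} {a : L} [Finite P] [Finite L] (hg : g ∈ Axial G (P := P) a) : g • a = a := by
  obtain ⟨x, hx, -⟩ := exists_mem_ne a (Classical.choose (ProjectivePlane.exists_config (P := P) (L := L)))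
  obtain ⟨y, hy, hyx⟩ := exists_mem_ne a x
  exact smul_line_eq g hyx hy hx (hg y hy) (hg x hx)

theorem central_smul_point {g : G} {X : P} [Finite P] [Finite L] (hg : g ∈ Central G (L := L) X) : g • X = X :=
  axial_smul_line (P := Dual L) (L := Dual P) hg

/-- A point fixed by an axial collineation and off its axis is a centre. -/
theorem mem_central_of_fixed {g : G} {a : L} {C : P} (hg : g ∈ Axial G (P := P) a) (hC : C ∉ a)
    (hgC : g • C = C) : g ∈ Central G (L := L) C := fun l hl => by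
  have hla : l ≠ a := fun h => hC (h ▸ hl)
  have hne : C ≠ meet l a := fun h => hC (h ▸ meet_right hla)
  exact smul_line_eq g hne hl (meet_left hla) hgC (hg _ (meet_right hla))

/-- An axial collineation fixing two points off the axis is trivial. -/
theorem eq_one_of_two_fixed [Finite P] [Finite L] [FaithfulSMul G P] {g : G} {a : L} {C D : P}
    (hg : g ∈ Axial G (P := P) a) (hC : C ∉ a) (hD : D ∉ a) (hCD : C ≠ D) (hgC : g • C = C) (hgD : g • D = D) :
    g = 1 := by
  refine eq_one_of_forall_fixed (P := P) fun q => ?_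
  have cC := mem_central_of_fixed hg hC hgC
  have cD := mem_central_of_fixed hg hD hgD
  by_cases hqa : q ∈ a
  · exact hg q hqa
  have key : ∀ r : P, r ∉ (join C D : L) → g • r = r := by
    intro r hr
    have h1 : r ≠ C := fun h => hr (by rw [h]; exact join_left hCD)
    have h2 : r ≠ D := fun h => hr (by rw [h]; exact join_right hCD)
    refine smul_point_eq g (l := (join r C : L)) (m := (join r D : L)) ?_ (join_left h1) (join_left h2)
      (cC _ (join_right h1)) (cD _ (join_right h2))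
    intro he
    have h3 : D ∈ (join r C : L) := he ▸ join_right h2
    have h4 : (join r C : L) = join C D := eq_join hCD (join_right h1) h3
    exact hr (h4 ▸ join_left h1)
  by_cases hq : q ∈ (join C D : L)
  · obtain ⟨E, hEa, hE⟩ := exists_not_mem_not_mem (P := P) a (join C D : L)
    have cE := mem_central_of_fixed hg hEa (key E hE)
    have hqE : q ≠ E := fun h => hE (h ▸ hq)
    refine smul_point_eq g (l := (join C D : L)) (m := (join q E : L)) ?_ hq (join_left hqE)
      (cC _ (join_left hCD)) (cE _ (join_right hqE))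
    intro he
    exact hE (he ▸ join_right hqE)
  · exact key q hq

/-- A nontrivial collineation has at most one centre. -/
theorem centre_unique [Finite P] [Finite L] [FaithfulSMul G P] {g : G} {X Y : P}
    (hX : g ∈ Central G (L := L) X) (hY : g ∈ Central G (L := L) Y) (hne : g ≠ 1) : X = Y := by
  by_contra hXY
  refine hne (eq_one_of_forall_fixed (P := P) fun q => ?_)
  set j : L := join X Y
  have hfix : ∀ r : P, r ∉ j → g • r = r := by
    intro r hr
    have h1 : r ≠ X := fun h => hr (h ▸ join_left hXY)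
    have h2 : r ≠ Y := fun h => hr (h ▸ join_right hXY)
    refine smul_point_eq g (l := (join r X : L)) (m := (join r Y : L)) ?_ (join_left h1) (join_left h2)
      (hX _ (join_right h1)) (hY _ (join_right h2))
    intro he
    have h3 : Y ∈ (join r X : L) := he ▸ join_right h2
    have h4 : (join r X : L) = j := eq_join hXY (join_right h1) h3
    exact hr (h4 ▸ join_left h1)
  by_cases hq : q ∈ j
  · have hl : ∀ l : L, q ∈ l → l ≠ j → g • l = l := by
      intro l hql hlj
      obtain ⟨u, hu, huq⟩ := exists_mem_ne l q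
      obtain ⟨w, hw, hwq, hwu⟩ := exists_mem_ne_ne l q u
      have off : ∀ z : P, z ∈ l → z ≠ q → z ∉ j := fun z hz hzq h => hzq (point_eq hlj hz h hql hq)
      exact smul_line_eq g hwu hw hu (hfix _ (off w hw hwq)) (hfix _ (off u hu huq))
    obtain ⟨l, hql, hlj⟩ := exists_line_mem_ne q j
    obtain ⟨m, hqm, hmj, hml⟩ := exists_line_mem_ne_ne q j l
    exact smul_point_eq g hml hqm hql (hl m hqm hmj) (hl l hql hlj)
  · exact hfix q hq

/-- An axial collineation without fixed points off the axis has a centre on the axis. -/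
theorem exists_centre_on_axis [Finite P] [Finite L] {g : G} {a : L}
    (hg : g ∈ Axial G (P := P) a) (hfree : ∀ p : P, p ∉ a → g • p ≠ p) :
    ∃ X : P, X ∈ a ∧ g ∈ Central G (L := L) X := by
  obtain ⟨p, hp⟩ := exists_point_not_mem (P := P) a
  have hga := axial_smul_line hg
  have step : ∀ q : P, q ∉ a → g • (join (g • q) q : L) = join (g • q) q ∧ (join (g • q) q : L) ≠ a := by
    intro q hq
    have hne := hfree q hq
    have hja : (join (g • q) q : L) ≠ a := fun h => hq (h ▸ join_right hne)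
    have hgq : g • q ∉ a := fun h => hq ((mem_iff_of_fixed hga).1 h)
    have hY : g • q ≠ meet (join (g • q) q : L) a := fun h => hgq (h ▸ meet_right hja)
    refine ⟨line_eq hY (smul_mem g (join_right hne)) ?_ (join_left hne) (meet_left hja), hja⟩
    have := smul_mem g (meet_left (P := P) hja)
    rwa [hg _ (meet_right hja)] at this
  obtain ⟨hm, hma⟩ := step p hp
  set m : L := join (g • p) p
  refine ⟨meet m a, meet_right hma, fun l hl => ?_⟩
  rcases eq_or_ne l a with rfl | hla
  · exact hga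
  rcases eq_or_ne l m with rfl | hlm
  · exact hm
  obtain ⟨q, hq, hqX⟩ := exists_mem_ne l (meet m a : P)
  have hqa : q ∉ a := fun h => hqX (point_eq hla hq h hl (meet_right hma))
  have hqm : q ∉ m := fun h => hqX (point_eq hlm hq h hl (meet_left hma))
  obtain ⟨hn, hna⟩ := step q hqa
  set n : L := join (g • q) q
  have hnm : n ≠ m := fun h => hqm (h ▸ join_right (hfree q hqa))
  have hfix : g • (meet n m : P) = meet n m := smul_point_eq g hnm (meet_left hnm) (meet_right hnm) hn hm
  have hZ : (meet n m : P) ∈ a := by_contra fun h => hfree _ h hfix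
  have hZX : (meet n m : P) = meet m a := point_eq hma (meet_right hnm) hZ (meet_left hma) (meet_right hma)
  have : n = l := line_eq hqX (join_right (hfree q hqa)) (hZX ▸ meet_left hnm) hq hl
  rw [← this]; exact hn

variable (G) in
/-- The elations with centre `X` and axis `a`. -/
def EC (X : P) (a : L) : Subgroup G := Axial G (P := P) a ⊓ Central G (L := L) X

theorem mem_ec {g : G} {X : P} {a : L} :
    g ∈ EC G X a ↔ g ∈ Axial G (P := P) a ∧ g ∈ Central G (L := L) X := Iff.rfl

theorem ec_dual (X : P) (a : L) : EC G (P := Dual L) (L := Dual P) a X = EC G X a := inf_comm _ _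

theorem conj_mem_ec {g τ : G} {X : P} {a : L} (hτ : τ ∈ EC G X a) : g * τ * g⁻¹ ∈ EC G (g • X) (g • a) :=
  ⟨conj_mem_axial hτ.1, conj_mem_central hτ.2⟩

theorem card_ec_smul [Finite G] (g : G) (X : P) (a : L) : Nat.card (EC G (g • X) (g • a)) = Nat.card (EC G X a) := by
  refine Nat.card_congr
    { toFun := fun τ => ⟨g⁻¹ * τ.1 * g, ?_⟩
      invFun := fun τ => ⟨g * τ.1 * g⁻¹, conj_mem_ec τ.2⟩
      left_inv := fun τ => by ext; simp [mul_assoc]
      right_inv := fun τ => by ext; simp [mul_assoc] }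
  simpa using conj_mem_ec (g := g⁻¹) τ.2

variable [Finite P] [Finite L] [FaithfulSMul G P]

/-- A nontrivial elation fixes no point off its axis. -/
theorem ec_free {g : G} {X : P} {a : L} (hg : g ∈ EC G X a) (hX : X ∈ a) (hne : g ≠ 1) {p : P} (hp : p ∉ a) :
    g • p ≠ p := fun h => by
  have := centre_unique hg.2 (mem_central_of_fixed hg.1 hp h) hne
  exact hp (this ▸ hX)

/-- A nontrivial elation fixes exactly the lines through its centre. -/
theorem ec_fixed_line {g : G} {X : P} {a : L} (hg : g ∈ EC G X a) (hX : X ∈ a) (hne : g ≠ 1) {l : L}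
    (hl : g • l = l) : X ∈ l := by
  by_contra h
  have := faithful_dual (G := G) (P := P) (L := L)
  exact ec_free (P := Dual L) (L := Dual P) (g := g) (X := a) (a := X) ⟨hg.2, hg.1⟩ hX hne h hl

theorem eq_one_of_ec_ec {g : G} {X Y : P} {a : L} (hX : g ∈ EC G X a) (hY : g ∈ EC G Y a) (hXY : X ≠ Y) : g = 1 :=
  by_contra fun hne => hXY (centre_unique hX.2 hY.2 hne)

variable (G P) in
/-- The elations with axis `a`. -/
def Elat (a : L) : Subgroup G where
  carrier := {g | g = 1 ∨ g ∈ Axial G (P := P) a ∧ ∀ p : P, p ∉ a → g • p ≠ p}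
  one_mem' := .inl rfl
  inv_mem' {g} hg := by
    rcases hg with rfl | ⟨h1, h2⟩
    · exact .inl inv_one
    · exact .inr ⟨inv_mem h1, fun p hp h => h2 p hp (by rw [inv_smul_eq_iff] at h; exact h.symm)⟩
  mul_mem' {g h} hg hh := by
    rcases hg with rfl | ⟨g1, g2⟩
    · rwa [one_mul]
    rcases hh with rfl | ⟨h1, h2⟩
    · rw [mul_one]; exact .inr ⟨g1, g2⟩
    by_cases hgh : g * h = 1
    · exact .inl hgh
    refine .inr ⟨mul_mem g1 h1, fun p hp hfix => ?_⟩
    obtain ⟨X, hX, gX⟩ := exists_centre_on_axis g1 g2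
    obtain ⟨Y, hY, hY'⟩ := exists_centre_on_axis h1 h2
    rw [mul_smul] at hfix
    have hXp : X ≠ p := fun e => hp (e ▸ hX)
    have hYp : Y ≠ p := fun e => hp (e ▸ hY)
    set q := h • p with hq
    have hqp : q ≠ p := h2 p hp
    have e1 : q ∈ (join Y p : L) := by
      have h' := smul_mem h (join_right (L := L) hYp)
      rwa [hY' _ (join_left hYp)] at h'
    have e2 : q ∈ (join X p : L) := by
      have h' := smul_mem g⁻¹ (join_right (L := L) hXp)
      rw [inv_smul_eq_iff.2 (gX _ (join_left hXp)).symm] at h'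
      rwa [show g⁻¹ • p = q by rw [inv_smul_eq_iff, hfix]] at h'
    have e3 : (join Y p : L) = join X p := line_eq hqp e1 (join_right hYp) e2 (join_right hXp)
    have hXY : X = Y := by
      refine point_eq (fun e : (join X p : L) = a => hp (e ▸ join_right hXp)) (join_left hXp) hX ?_ hY
      rw [← e3]; exact join_left hYp
    subst hXY
    have hc : g * h ∈ Central G (L := L) p := mem_central_of_fixed (mul_mem g1 h1) hp (by rwa [mul_smul])
    exact hgh (by_contra fun hne => hXp (centre_unique (mul_mem gX hY') hc hne))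

theorem elat_le_axial {a : L} {g : G} (hg : g ∈ Elat G P a) : g ∈ Axial G (P := P) a := by
  rcases hg with rfl | hg
  · exact one_mem _
  · exact hg.1

theorem elat_free {a : L} {g : G} (hg : g ∈ Elat G P a) (hne : g ≠ 1) {p : P} (hp : p ∉ a) : g • p ≠ p :=
  (hg.resolve_left hne).2 p hp

theorem ec_le_elat {X : P} {a : L} (hX : X ∈ a) : EC G X a ≤ Elat G P a := fun g hg => by
  by_cases hne : g = 1
  · exact .inl hne
  · exact .inr ⟨hg.1, fun p hp => ec_free hg hX hne hp⟩

theorem exists_ec_of_elat {a : L} {g : G} (hg : g ∈ Elat G P a) : ∃ X : P, X ∈ a ∧ g ∈ EC G X a := by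
  rcases hg with rfl | hg
  · obtain ⟨x, hx, -⟩ := exists_mem_ne a (Classical.choose (ProjectivePlane.exists_config (P := P) (L := L)))
    exact ⟨x, hx, one_mem _⟩
  · obtain ⟨X, hX, h⟩ := exists_centre_on_axis hg.1 hg.2
    exact ⟨X, hX, hg.1, h⟩

theorem conj_mem_elat {g τ : G} {a : L} (hτ : τ ∈ Elat G P a) : g * τ * g⁻¹ ∈ Elat G P (g • a) := by
  obtain ⟨X, hX, h⟩ := exists_ec_of_elat hτ
  exact ec_le_elat (smul_mem g hX) (conj_mem_ec h)

theorem elat_stab_eq_bot {a : L} {p : P} (hp : p ∉ a) {τ σ : G} (hτ : τ ∈ Elat G P a) (hσ : σ ∈ Elat G P a)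
    (h : τ • p = σ • p) : τ = σ := by
  by_contra hne
  refine elat_free (mul_mem (inv_mem hσ) hτ) (fun e => hne (inv_mul_eq_one.1 e).symm) hp ?_
  rw [mul_smul, h, inv_smul_smul]

/-- The group of elations with a given axis acts semiregularly off it. -/
theorem card_elat_dvd [Finite G] (a : L) : Nat.card (Elat G P a) ∣ order P L ^ 2 := by
  classical
  let T := Elat G P a
  let Ω := {p : P // p ∉ a}
  letI : MulAction T Ω :=
    { smul := fun τ p => ⟨(τ : G) • p.1, fun h => p.2 ((mem_iff_of_fixed (axial_smul_line (elat_le_axial τ.2))).1 h)⟩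
      one_smul := fun p => Subtype.ext (one_smul G p.1)
      mul_smul := fun g h p => Subtype.ext (mul_smul (g : G) (h : G) p.1) }
  have hstab : ∀ p : Ω, stabilizer T p = ⊥ := fun p => by
    rw [Subgroup.eq_bot_iff_forall]
    intro τ hτ
    refine Subtype.ext (elat_stab_eq_bot p.2 τ.2 (one_mem T) ?_)
    exact (congrArg Subtype.val hτ).trans (one_smul G p.1).symm
  have := Fintype.ofFinite (orbitRel.Quotient T Ω)
  have := Fintype.ofFinite Ω
  rw [← nat_card_not_mem_line a, Nat.card_congr (selfEquivSigmaOrbits T Ω), Nat.card_sigma]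
  refine Finset.dvd_sum fun ω _ => ?_
  have := Fintype.ofFinite T
  have h := card_orbit_mul_card_stabilizer_eq_card_group T ω.out
  simp only [← Nat.card_eq_fintype_card] at h
  rw [hstab, Subgroup.card_bot, mul_one] at h
  exact dvd_of_eq h.symm

/-- André: centres of nontrivial homologies with a common axis are permuted transitively by its elations. -/
theorem exists_elat_map [Finite G] {a : L} {C D : P} (hC : C ∉ a) (hD : D ∉ a) {g h : G}
    (hg : g ∈ Axial G (P := P) a) (hgC : g • C = C) (hg1 : g ≠ 1)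
    (hh : h ∈ Axial G (P := P) a) (hhD : h • D = D) (hh1 : h ≠ 1) :
    ∃ τ ∈ Elat G P a, τ • C = D := by
  classical
  let W := Axial G (P := P) a
  let Ω := {p : P // p ∉ a}
  letI : MulAction W Ω :=
    { smul := fun τ p => ⟨(τ : G) • p.1, fun h => p.2 ((mem_iff_of_fixed (axial_smul_line τ.2)).1 h)⟩
      one_smul := fun p => Subtype.ext (one_smul G p.1)
      mul_smul := fun g h p => Subtype.ext (mul_smul (g : G) (h : G) p.1) }
  have := Fintype.ofFinite W
  have := Fintype.ofFinite Ω
  set T := Nat.card (Elat G P a) with hTdef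
  -- every element is an elation or fixes exactly one point
  have hB : ∑ p : Ω, Nat.card {w : W // w • p = p ∧ (w : G) ≠ 1} = Nat.card {w : W // (w : G) ∉ Elat G P a} := by
    rw [← Nat.card_sigma]
    refine Nat.card_congr (Equiv.ofBijective (fun x => ⟨x.2.1, fun hm => elat_free hm x.2.2.2 x.1.2 (congrArg Subtype.val x.2.2.1)⟩) ⟨?_, ?_⟩)
    · rintro ⟨p, w, hw⟩ ⟨q, w', hw'⟩ e
      obtain rfl : w = w' := congrArg Subtype.val e
      obtain rfl : p = q := Subtype.ext <| by
        by_contra hne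
        exact hw.2 (eq_one_of_two_fixed w.2 p.2 q.2 hne (congrArg Subtype.val hw.1) (congrArg Subtype.val hw'.1))
      rfl
    · rintro ⟨w, hw⟩
      have hw1 : (w : G) ≠ 1 := fun e => hw (e ▸ one_mem _)
      obtain ⟨p, hp, hfix⟩ : ∃ p : P, p ∉ a ∧ (w : G) • p = p := by
        by_contra hne
        push Not at hne
        exact hw (.inr ⟨w.2, hne⟩)
      exact ⟨⟨⟨p, hp⟩, ⟨w, Subtype.ext hfix, hw1⟩⟩, rfl⟩
  have hW : Nat.card {w : W // (w : G) ∉ Elat G P a} + T = Nat.card W := by
    rw [← Nat.card_congr (Equiv.sumCompl (fun w : W => (w : G) ∈ Elat G P a)), Nat.card_sum, add_comm]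
    congr 1
    exact Nat.card_congr
      { toFun := fun w => ⟨⟨w.1, elat_le_axial w.2⟩, w.2⟩
        invFun := fun w => ⟨w.1.1, w.2⟩ }
  set f : Ω → ℕ := fun p => Nat.card {w : W // w • p = p ∧ (w : G) ≠ 1} with hf
  have hfS : ∀ p : Ω, f p + 1 = Nat.card (stabilizer W p) := by
    intro p
    rw [← Nat.card_congr (Equiv.sumCompl (fun w : stabilizer W p => ((w : W) : G) ≠ 1)), Nat.card_sum]
    congr 1
    · exact Nat.card_congr
        { toFun := fun w => ⟨⟨w.1, w.2.1⟩, w.2.2⟩
          invFun := fun w => ⟨w.1.1, w.1.2, w.2⟩ }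
    · symm
      rw [Nat.card_eq_one_iff_unique]
      refine ⟨⟨fun x y => ?_⟩, ⟨⟨1, by simp⟩⟩⟩
      have hx := not_not.1 x.2
      have hy := not_not.1 y.2
      ext
      rw [hx, hy]
  have hO : ∀ p : Ω, ∑ q ∈ (orbit W p).toFinset, f q = Nat.card W - Nat.card (orbit W p) := by
    intro p
    have hc : ∀ q ∈ (orbit W p).toFinset, f q + 1 = Nat.card (stabilizer W p) := fun q hq => by
      obtain ⟨w, rfl⟩ := Set.mem_toFinset.1 hq
      rw [hfS, Nat.card_congr (stabilizerEquivStabilizerOfOrbitRel (orbitRel_apply.2 (mem_orbit p w))).toEquiv]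
    have h1 : ∑ q ∈ (orbit W p).toFinset, (f q + 1) = Nat.card (orbit W p) * Nat.card (stabilizer W p) := by
      rw [Finset.sum_congr rfl hc, Finset.sum_const, smul_eq_mul, Set.toFinset_card, Nat.card_eq_fintype_card (α := orbit W p)]
    have h2 := card_orbit_mul_card_stabilizer_eq_card_group W p
    simp only [← Nat.card_eq_fintype_card] at h2
    rw [h2, Finset.sum_add_distrib, Finset.sum_const, smul_eq_mul, mul_one, Set.toFinset_card, ← Nat.card_eq_fintype_card] at h1
    omega
  have hsmall : ∀ p : Ω, 0 < f p → 2 * Nat.card (orbit W p) ≤ Nat.card W := by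
    intro p hp
    have h2 := card_orbit_mul_card_stabilizer_eq_card_group W p
    simp only [← Nat.card_eq_fintype_card] at h2
    rw [← h2, ← hfS p, mul_comm 2]
    exact Nat.mul_le_mul_left _ (by omega)
  have hTO : ∀ p : Ω, T ≤ Nat.card (orbit W p) := fun p => by
    refine Nat.card_le_card_of_injective (fun τ : Elat G P a => (⟨(⟨τ, elat_le_axial τ.2⟩ : W) • p, mem_orbit _ _⟩ : orbit W p)) ?_
    intro x y e
    exact Subtype.ext (elat_stab_eq_bot p.2 x.2 y.2 (congrArg (fun z => (z.1 : Ω).1) e))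
  have hpos : ∀ (C : P) (hC : C ∉ a) (g : G), g ∈ Axial G (P := P) a → g • C = C → g ≠ 1 → 0 < f ⟨C, hC⟩ :=
    fun C hC g hg hgC hg1 => Nat.card_pos_iff.2 ⟨⟨⟨⟨g, hg⟩, Subtype.ext hgC, hg1⟩⟩, inferInstance⟩
  have hdisj : ∀ p q : Ω, 0 < f q → q ∉ orbit W p → ¬ 0 < f p := by
    intro p q hq hpq hp
    have hd : Disjoint (orbit W p).toFinset (orbit W q).toFinset := by
      rw [Finset.disjoint_left]
      intro r hr hr'
      rw [Set.mem_toFinset] at hr hr'
      exact hpq ((orbit_eq_iff.2 hr).symm ▸ (orbit_eq_iff.2 hr') ▸ mem_orbit_self q)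
    have h1 := Finset.sum_le_sum_of_subset (f := f) (Finset.subset_univ ((orbit W p).toFinset ∪ (orbit W q).toFinset))
    rw [Finset.sum_union hd, hO, hO, hB] at h1
    have := hsmall p hp
    have := hsmall q hq
    have hT : 0 < T := Nat.card_pos
    omega
  let c : Ω := ⟨C, hC⟩
  have hc := hpos C hC g hg hgC hg1
  have hd := hpos D hD h hh hhD hh1
  have hDC : (⟨D, hD⟩ : Ω) ∈ orbit W c := by_contra fun e => hdisj c _ hd e hc
  have hout : ∀ q ∉ (orbit W c).toFinset, f q = 0 := fun q hq => by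
    by_contra h0
    exact hdisj c q (Nat.pos_of_ne_zero h0) (by simpa using hq) hc
  have htot : ∑ q ∈ (orbit W c).toFinset, f q = ∑ q : Ω, f q :=
    Finset.sum_subset (Finset.subset_univ _) fun q _ hq => hout q hq
  rw [hO, hB] at htot
  have hcT : T = Nat.card (orbit W c) := by
    have := hsmall c hc
    have := hTO c
    omega
  let φ : Elat G P a → orbit W c := fun τ => ⟨(⟨τ, elat_le_axial τ.2⟩ : W) • c, mem_orbit _ _⟩
  have hφ : Function.Injective φ := fun x y e =>
    Subtype.ext (elat_stab_eq_bot hC x.2 y.2 (congrArg (fun z => (z.1 : Ω).1) e))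
  obtain ⟨τ, hτ⟩ := (hφ.bijective_of_nat_card_le hcT.ge).2 ⟨_, hDC⟩
  exact ⟨τ, τ.2, congrArg (fun z => (z.1 : Ω).1) hτ⟩

/-- The elations with a given axis, counted by centres. -/
theorem card_elat [Finite G] [Fintype P] (a : L) [DecidablePred (fun X : P => X ∈ a)] :
    Nat.card (Elat G P a) = 1 + ∑ X ∈ Finset.univ.filter (fun X : P => X ∈ a), (Nat.card (EC G X a) - 1) := by
  classical
  have h1 : ∀ X : P, X ∈ a → Nat.card (EC G X a) - 1 = Nat.card {τ : EC G X a // τ ≠ 1} := by
    intro X _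
    have := Fintype.ofFinite (EC G X a)
    rw [Nat.card_eq_fintype_card, Nat.card_eq_fintype_card, Fintype.card_subtype_compl, Fintype.card_subtype_eq]
  rw [Finset.sum_congr rfl fun X hX => h1 X (Finset.mem_filter.1 hX).2, ← Finset.sum_coe_sort, ← Nat.card_sigma]
  rw [← Nat.card_congr (Equiv.sumCompl (fun τ : Elat G P a => τ = 1)), Nat.card_sum]
  congr 1
  · rw [Nat.card_eq_one_iff_unique]
    exact ⟨⟨fun x y => Subtype.ext (x.2.trans y.2.symm)⟩, ⟨⟨1, rfl⟩⟩⟩
  refine (Nat.card_congr (Equiv.ofBijective (fun x => ⟨⟨x.2.1.1, ec_le_elat (Finset.mem_filter.1 x.1.2).2 x.2.1.2⟩,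
    fun e => x.2.2 (Subtype.ext (congrArg (fun z : Elat G P a => (z : G)) e))⟩) ⟨?_, ?_⟩)).symm
  · rintro ⟨X, τ, hτ⟩ ⟨Y, σ, hσ⟩ e
    have e' : (τ : G) = σ := congrArg (fun z => ((z.1 : Elat G P a) : G)) e
    obtain rfl : X = Y := Subtype.ext <| by
      by_contra hne
      exact hτ (Subtype.ext (eq_one_of_ec_ec τ.2 (e' ▸ σ.2) hne))
    obtain rfl : τ = σ := Subtype.ext e'
    rfl
  · rintro ⟨τ, hτ⟩
    obtain ⟨X, hX, h⟩ := exists_ec_of_elat τ.2
    exact ⟨⟨⟨X, by simpa using hX⟩, ⟨τ, h⟩, fun e => hτ (Subtype.ext (congrArg (fun z : EC G X a => (z : G)) e))⟩, rfl⟩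

/-- Gleason: if all elation groups with axis `a` have the same order `> 1`, the axis is a translation line. -/
theorem card_elat_eq_sq [Finite G] {a : L} {h : ℕ} (h1 : 1 < h)
    (heq : ∀ X : P, X ∈ a → Nat.card (EC G X a) = h) : Nat.card (Elat G P a) = order P L ^ 2 := by
  classical
  have := Fintype.ofFinite P
  have hc := card_elat (G := G) (P := P) a
  rw [Finset.sum_congr rfl fun X hX => by rw [heq X (Finset.mem_filter.1 hX).2], Finset.sum_const, smul_eq_mul,
    show (Finset.univ.filter fun X : P => X ∈ a).card = order P L + 1 by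
      rw [← nat_card_mem_line (P := P) a, Nat.card_eq_fintype_card, Fintype.card_subtype]] at hc
  obtain ⟨s, hs⟩ := card_elat_dvd (G := G) (P := P) a
  set n := order P L
  have hn : 1 < n := one_lt_order P L
  set T := Nat.card (Elat G P a)
  have hT : n + 2 ≤ T := by
    have : n + 1 ≤ (n + 1) * (h - 1) := Nat.le_mul_of_pos_right _ (by omega)
    omega
  have hsn : s < n := by
    by_contra hns
    push Not at hns
    have : n ^ 2 < T * s := by
      calc n ^ 2 = n * n := sq n
        _ < (n + 2) * n := by nlinarith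
        _ ≤ T * s := Nat.mul_le_mul hT hns
    omega
  -- `s` is congruent to one modulo `n + 1`
  have hmodT : T ≡ 1 [MOD n + 1] := by
    rw [hc]
    exact (Nat.modEq_iff_dvd' (by omega)).2 ⟨h - 1, by omega⟩ |>.symm
  have hn2 : n ^ 2 ≡ 1 [MOD n + 1] := by
    refine ((Nat.modEq_iff_dvd' (Nat.one_le_pow _ _ (by omega))).2 ⟨n - 1, ?_⟩).symm
    obtain ⟨j, hj⟩ : ∃ j, n = j + 1 := ⟨n - 1, by omega⟩
    rw [hj, Nat.add_sub_cancel]
    ring_nf
    omega
  have hs1 : s ≡ 1 [MOD n + 1] := by
    have e : T * s ≡ 1 * s [MOD n + 1] := hmodT.mul_right s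
    rw [one_mul, ← hs] at e
    exact e.symm.trans hn2
  have : s = 1 := by
    rw [Nat.ModEq, Nat.mod_eq_of_lt (by omega), Nat.mod_eq_of_lt (by omega)] at hs1
    exact hs1
  rw [this, mul_one] at hs
  exact hs.symm

/-- Elations with a common axis and different centres commute. -/
theorem commute_of_ne {a : L} {X Y : P} (hXY : X ≠ Y) (hX : X ∈ a) (hY : Y ∈ a) {g h : G} (hg : g ∈ EC G X a) (hh : h ∈ EC G Y a) :
    Commute g h := by
  have hhX : h • X = X := hh.1 X hX
  have hgY : g • Y = Y := hg.1 Y hY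
  have hha : h • a = a := axial_smul_line hh.1
  have hga : g • a = a := axial_smul_line hg.1
  have h1 : h * g * h⁻¹ ∈ EC G X a := by have := conj_mem_ec (g := h) hg; rwa [hhX, hha] at this
  have h2 : g * h * g⁻¹ ∈ EC G Y a := by have := conj_mem_ec (g := g) hh; rwa [hgY, hga] at this
  have e : g * h * g⁻¹ * h⁻¹ = 1 := by
    refine eq_one_of_ec_ec (X := X) (Y := Y) (a := a) ?_ (mul_mem h2 (inv_mem hh)) hXY
    rw [show g * h * g⁻¹ * h⁻¹ = g * (h * g * h⁻¹)⁻¹ by group]
    exact mul_mem hg (inv_mem h1)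
  exact mul_inv_eq_iff_eq_mul.1 (mul_inv_eq_one.1 e)

/-- With two centres the elations of an axis have prime exponent. -/
theorem exists_prime_exponent [Finite G] {a : L} {X Y : P} (hXY : X ≠ Y) (hX : X ∈ a) (hY : Y ∈ a)
    (hX1 : EC G X a ≠ ⊥) (hY1 : EC G Y a ≠ ⊥) :
    ∃ p : ℕ, p.Prime ∧ ∀ τ ∈ Elat G P a, τ ^ p = 1 := by
  obtain ⟨x, hx, hx1⟩ := (Subgroup.ne_bot_iff_exists_ne_one.1 hX1 |>.elim fun x hx => ⟨x.1, x.2, fun e => hx (Subtype.ext e)⟩ : ∃ x, x ∈ EC G X a ∧ x ≠ 1)
  obtain ⟨y, hy, hy1⟩ := (Subgroup.ne_bot_iff_exists_ne_one.1 hY1 |>.elim fun x hx => ⟨x.1, x.2, fun e => hx (Subtype.ext e)⟩ : ∃ x, x ∈ EC G Y a ∧ x ≠ 1)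
  have diff : ∀ (U V : P), U ∈ a → V ∈ a → U ≠ V → ∀ u ∈ EC G U a, ∀ v ∈ EC G V a, u ≠ 1 → v ≠ 1 → orderOf u = orderOf v := by
    have le : ∀ (U V : P), U ∈ a → V ∈ a → U ≠ V → ∀ u ∈ EC G U a, ∀ v ∈ EC G V a, u ≠ 1 → v ≠ 1 → orderOf v ≤ orderOf u := by
      intro U V hU hV hUV u hu v hv hu1 hv1
      by_contra hlt
      push Not at hlt
      obtain ⟨W, hW, hWm⟩ := exists_ec_of_elat (mul_mem (ec_le_elat hU hu) (ec_le_elat hV hv))
      have e : (u * v) ^ orderOf u = v ^ orderOf u := by
        rw [(commute_of_ne hUV hU hV hu hv).mul_pow, pow_orderOf_eq_one, one_mul]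
      have hv' : v ^ orderOf u ≠ 1 := fun e' =>
        absurd (Nat.le_of_dvd (orderOf_pos u) (orderOf_dvd_of_pow_eq_one e')) (not_le.2 hlt)
      have hWV : W ≠ V := by
        rintro rfl
        exact hu1 (eq_one_of_ec_ec hu (by simpa using mul_mem hWm (inv_mem hv)) hUV)
      exact hv' (eq_one_of_ec_ec (e ▸ pow_mem hWm _) (pow_mem hv _) hWV)
    intro U V hU hV hUV u hu v hv hu1 hv1
    exact le_antisymm (le V U hV hU hUV.symm v hv u hu hv1 hu1) (le U V hU hV hUV u hu v hv hu1 hv1)
  have all : ∀ τ ∈ Elat G P a, τ ≠ 1 → orderOf τ = orderOf x := by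
    intro τ hτ hτ1
    obtain ⟨W, hW, hWm⟩ := exists_ec_of_elat hτ
    by_cases hWX : W = X
    · subst hWX
      rw [diff W Y hW hY hXY τ hWm y hy hτ1 hy1, ← diff W Y hW hY hXY x hx y hy hx1 hy1]
    · exact diff W X hW hX hWX τ hWm x hx hτ1 hx1
  obtain ⟨p, hp, hpd⟩ := Nat.exists_prime_and_dvd (n := orderOf x) (by rwa [Ne, orderOf_eq_one_iff])
  refine ⟨p, hp, fun τ hτ => ?_⟩
  have hox : orderOf x = p := by
    have he : orderOf (x ^ (orderOf x / p)) = p := by
      rw [orderOf_pow_of_dvd (Nat.div_pos (Nat.le_of_dvd (orderOf_pos x) hpd) hp.pos).ne'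
        (Nat.div_dvd_of_dvd hpd), Nat.div_div_self hpd (orderOf_pos x).ne']
    rw [← he]
    refine (all _ (pow_mem (ec_le_elat hX hx) _) fun e => ?_).symm
    rw [e, orderOf_one] at he
    exact hp.one_lt.ne he
  by_cases hτ1 : τ = 1
  · rw [hτ1, one_pow]
  · rw [← hox, ← all τ hτ hτ1, pow_orderOf_eq_one]

end

section Gleason

theorem modEq_of_eq {a b n : ℕ} (h : a = b) : a ≡ b [MOD n] := h ▸ Nat.ModEq.refl a

variable {G : Type*} [Group G] [Finite G] {Ω : Type*} [Finite Ω] [MulAction G Ω]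

/-- An element of order `p` with a unique fixed point in each invariant set controls its size. -/
theorem card_invariant_modEq {p : ℕ} [Fact p.Prime] {g : G} (hg : g ^ p = 1) (s : Set Ω)
    (hs : ∀ x ∈ s, g • x ∈ s) : Nat.card s ≡ Nat.card {x : Ω // x ∈ s ∧ g • x = x} [MOD p] := by
  have hs' : ∀ (k : ℕ), ∀ x ∈ s, g ^ k • x ∈ s := by
    intro k
    induction k with
    | zero => simp
    | succ k ih => intro x hx; rw [pow_succ', mul_smul]; exact hs _ (ih x hx)
  have hmem : ∀ (k : Subgroup.zpowers g), ∀ x ∈ s, (k : G) • x ∈ s := fun k x hx => by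
    obtain ⟨j, hj⟩ := (Submonoid.mem_powers_iff _ _).1 (mem_powers_iff_mem_zpowers.2 k.2)
    rw [← hj]; exact hs' j x hx
  letI : MulAction (Subgroup.zpowers g) s :=
    { smul := fun k x => ⟨(k : G) • x.1, hmem k x.1 x.2⟩
      one_smul := fun x => Subtype.ext (one_smul G x.1)
      mul_smul := fun a b x => Subtype.ext (mul_smul (a : G) (b : G) x.1) }
  have hp : IsPGroup p (Subgroup.zpowers g) := by
    rintro ⟨k, hk⟩
    refine ⟨1, Subtype.ext ?_⟩
    obtain ⟨j, rfl⟩ := Subgroup.mem_zpowers_iff.1 hk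
    show (g ^ j) ^ (p ^ 1) = 1
    rw [pow_one, ← zpow_natCast (g ^ j), ← zpow_mul, mul_comm, zpow_mul, zpow_natCast, hg, one_zpow]
  refine (hp.card_modEq_card_fixedPoints s).trans (modEq_of_eq ?_)
  refine Nat.card_congr
    { toFun := fun x => ⟨x.1.1, x.1.2, congrArg Subtype.val (x.2 ⟨g, Subgroup.mem_zpowers g⟩)⟩
      invFun := fun x => ⟨⟨x.1, x.2.1⟩, fun k => Subtype.ext ?_⟩ }
  obtain ⟨j, hj⟩ := Subgroup.mem_zpowers_iff.1 k.2
  show (k : G) • x.1 = x.1
  rw [← hj]
  exact Subgroup.zpow_mem (stabilizer G x.1) x.2.2 j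

/-- Gleason's lemma. -/
theorem pretransitive_of_unique_fixed {p : ℕ} [Fact p.Prime]
    (h : ∀ x : Ω, ∃ g : G, g ^ p = 1 ∧ g • x = x ∧ ∀ y, g • y = y → y = x) (x y : Ω) :
    ∃ g : G, g • x = y := by
  by_contra hne
  push Not at hne
  have key : ∀ z : Ω, Nat.card (orbit G x) ≡ Nat.card {w : Ω // w ∈ orbit G x ∧ w = z} [MOD p] := by
    intro z
    obtain ⟨g, hg, hgz, huniq⟩ := h z
    refine (card_invariant_modEq hg (orbit G x) fun w hw => ?_).trans (modEq_of_eq (Nat.card_congr (Equiv.subtypeEquivRight fun w => ?_)))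
    · obtain ⟨k, rfl⟩ := hw
      exact ⟨g * k, mul_smul g k x⟩
    · exact and_congr_right fun _ => ⟨huniq w, fun e => e ▸ hgz⟩
  have h1 : Nat.card {w : Ω // w ∈ orbit G x ∧ w = x} = 1 :=
    Nat.card_eq_one_iff_unique.2 ⟨⟨fun a b => Subtype.ext (a.2.2.trans b.2.2.symm)⟩, ⟨⟨x, mem_orbit_self x, rfl⟩⟩⟩
  have h0 : Nat.card {w : Ω // w ∈ orbit G x ∧ w = y} = 0 := by
    have : IsEmpty {w : Ω // w ∈ orbit G x ∧ w = y} := ⟨fun ⟨w, ⟨g, hg⟩, hw⟩ => hne g (hg.trans hw)⟩
    exact Nat.card_of_isEmpty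
  have := (key x).symm.trans (key y)
  rw [h1, h0] at this
  have hp := (Fact.out : p.Prime).one_lt
  rw [Nat.ModEq, Nat.one_mod_eq_one.2 hp.ne', Nat.zero_mod] at this
  omega

/-- Parity lemma: if any two points are exactly the fixed points of an involution, the group is transitive. -/
theorem pretransitive_of_exact_pairs (hcard : 2 < Nat.card Ω)
    (h : ∀ x y : Ω, x ≠ y → ∃ g : G, g ^ 2 = 1 ∧ ∀ z, g • z = z ↔ z = x ∨ z = y) (x y : Ω) :
    ∃ g : G, g • x = y := by
  classical
  by_contra hne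
  push Not at hne
  have hxy : x ≠ y := fun e => hne 1 (by rw [one_smul, e])
  have key : ∀ (o u v : Ω), u ≠ v → Nat.card (orbit G o) ≡ Nat.card {w : Ω // w ∈ orbit G o ∧ (w = u ∨ w = v)} [MOD 2] := by
    intro o u v huv
    obtain ⟨g, hg, hfix⟩ := h u v huv
    refine (card_invariant_modEq hg (orbit G o) fun w hw => ?_).trans (modEq_of_eq (Nat.card_congr (Equiv.subtypeEquivRight fun w => and_congr_right fun _ => hfix w)))
    obtain ⟨k, rfl⟩ := hw
    exact ⟨g * k, mul_smul g k o⟩
  -- every orbit is a single point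
  have single : ∀ o o' : Ω, o' ∈ orbit G o → o' = o := by
    intro o o' ho
    by_contra hne'
    obtain ⟨z, hz⟩ : ∃ z : Ω, z ∉ orbit G o := by
      by_contra hall
      push Not at hall
      obtain ⟨g, hg⟩ := hall x
      obtain ⟨g', hg'⟩ := hall y
      exact hne (g' * g⁻¹) (by rw [mul_smul, ← hg]; simpa using hg')
    have hzo : o ≠ z := fun e => hz (e ▸ mem_orbit_self o)
    have e1 : Nat.card {w : Ω // w ∈ orbit G o ∧ (w = o ∨ w = z)} = 1 :=
      Nat.card_eq_one_iff_unique.2 ⟨⟨fun a b => Subtype.ext (by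
        have ha : a.1 = o := a.2.2.resolve_right fun e => hz (e ▸ a.2.1)
        have hb : b.1 = o := b.2.2.resolve_right fun e => hz (e ▸ b.2.1)
        rw [ha, hb])⟩, ⟨⟨o, mem_orbit_self o, .inl rfl⟩⟩⟩
    have e2 : Nat.card {w : Ω // w ∈ orbit G o ∧ (w = o ∨ w = o')} = 2 := by
      rw [show 2 = Nat.card ({o, o'} : Set Ω) by rw [Nat.card_coe_set_eq, Set.ncard_pair (Ne.symm hne')]]
      refine Nat.card_congr (Equiv.subtypeEquivRight fun w => ⟨fun hw => by simpa using hw.2, fun hw => ?_⟩)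
      rcases (by simpa using hw : w = o ∨ w = o') with rfl | rfl
      · exact ⟨mem_orbit_self _, .inl rfl⟩
      · exact ⟨ho, .inr rfl⟩
    have := (key o o z hzo).symm.trans (key o o o' (Ne.symm hne'))
    rw [e1, e2] at this
    exact absurd this (by decide)
  obtain ⟨g, -, hfix⟩ := h x y hxy
  obtain ⟨z, hz⟩ : ∃ z : Ω, z ≠ x ∧ z ≠ y := by
    by_contra hall
    push Not at hall
    have : Nat.card (Set.univ : Set Ω) ≤ Nat.card ({x, y} : Set Ω) := Nat.card_mono (Set.toFinite _) fun w _ => by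
      by_cases hw : w = x
      · exact .inl hw
      · exact .inr (hall w hw)
    rw [Nat.card_coe_set_eq, Set.ncard_univ, Nat.card_coe_set_eq, Set.ncard_pair hxy] at this
    omega
  exact (not_or.2 ⟨hz.1, hz.2⟩) ((hfix z).1 (single z _ (mem_orbit z g)))

end Gleason

end CfsgLib.Plane
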